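import Cfsg.Agent.Lib.Rk3B.Gl
import Cfsg.Agent.Lib.PGroup.Basic
import Cfsg.Agent.S3776

/-!
`C` is abelian  (plans/RK3B.md, package AB)
-/

set_option autoImplicit false

namespace CfsgLib.Rk3B

open Subgroup Cfsg CfsgLib.Tech CfsgLib.W2 CfsgLib.Rk3
open scoped commutatorElement

namespace AB

theorem dvd_card {V : Type*} [Group V] [Fintype V] (K : Subgroup V) (N : Finset V)
    (h : ∀ n ∈ N, ∀ k ∈ K, n * k ∈ N) : Nat.card K ∣ N.card := by
  have e : (N : Set V) = QuotientGroup.mk ⁻¹' ((QuotientGroup.mk : V → V ⧸ K) '' N) := by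
    refine Set.Subset.antisymm (Set.subset_preimage_image _ _) ?_
    rintro x ⟨n, hn, e⟩
    have := h n hn _ (QuotientGroup.eq.1 e)
    rwa [mul_inv_cancel_left] at this
  have := QuotientGroup.card_preimage_mk K ((QuotientGroup.mk : V → V ⧸ K) '' N)
  rw [← e] at this
  simp only [Finset.coe_sort_coe, Nat.card_eq_fintype_card, Fintype.card_coe] at this
  rw [this]
  exact dvd_mul_right _ _

theorem even_card {V : Type*} (N : Finset V) (f : V → V) (h1 : ∀ v ∈ N, f v ∈ N) (h2 : ∀ v, f (f v) = v)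
    (h3 : ∀ v ∈ N, f v ≠ v) : Even N.card := by
  have := Finset.sum_involution (s := N) (f := fun _ => (1 : ZMod 2)) (fun v _ => f v)
    (fun _ _ => by decide) (fun v hv _ => h3 v hv) (fun v hv => h1 v hv) (fun v _ => h2 v)
  rw [Finset.sum_const, nsmul_eq_mul, mul_one] at this
  exact (ZMod.natCast_eq_zero_iff_even).1 this

/-- the counting argument in `V = C / A` -/
theorem count {V H : Type*} [Group V] [Fintype V] [Group H] [DecidableEq H] (hV : IsPGroup 2 V)
    (vv : ∀ v : V, v * v = 1) (q : V → H) (Z : Finset H) (hZ : Z.card = 8) (h1Z : (1 : H) ∈ Z)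
    (qZ : ∀ v, q v ∈ Z) (q1 : ∀ v, q v = 1 ↔ v = 1) {z u : H} (zz : z * z = 1) (uu : u * u = 1)
    (zu : z * u = u * z) (z1 : z ≠ 1) (u1 : u ≠ 1) (uz : u ≠ z) (zZ : z ∈ Z) (uZ : u ∈ Z) (zuZ : z * u ∈ Z)
    {m : ℕ} (hm : ∀ a ∈ Z, a ≠ 1 → (Finset.univ.filter fun v => q v = a).card = m)
    (τ : V →* V) (ττ : ∀ v, τ (τ v) = v) (τu : ∀ v, q v = u → q (τ v) = u)
    (τF : ∀ v, τ v = v → q v = 1 ∨ q v = z ∨ q v = u ∨ q v = z * u)
    (τB : ∀ v f, τ f = f → q (v * τ v * f) = q (v * τ v) * q f ∨ q (v * τ v * f) = q (v * τ v) * q f * z)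
    (σ : V → V) (σi : Function.Injective σ) (σF : ∀ v, τ v = v → τ (σ v) = σ v)
    (σu : ∀ v, q v = u → q (σ v) = z * u) (σzu : ∀ v, q v = z * u → q (σ v) = u) : m ≤ 1 := by
  classical
  haveI : Fact (Nat.Prime 2) := ⟨Nat.prime_two⟩
  have cV : ∀ a b : V, a * b = b * a := fun a b => by
    rw [← inv_eq_of_mul_eq_one_right (vv (a * b)), mul_inv_rev, inv_eq_of_mul_eq_one_right (vv a),
      inv_eq_of_mul_eq_one_right (vv b)]
  have zu1 : z * u ≠ 1 := fun e => uz (by
    rw [eq_inv_of_mul_eq_one_right e, inv_eq_of_mul_eq_one_right zz])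
  have zuu : z * u ≠ u := fun e => z1 (mul_eq_right.1 e)
  have zuz : z * u ≠ z := fun e => u1 (mul_eq_left.1 e)
  have f1 : (Finset.univ.filter fun v => q v = 1).card = 1 := by
    rw [Finset.card_eq_one]; exact ⟨1, by ext v; simp [q1]⟩
  have cardV : Fintype.card V = 1 + 7 * m := by
    rw [← Finset.card_univ, Finset.card_eq_sum_card_fiberwise (f := q) (t := Z) (fun v _ => qZ v),
      ← Finset.add_sum_erase _ _ h1Z, f1, Finset.sum_congr rfl (g := fun _ => m)
        (fun a ha => hm a (Finset.mem_of_mem_erase ha) (Finset.ne_of_mem_erase ha)),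
      Finset.sum_const, Finset.card_erase_of_mem h1Z, hZ, smul_eq_mul]
  by_contra hm1
  obtain ⟨k, hk⟩ := hV.exists_card_eq
  rw [Nat.card_eq_fintype_card] at hk
  have mo : Odd m := by
    rcases k with _ | k
    · omega
    · rw [pow_succ] at hk
      rw [← Nat.not_even_iff_odd]
      rintro ⟨j, rfl⟩
      omega
  let φ : V →* V := MonoidHom.mk' (fun v => v * τ v) fun a b => by
    rw [map_mul, mul_assoc, mul_assoc, ← mul_assoc b, cV b, mul_assoc]
  have hφ : ∀ v, φ v = v * τ v := fun _ => rfl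
  have hker : ∀ v, v ∈ φ.ker ↔ τ v = v := fun v => by
    rw [MonoidHom.mem_ker, hφ, mul_eq_one_iff_inv_eq, inv_eq_of_mul_eq_one_right (vv v), eq_comm]
  have hrF : ∀ v, τ (v * τ v) = v * τ v := fun v => by rw [map_mul, ττ, cV]
  have hcard : Fintype.card V = Nat.card φ.range * Nat.card φ.ker := by
    rw [← Nat.card_eq_fintype_card, card_eq_card_quotient_mul_card_subgroup φ.ker,
      Nat.card_congr (QuotientGroup.quotientKerEquivRange φ).toEquiv]
  set F := Finset.univ.filter fun v => τ v = v with hF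
  have cF : Nat.card φ.ker = F.card := by
    rw [Nat.card_eq_fintype_card, Fintype.card_subtype]
    congr 1; ext v; simp [hF, hker]
  have rF : Nat.card φ.range ≤ F.card := by
    rw [← cF]
    exact card_le_of_le (by rintro _ ⟨v, rfl⟩; exact (hker _).2 (hrF v))
  set Fu := F.filter fun v => q v = u with hFu
  set Fzu := F.filter fun v => q v = z * u with hFzu
  set N := F.filter fun v => q v = u ∨ q v = z * u with hN
  have e1 : Fu.card = Fzu.card := by
    refine le_antisymm (Finset.card_le_card_of_injOn σ (fun v hv => ?_) σi.injOn)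
      (Finset.card_le_card_of_injOn σ (fun v hv => ?_) σi.injOn)
    · simp only [hFu, hFzu, hF, Finset.coe_filter, Finset.mem_filter, Finset.mem_univ, true_and,
        Set.mem_setOf_eq] at hv ⊢
      exact ⟨σF v hv.1, σu v hv.2⟩
    · simp only [hFu, hFzu, hF, Finset.coe_filter, Finset.mem_filter, Finset.mem_univ, true_and,
        Set.mem_setOf_eq] at hv ⊢
      exact ⟨σF v hv.1, σzu v hv.2⟩
  have cN : N.card = 2 * Fu.card := by
    rw [hN, Finset.filter_or, Finset.card_union_of_disjoint, two_mul, ← e1]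
    exact Finset.disjoint_filter.2 fun v _ h1 h2 => zuu (h2.symm.trans h1)
  have uo : Odd Fu.card := by
    have h1 := Finset.card_filter_add_card_filter_not (s := Finset.univ.filter fun v => q v = u)
      fun v => τ v = v
    rw [hm u uZ u1] at h1
    have h2 : ((Finset.univ.filter fun v => q v = u).filter fun v => τ v = v) = Fu := by
      ext v; simp [hFu, hF, and_comm]
    have h3 := even_card ((Finset.univ.filter fun v => q v = u).filter fun v => ¬ τ v = v) τ
      (fun v hv => by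
        simp only [Finset.mem_filter, Finset.mem_univ, true_and] at hv ⊢
        exact ⟨τu v hv.1, by rw [ττ]; exact fun e => hv.2 e.symm⟩) ττ
      (fun v hv => (Finset.mem_filter.1 hv).2)
    rw [h2] at h1
    rw [← h1, Nat.odd_add, iff_true_intro h3, iff_true] at mo
    exact mo
  have pw : ∀ K : Subgroup V, ∀ n, Nat.card K ∣ 2 ^ n * Fu.card → Nat.card K ≤ 2 ^ n := fun K n h => by
    obtain ⟨j, hj⟩ := (hV.to_subgroup K).exists_card_eq
    rw [hj] at h ⊢
    exact Nat.le_of_dvd (by positivity)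
      ((Nat.Coprime.pow_left j (Nat.coprime_two_left.2 uo)).dvd_of_dvd_mul_right h)
  have m1 : u * u = 1 := uu
  have m2 : u * (z * u) = z := by rw [← mul_assoc, ← zu, mul_assoc, uu, mul_one]
  have m3 : z * u * u = z := by rw [mul_assoc, uu, mul_one]
  have m4 : z * u * (z * u) = 1 := by rw [mul_assoc, m2, zz]
  have m5 : z * u * z = u := by rw [mul_assoc, ← zu, ← mul_assoc, zz, one_mul]
  have m6 : z * (z * u) = u := by rw [← mul_assoc, zz, one_mul]
  by_cases hA : ∃ v, q (v * τ v) = u ∨ q (v * τ v) = z * u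
  · obtain ⟨v, hv⟩ := hA
    have hi : Function.Injective fun f => v * τ v * f := mul_right_injective _
    have h1 := Finset.card_filter_add_card_filter_not (s := F) fun v => q v = u ∨ q v = z * u
    have h2 : N.card = (F.filter fun v => ¬ (q v = u ∨ q v = z * u)).card := by
      refine le_antisymm (Finset.card_le_card_of_injOn _ (fun f hf => ?_) hi.injOn)
        (Finset.card_le_card_of_injOn _ (fun f hf => ?_) hi.injOn)
      · simp only [hN, hF, Finset.coe_filter, Finset.mem_filter, Finset.mem_univ, true_and,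
          Set.mem_setOf_eq] at hf ⊢
        refine ⟨by rw [map_mul, hrF, hf.1], ?_⟩
        rcases τB v f hf.1 with e | e <;> rcases hv with h | h <;> rcases hf.2 with h' | h' <;>
          rw [e, h, h'] <;> simp [m1, m2, m3, m4, zz, u1.symm, zu1.symm, uz.symm, zuz.symm]
      · simp only [hN, hF, Finset.coe_filter, Finset.mem_filter, Finset.mem_univ, true_and,
          Set.mem_setOf_eq] at hf ⊢
        refine ⟨by rw [map_mul, hrF, hf.1], ?_⟩
        have h' : q f = 1 ∨ q f = z := by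
          rcases τF f hf.1 with e | e | e | e
          exacts [Or.inl e, Or.inr e, absurd (Or.inl e) hf.2, absurd (Or.inr e) hf.2]
        rcases τB v f hf.1 with e | e <;> rcases hv with h | h <;> rcases h' with h' | h' <;>
          rw [e, h, h'] <;> simp [m5, ← zu]
    have h3 : Nat.card φ.ker = 2 ^ 2 * Fu.card := by rw [cF, ← h1, ← h2, ← hN, cN]; ring
    have h4 := pw φ.ker 2 (by rw [h3])
    have h5 : Nat.card φ.range * Nat.card φ.ker ≤ 4 * 4 := Nat.mul_le_mul (by omega) (by omega)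
    obtain ⟨j, rfl⟩ := mo
    omega
  · push Not at hA
    have h1 : Nat.card φ.range ∣ N.card := dvd_card _ _ (by
      rintro f hf _ ⟨v, rfl⟩
      simp only [hN, hF, Finset.mem_filter, Finset.mem_univ, true_and] at hf ⊢
      rw [hφ, cV]
      refine ⟨by rw [map_mul, hrF, hf.1], ?_⟩
      have h : q (v * τ v) = 1 ∨ q (v * τ v) = z := by
        rcases τF _ (hrF v) with e | e | e | e
        exacts [Or.inl e, Or.inr e, absurd e (hA v).1, absurd e (hA v).2]
      rcases τB v f hf.1 with e | e <;> rcases h with h | h <;> rcases hf.2 with h' | h' <;>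
        rw [e, h, h'] <;> simp [m5, m6, ← zu])
    have h2 := pw φ.range 1 (by rwa [pow_one, ← cN])
    have h3 : F.card ≤ 1 + m + m + m := by
      have hs : F ⊆ (Finset.univ.filter fun v => q v = 1) ∪ (Finset.univ.filter fun v => q v = z) ∪
          (Finset.univ.filter fun v => q v = u) ∪ (Finset.univ.filter fun v => q v = z * u) := by
        intro v hv
        have := τF v (Finset.mem_filter.1 hv).2
        simp only [Finset.mem_union, Finset.mem_filter, Finset.mem_univ, true_and]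
        tauto
      refine (Finset.card_le_card hs).trans ((Finset.card_union_le _ _).trans (add_le_add
        ((Finset.card_union_le _ _).trans (add_le_add ((Finset.card_union_le _ _).trans (add_le_add ?_ ?_)) ?_)) ?_))
      exacts [f1.le, (hm z zZ z1).le, (hm u uZ u1).le, (hm _ zuZ zu1).le]
    have h5 : Nat.card φ.range * Nat.card φ.ker ≤ 2 * (1 + m + m + m) := Nat.mul_le_mul (by omega) (by omega)
    omega

/-- the squaring map is injective modulo the centre -/
theorem core {H : Type*} [Group H] [Finite H] (hp : IsPGroup 2 H) (hz : ∀ x : H, x ∈ center H ↔ x * x = 1)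
    (hsq : ∀ x : H, x * x ∈ center H) (hc : ∀ x y : H, x * y * x⁻¹ * y⁻¹ ∈ center H)
    (h8 : Nat.card (center H) = 8) {z u : H} (zz : z * z = 1) (uu : u * u = 1) (z1 : z ≠ 1) (u1 : u ≠ 1)
    (uz : u ≠ z) (tr : ∀ a ∈ center H, a ≠ 1 → ∃ α : MulAut H, α z = a) (τ σ : MulAut H)
    (ττ : ∃ k, ∀ x, τ (τ x) = k * x * k⁻¹) (τu : τ u = u)
    (τZ : ∀ a ∈ center H, τ a = a ∨ τ a = a * z)
    (τF : ∀ a ∈ center H, τ a = a → a = 1 ∨ a = z ∨ a = u ∨ a = z * u)
    (σz : σ z = z) (σu : σ u = z * u) (στ : ∃ k, ∀ x, τ (σ x) = σ (k * τ x * k⁻¹)) :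
    ∀ x y : H, x * x = y * y → x⁻¹ * y ∈ center H := by
  classical
  haveI := Fintype.ofFinite H
  haveI := Fintype.ofFinite (H ⧸ center H)
  have cz : ∀ a ∈ center H, ∀ x, a * x = x * a := fun a ha x => (mem_center_iff.1 ha x).symm
  have zZ := (hz z).2 zz
  have uZ := (hz u).2 uu
  have sqz : ∀ x, ∀ a ∈ center H, x * a * (x * a) = x * x := fun x a ha => by
    rw [mul_assoc, ← mul_assoc a, cz a ha, mul_assoc, (hz a).1 ha, mul_one]
  obtain ⟨q, hq⟩ : ∃ q : H ⧸ center H → H, ∀ x : H, q x = x * x :=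
    ⟨Quotient.lift (fun x => x * x) fun a b h => by
      have := sqz a _ (QuotientGroup.leftRel_apply.1 h)
      rw [mul_inv_cancel_left] at this
      exact this.symm, fun _ => rfl⟩
  have ind : ∀ α : MulAut H, ∃ a : H ⧸ center H →* H ⧸ center H, (∀ x : H, a x = (α x : H)) ∧
      Function.Injective a ∧ ∀ v, q (a v) = α (q v) := fun α => by
    have h1 : ∀ x, α x ∈ center H ↔ x ∈ center H := fun x => by
      rw [hz, hz, ← map_mul, map_eq_one_iff _ α.injective]
    refine ⟨QuotientGroup.map _ _ α.toMonoidHom fun x hx => (h1 x).2 hx, fun _ => rfl, ?_, ?_⟩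
    · rw [injective_iff_map_eq_one]
      intro v hv
      obtain ⟨x, rfl⟩ := QuotientGroup.mk_surjective v
      exact (QuotientGroup.eq_one_iff _).2 ((h1 x).1 ((QuotientGroup.eq_one_iff _).1 hv))
    · intro v
      obtain ⟨x, rfl⟩ := QuotientGroup.mk_surjective v
      rw [hq, map_mul]
      exact hq _
  have cjq : ∀ k x : H, ((k * x * k⁻¹ : H) : H ⧸ center H) = x := fun k x => by
    rw [eq_comm, QuotientGroup.eq]
    have := hc x⁻¹ k
    rw [inv_inv] at this
    simpa only [mul_assoc] using this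
  have q1 : ∀ v, q v = 1 ↔ v = 1 := fun v => by
    obtain ⟨x, rfl⟩ := QuotientGroup.mk_surjective v
    rw [hq, QuotientGroup.eq_one_iff, hz]
  have qZ : ∀ v, q v ∈ center H := fun v => by
    obtain ⟨x, rfl⟩ := QuotientGroup.mk_surjective v
    rw [hq]; exact hsq x
  have hm : ∀ a ∈ center H, a ≠ 1 → (Finset.univ.filter fun v => q v = a).card =
      (Finset.univ.filter fun v => q v = z).card := fun a ha a1 => by
    obtain ⟨α, rfl⟩ := tr a ha a1
    obtain ⟨a, -, i1, e1⟩ := ind α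
    obtain ⟨b, -, i2, e2⟩ := ind α⁻¹
    refine le_antisymm (Finset.card_le_card_of_injOn b (fun v hv => ?_) i2.injOn)
      (Finset.card_le_card_of_injOn a (fun v hv => ?_) i1.injOn)
    · simp only [Finset.coe_filter, Finset.mem_univ, true_and, Set.mem_setOf_eq] at hv ⊢
      rw [e2, hv]; simp
    · simp only [Finset.coe_filter, Finset.mem_univ, true_and, Set.mem_setOf_eq] at hv ⊢
      rw [e1, hv]
  obtain ⟨t, t0, -, t1⟩ := ind τ
  obtain ⟨s, s0, si, s1⟩ := ind σ
  obtain ⟨k, hk⟩ := ττ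
  obtain ⟨l, hl⟩ := στ
  have zu : z * u = u * z := cz z zZ u
  have key := count (hp.to_quotient (center H)) (fun v => by
      obtain ⟨x, rfl⟩ := QuotientGroup.mk_surjective v
      rw [← QuotientGroup.mk_mul, QuotientGroup.eq_one_iff]; exact hsq x) q
    (Finset.univ.filter fun a => a ∈ center H)
    (by rw [← h8, Nat.card_eq_fintype_card, Fintype.card_subtype]) (by simp) (fun v => by simpa using qZ v) q1
    zz uu zu z1 u1 uz (by simpa using zZ) (by simpa using uZ) (by simpa using mul_mem zZ uZ)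
    (fun a ha => hm a (by simpa using ha)) t
    (fun v => by
      obtain ⟨x, rfl⟩ := QuotientGroup.mk_surjective v
      rw [t0, t0, hk, cjq])
    (fun v hv => by rw [t1, hv, τu]) (fun v hv => τF _ (qZ v) (by rw [← t1, hv]))
    (fun v f hf => by
      obtain ⟨x, rfl⟩ := QuotientGroup.mk_surjective v
      obtain ⟨y, rfl⟩ := QuotientGroup.mk_surjective f
      rw [t0] at hf
      obtain ⟨a, ha, e⟩ : ∃ a ∈ center H, τ y = y * a :=
        ⟨y⁻¹ * τ y, QuotientGroup.eq.1 hf.symm, by group⟩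
      rw [t0, ← QuotientGroup.mk_mul, ← QuotientGroup.mk_mul, hq, hq, hq]
      obtain ⟨b, hb, e1⟩ : ∃ b ∈ center H, y * x = x * y * b :=
        ⟨(x * y)⁻¹ * (y * x), by simpa [mul_assoc] using hc y⁻¹ x⁻¹, by group⟩
      have e2 : y * τ x = τ x * y * τ b := by
        have := congrArg τ e1
        rw [map_mul, map_mul, map_mul, e, mul_assoc y, cz a ha, ← mul_assoc, ← mul_assoc,
          mul_assoc _ a, cz a ha, ← mul_assoc] at this
        exact mul_right_cancel this
      have hb' : τ b ∈ center H := by rw [hz, ← map_mul, (hz b).1 hb, map_one]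
      have e3 : x * τ x * y * (x * τ x * y) = x * τ x * (x * τ x) * (y * y) * (b * τ b) := by
        calc _ = x * τ x * (y * x) * τ x * y := by simp only [mul_assoc]
          _ = x * τ x * x * (y * τ x) * y * b := by
            rw [e1, ← mul_assoc, mul_assoc _ b, cz b hb, ← mul_assoc, mul_assoc _ b, cz b hb]
            simp only [mul_assoc]
          _ = _ := by
            rw [e2, ← mul_assoc, mul_assoc _ (τ b), cz _ hb', ← mul_assoc, mul_assoc _ (τ b), cz _ hb']
            simp only [mul_assoc]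
      rw [e3]
      rcases τZ b hb with e4 | e4
      · left; rw [e4, (hz b).1 hb, mul_one]
      · right; rw [e4, ← mul_assoc b, (hz b).1 hb, one_mul])
    s si (fun v hv => by
      obtain ⟨x, rfl⟩ := QuotientGroup.mk_surjective v
      rw [s0, t0, hl, ← s0, ← s0, cjq, ← t0, hv])
    (fun v hv => by rw [s1, hv, σu])
    (fun v hv => by rw [s1, hv, map_mul, σz, σu, ← mul_assoc, zz, one_mul])
  intro x y h
  rw [← QuotientGroup.eq]
  by_cases h1 : x * x = 1
  · rw [(q1 _).1 ((hq x).trans h1), (q1 _).1 ((hq y).trans (h.symm.trans h1))]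
  · rw [← hm _ (hsq x) h1] at key
    exact Finset.card_le_one.1 key _ (by simp [hq]) _ (by simp [hq, h])

end AB

variable {G : Type*} [Group G] [Finite G] {S : Subgroup G} {z u g e : G}

theorem Q.ab (rk : PRankLE 2 3 G) (q : Q S z u g e) (gl : GLP S z u e) :
    ∀ a ∈ S ⊓ Cx u ⊓ Cx e, ∀ b ∈ S ⊓ Cx u ⊓ Cx e, a * b = b * a := by
  haveI : Fact (Nat.Prime 2) := ⟨Nat.prime_two⟩
  by_contra hne
  have c := q.c
  have n := q.n
  have elA := n.elE c
  have zA : z ∈ V3 z u e := V2_le_V3 _ _ _ (l_V2 _ _)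
  have uA : u ∈ V3 z u e := V2_le_V3 _ _ _ (r_V2 _ _)
  have eA : e ∈ V3 z u e := r_V3 _ _ _
  have ez := n.ez c
  have eu := n.eu
  have AC := q.A_le
  have omC := fun {x : G} => q.omC rk (c := x)
  have cA := fun {x a : G} => q.cA (c := x) (a := a)
  have big : Bg S z u e := by
    by_contra h
    refine hne fun a ha b hb => cA ha ?_
    by_contra hb'
    exact h ⟨b, hb, hb'⟩
  obtain ⟨c0, i0, s0⟩ := q.exists_in1 rk big (l_V2 z u)
  obtain ⟨c1, i1, s1⟩ := q.exists_in1 rk big (r_V2 z u)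
  have i01 := q.in1_mul i0 i1
  have s01 := q.in1_sq rk i01
  obtain ⟨t, tT, te⟩ := n.onto rk c (l_V2 z u)
  obtain ⟨s, sS, su⟩ := c.out
  have hN : ∀ s ∈ S, s ∈ normalizer ((S ⊓ Cx u ⊓ Cx e : Subgroup G) : Set G) := fun s hs =>
    mem_normalizer_of_cj_le (cj_le_iff.2 fun x hx => q.conj_C hs hx)
  have ttC := q.sqC tT
  have t'T : s⁻¹ * t * s⁻¹⁻¹ ∈ S ⊓ Cx u := c.conj_T (inv_mem sS) tT
  have kC : s⁻¹ * t * s⁻¹⁻¹ * t⁻¹ ∈ S ⊓ Cx u ⊓ Cx e := by
    refine mem_inf.2 ⟨mul_mem t'T (inv_mem tT), mem_Cx.2 ((cm_eq_one n.ee).1 ?_)⟩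
    have h1 := n.cm_mul c (mul_mem t'T (inv_mem tT)) tT
    rw [inv_mul_cancel_right, n.cm_conj c (inv_mem sS) tT, te, c.zc _ (inv_mem sS), mul_inv_cancel_right] at h1
    exact mul_eq_right.1 h1.symm
  have pC : IsPGroup 2 (S ⊓ Cx u ⊓ Cx e : Subgroup G) := c.syl.pgroup.to_le (inf_le_left.trans inf_le_left)
  have hgl := gl
  unfold GLP at hgl
  have c0C := i0.1
  have c1C := i1.1
  generalize (S ⊓ Cx u ⊓ Cx e : Subgroup G) = C at hne AC omC cA hN ttC kC pC hgl c0C c1C
  have hna : ¬ IsMulCommutative C := fun h =>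
    hne fun a ha b hb => congrArg Subtype.val (h.is_comm.comm (⟨a, ha⟩ : C) ⟨b, hb⟩)
  have aut : ∀ m ∈ normalizer (C : Set G), ∃ α : MulAut C, ∀ x : C, (α x : G) = m * x * m⁻¹ :=
    fun m hm => ⟨C.normalizerMonoidHom ⟨m, hm⟩, fun _ => rfl⟩
  have e1 : e ≠ 1 := fun h => n.nU (h ▸ one_mem _)
  obtain ⟨φ, hφ, φz, φu, φe⟩ := hgl u uA e eA (z * u) (mul_mem zA uA) c.u1 e1
    (fun h => n.nU (h ▸ r_V2 _ _)) (by
      rw [mem_V2 c.uu n.ee eu.symm]
      rintro (h | h | h | h)
      · exact c.zu_ne_one h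
      · exact c.zu_ne_u h
      · exact n.nU (h ▸ mul_mem (l_V2 _ _) (r_V2 _ _))
      · rw [← eu] at h
        exact n.nU (mul_right_cancel h ▸ l_V2 _ _))
  obtain ⟨α, hα⟩ := aut φ hφ
  have orb : ∀ a : C, a ≠ 1 → a * a = 1 → ∃ k : ℕ, (α ^ k) ⟨z, AC zA⟩ = a := by
    have step : ∀ a b : G, (∃ k : ℕ, (((α ^ k) ⟨z, AC zA⟩ : C) : G) = a) → φ * a * φ⁻¹ = b →
        ∃ k : ℕ, (((α ^ k) ⟨z, AC zA⟩ : C) : G) = b := by
      rintro a b ⟨k, hk⟩ rfl
      exact ⟨k + 1, by rw [pow_succ', MulAut.mul_apply, hα, hk]⟩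
    have p0 : ∃ k : ℕ, (((α ^ k) ⟨z, AC zA⟩ : C) : G) = z := ⟨0, rfl⟩
    have p1 := step _ _ p0 φz
    have p2 := step _ _ p1 φu
    have p3 := step _ _ p2 φe
    have p4 := step _ (u * e) p3 (by rw [← conj_mul, φz, φu])
    have p5 := step _ (z * u * e) p4 (by rw [← conj_mul, φu, φe, elA.comm eA (mul_mem zA uA)])
    have p6 := step _ (z * e) p5 (by
      rw [← conj_mul, ← conj_mul, φz, φu, φe, ← eu, c.zu, mul_assoc, ← mul_assoc u, c.uu, one_mul, ez])
    intro a a1 aa
    suffices h : ∃ k : ℕ, (((α ^ k) ⟨z, AC zA⟩ : C) : G) = a from h.imp fun k hk => Subtype.ext hk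
    have a1' : (a : G) ≠ 1 := fun h => a1 (Subtype.ext h)
    have ae : (a : G) = a * e * e := by rw [mul_assoc, n.ee, mul_one]
    rcases (n.mem_E c).1 (omC a.2 (congrArg Subtype.val aa)) with h | h <;> rcases c.mem_U.1 h with h | h | h | h
    · exact absurd h a1'
    · rwa [h]
    · rwa [h]
    · rwa [h]
    · rwa [ae, h, one_mul]
    · rwa [ae, h]
    · rwa [ae, h]
    · rwa [ae, h]
  have z1 : (⟨z, AC zA⟩ : C) ≠ 1 := fun h => c.z1 (congrArg Subtype.val h)
  have u1 : (⟨u, AC uA⟩ : C) ≠ 1 := fun h => c.u1 (congrArg Subtype.val h)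
  have uz : (⟨u, AC uA⟩ : C) ≠ ⟨z, AC zA⟩ := fun h => c.uz (congrArg Subtype.val h)
  have zz : (⟨z, AC zA⟩ : C) * ⟨z, AC zA⟩ = 1 := Subtype.ext c.zz
  have uu : (⟨u, AC uA⟩ : C) * ⟨u, AC uA⟩ = 1 := Subtype.ext c.uu
  obtain ⟨h1, h2, h3⟩ := Cfsg.Agent.S3776.result pC hna
    ⟨_, _, uz, u1, by rw [pow_two, uu], z1, by rw [pow_two, zz]⟩
    ⟨zpowers α, Group.isSolvable_of_comm (by
      rintro ⟨_, m, rfl⟩ ⟨_, n, rfl⟩
      exact Subtype.ext (zpow_mul_comm α m n)), fun x y x1 x2 y1 y2 => by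
      obtain ⟨i, rfl⟩ := orb x x1 (by rw [← pow_two, x2])
      obtain ⟨j, rfl⟩ := orb y y1 (by rw [← pow_two, y2])
      exact ⟨α ^ j * (α ^ i)⁻¹, mul_mem (pow_mem (mem_zpowers α) j) (inv_mem (pow_mem (mem_zpowers α) i)),
        by simp⟩⟩
  simp only [pow_two] at h3
  have hZA : ∀ x : C, x ∈ center C ↔ (x : G) ∈ V3 z u e := fun x => by
    rw [h3]
    exact ⟨fun h => omC x.2 (congrArg Subtype.val h), fun h => Subtype.ext (elA _ h)⟩
  have hsq : ∀ x : C, x * x ∈ center C := fun x => by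
    rw [← pow_two, ← h2]; exact PGroup.pow_mem_frattini pC x
  obtain ⟨τ, hτ⟩ := aut t (hN t tT.1)
  obtain ⟨σ, hσ⟩ := aut s (hN s sS)
  have tU : ∀ a ∈ V2 z u, t * a * t⁻¹ = a := fun a ha => by rw [c.cU tT ha, mul_inv_cancel_right]
  have tE : ∀ a, a * e ∈ V2 z u → t * a * t⁻¹ = a * z := fun a ha => by
    have h4 : t * e * t⁻¹ = e * z := by
      rw [ez, ← te, cm, mul_assoc _ e e, n.ee, mul_one]
    calc t * a * t⁻¹ = t * (a * e * e) * t⁻¹ := by rw [mul_assoc a, n.ee, mul_one]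
      _ = a * z := by rw [← conj_mul, tU _ ha, h4, ← mul_assoc, mul_assoc a, n.ee, mul_one]
  have key := AB.core pC h3 hsq
    (fun x y => by rw [← h2, ← h1]; exact commutator_mem_commutator (mem_top _) (mem_top _))
    (by
      rw [show center C = (V3 z u e).subgroupOf C from Subgroup.ext fun x => hZA x,
        Nat.card_congr (subgroupOfEquivOfLe AC).toEquiv, n.cardE c])
    zz uu z1 u1 uz (fun a ha a1 => (orb a a1 ((h3 a).1 ha)).elim fun k hk => ⟨_, hk⟩) τ σ
    ⟨⟨t * t, ttC⟩, fun x => Subtype.ext (by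
      rw [hτ, hτ]; simp only [coe_mul, coe_inv, mul_assoc, mul_inv_rev])⟩
    (Subtype.ext (by rw [hτ]; exact tU u (r_V2 _ _)))
    (fun a ha => ((n.mem_E c).1 ((hZA a).1 ha)).imp (fun h => Subtype.ext (by rw [hτ]; exact tU _ h))
      fun h => Subtype.ext (by rw [hτ]; exact tE _ h))
    (fun a ha h => by
      have h' : t * a * t⁻¹ = a := by rw [← hτ, h]
      rcases (n.mem_E c).1 ((hZA a).1 ha) with h4 | h4
      · rcases c.mem_U.1 h4 with h5 | h5 | h5 | h5
        exacts [Or.inl (Subtype.ext h5), Or.inr (Or.inl (Subtype.ext h5)),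
          Or.inr (Or.inr (Or.inl (Subtype.ext h5))), Or.inr (Or.inr (Or.inr (Subtype.ext h5)))]
      · rw [tE _ h4] at h'
        exact absurd (mul_eq_left.1 h') c.z1)
    (Subtype.ext (by rw [hσ]; show s * z * s⁻¹ = z; rw [c.zc s sS, mul_inv_cancel_right]))
    (Subtype.ext (by rw [hσ]; exact su))
    ⟨⟨_, kC⟩, fun x => Subtype.ext (by
      rw [hτ, hσ, hσ]; simp only [coe_mul, coe_inv, hτ]; group)⟩
  have inj : ∀ x ∈ C, ∀ y ∈ C, x * x = y * y → x⁻¹ * y ∈ V3 z u e := fun x hx y hy h =>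
    (hZA _).1 (key ⟨x, hx⟩ ⟨y, hy⟩ (Subtype.ext h))
  have c01 : c0 * c1 = c1 * c0 := by
    rcases c.mem_U.1 s01 with h | h | h | h
    · have h4 := omC (mul_mem c0C c1C) h
      have h5 : c1 * c1 = (c0 * c0)⁻¹ := by
        calc c1 * c1 = c0⁻¹ * (c0 * c1) * (c0⁻¹ * (c0 * c1)) := by group
          _ = c0⁻¹ * c0⁻¹ * (c0 * c1 * (c0 * c1)) := by
            rw [mul_assoc, ← mul_assoc (c0 * c1), ← cA (inv_mem c0C) h4]; simp only [mul_assoc]
          _ = _ := by rw [h, mul_one, mul_inv_rev]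
      rw [s0, s1, inv_eq_of_mul_eq_one_right c.zz] at h5
      exact absurd h5 c.uz
    · have h4 := inj _ c0C _ (mul_mem c0C c1C) (s0.trans h.symm)
      rw [inv_mul_cancel_left] at h4
      exact absurd (s1.symm.trans (elA _ h4)) c.u1
    · have h4 := elA _ (inj _ c1C _ (mul_mem c0C c1C) (s1.trans h.symm))
      have h5 : c1⁻¹ * (c0 * c0) * c1⁻¹⁻¹ = 1 := by rw [← h4]; group
      rw [conj_eq_one_iff, s0] at h5
      exact absurd h5 c.z1
    · rw [← s0, ← s1, mul_assoc, mul_assoc, mul_right_inj, ← mul_assoc, ← mul_assoc, mul_left_inj] at h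
      exact h.symm
  refine hne fun a ha b hb => ?_
  have sA : ∀ x ∈ C, x * x ∈ V3 z u e := fun x hx => (hZA _).1 (hsq ⟨x, hx⟩)
  by_cases a1 : a * a = 1
  · exact (cA hb (omC ha a1)).symm
  by_cases b1 : b * b = 1
  · exact cA ha (omC hb b1)
  by_cases ab : b * b = a * a
  · have h4 := cA ha (inj _ ha _ hb ab.symm)
    rw [mul_inv_cancel_left] at h4
    calc a * b = a * (a⁻¹ * b * a) := by rw [← h4]
      _ = b * a := by group
  obtain ⟨d, dA, dV⟩ : ∃ d ∈ V3 z u e, d ∉ V2 (a * a) (b * b) := by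
    by_contra h
    push Not at h
    have h4 := card_le_of_le h
    rw [n.cardE c, card_V2 (elA _ (sA a ha)) (elA _ (sA b hb)) (elA.comm (sA a ha) (sA b hb)) a1 b1 ab] at h4
    omega
  obtain ⟨m, hm, mz, mu, -⟩ := hgl _ (sA a ha) _ (sA b hb) d dA a1 b1 ab dV
  have x0C := conj_mem_of_mem_normalizer hm c0C
  have x1C := conj_mem_of_mem_normalizer hm c1C
  have h4 := inj _ x0C _ ha (by rw [conj_mul, s0, mz])
  have h5 := inj _ x1C _ hb (by rw [conj_mul, s1, mu])
  have h6 : Commute (m * c0 * m⁻¹) (m * c1 * m⁻¹) := by rw [commute_iff_eq, conj_mul, conj_mul, c01]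
  generalize m * c0 * m⁻¹ = x0 at x0C h4 h6
  generalize m * c1 * m⁻¹ = x1 at x1C h5 h6
  have h7 : Commute (x0 * (x0⁻¹ * a)) (x1 * (x1⁻¹ * b)) :=
    Commute.mul_left (h6.mul_right (cA x0C h5))
      (Commute.mul_right (cA x1C h4).symm (cA (AC h4) h5))
  rwa [mul_inv_cancel_left, mul_inv_cancel_left] at h7

end CfsgLib.Rk3B
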