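import Cfsg.Agent.Lib.Rk3B.B2b

/-!
`z ^ G ∩ T ⊆ U` is impossible  (plans/RK3B.md, package B2C)
-/

set_option autoImplicit false

namespace CfsgLib.Rk3B

open Subgroup Cfsg CfsgLib.Tech CfsgLib.W2 CfsgLib.Rk3

variable {G : Type*} [Group G] [Finite G] {S : Subgroup G} {z u g e : G}

namespace B2C

omit [Finite G] in
theorem mem_pair {a b x : G} (ab : Commute a b) (hx : x ∈ closure {a, b}) :
    ∃ i j : ℤ, a ^ i * b ^ j = x := by
  induction hx using closure_induction with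
  | mem x hx =>
    rcases hx with rfl | rfl
    exacts [⟨1, 0, by simp⟩, ⟨0, 1, by simp⟩]
  | one => exact ⟨0, 0, by simp⟩
  | mul _ _ _ _ h1 h2 =>
    obtain ⟨i, j, rfl⟩ := h1
    obtain ⟨k, l, rfl⟩ := h2
    exact ⟨i + k, j + l, by rw [zpow_add, zpow_add, (ab.zpow_zpow k j).mul_mul_mul_comm]⟩
  | inv _ _ h =>
    obtain ⟨i, j, rfl⟩ := h
    exact ⟨-i, -j, by rw [mul_inv_rev, ← zpow_neg, ← zpow_neg, (ab.zpow_zpow _ _).eq]⟩

omit [Finite G] in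
theorem pair_le {a b : G} {M : Subgroup G} (ha : a ∈ M) (hb : b ∈ M) : closure {a, b} ≤ M := V2_le.2 ⟨ha, hb⟩

omit [Finite G] in
theorem comm_pair {a b x y : G} (ab : Commute a b) (hx : x ∈ closure {a, b}) (hy : y ∈ closure {a, b}) :
    Commute x y := by
  obtain ⟨i, j, rfl⟩ := mem_pair ab hx
  obtain ⟨k, l, rfl⟩ := mem_pair ab hy
  exact (((Commute.refl a).zpow_zpow _ _).mul_left (ab.symm.zpow_zpow _ _)).mul_right
    ((ab.zpow_zpow _ _).mul_left ((Commute.refl b).zpow_zpow _ _))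

theorem norm_pair {a b n : G} {M : Subgroup G} (hM : M = closure {a, b}) (h1 : n * a * n⁻¹ ∈ M)
    (h2 : n * b * n⁻¹ ∈ M) : n ∈ normalizer (M : Set G) :=
  mem_normalizer_of_forall fun _ hx =>
    pair_le (M := M.comap (MulAut.conj n).toMonoidHom) h1 h2 (hM ▸ hx)

/-- congruence modulo `J` in `N(J)` -/
def D (J : Subgroup G) : Subgroup (G × G) where
  carrier := {p | p.2 ∈ normalizer (J : Set G) ∧ p.1 * p.2⁻¹ ∈ J}
  one_mem' := ⟨one_mem _, by simp⟩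
  mul_mem' := fun {a b} ha hb => ⟨mul_mem ha.1 hb.1, by
    convert mul_mem ha.2 (conj_mem_of_mem_normalizer ha.1 hb.2) using 1
    simp only [Prod.fst_mul, Prod.snd_mul]; group⟩
  inv_mem' := fun {a} ha => ⟨inv_mem ha.1, by
    convert conj_mem_of_mem_normalizer (inv_mem ha.1) (inv_mem ha.2) using 1
    simp only [Prod.fst_inv, Prod.snd_inv]; group⟩

omit [Finite G] in
theorem par {z : G} (zz : z * z = 1) (m : ℤ) : Even m ∧ z ^ m = 1 ∨ z ^ m = z := by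
  obtain ⟨k, rfl | rfl⟩ := Int.even_or_odd' m
  · exact Or.inl ⟨by simp, by rw [zpow_mul, zpow_two, zz, one_zpow]⟩
  · exact Or.inr (by rw [zpow_add, zpow_mul, zpow_two, zz, one_zpow, one_mul, zpow_one])

omit [Finite G] in
theorem rel {p r r' : G} (h : r ∈ zpowers p) (h' : r' ∈ zpowers p) :
    ∃ m n : ℤ, ¬ (Even m ∧ Even n) ∧ r ^ m * r' ^ n = 1 := by
  obtain ⟨a, rfl⟩ := h
  obtain ⟨b, rfl⟩ := h'
  rcases (Int.gcd a b).eq_zero_or_pos with h0 | h0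
  · obtain ⟨rfl, rfl⟩ := Int.gcd_eq_zero_iff.1 h0
    exact ⟨1, 0, by simp, by simp⟩
  obtain ⟨c, d, h1, h2, h3⟩ := Int.exists_gcd_one h0
  refine ⟨d, -c, fun ⟨h4, h5⟩ => ?_, ?_⟩
  · have := Int.dvd_coe_gcd (even_neg.1 h5).two_dvd h4.two_dvd
    rw [h1] at this
    omega
  · generalize (Int.gcd a b : ℤ) = k at h2 h3
    simp only [h2, h3, ← zpow_mul, ← zpow_add]
    rw [show c * k * d + d * k * -c = 0 by ring, zpow_zero]

structure H (S : Subgroup G) (z u g e s y : G) : Prop extends BB S z u g e s where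
  rk : PRankLE 2 3 G
  yT : y ∈ S ⊓ Cx u
  sy : IsConj z (s * y)
  ye : cm y e = z

namespace H

variable {s y : G} (h : H S z u g e s y)
include h

local notation "J" => closure ({y, g * y * g⁻¹} : Set G)

omit [Finite G]

theorem pg : IsPGroup 2 (S ⊓ Cx u : Subgroup G) := h.q.c.syl.pgroup.to_le inf_le_left

theorem si : s⁻¹ = s := inv_eq_of_mul_eq_one_right h.ss

theorem gT {t : G} (ht : t ∈ S ⊓ Cx u) : g * t * g⁻¹ ∈ S ⊓ Cx u := conj_mem_of_mem_normalizer h.q.c.gT ht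

theorem g2 {t : G} (ht : t ∈ S ⊓ Cx u) : g * (g * t * g⁻¹) * g⁻¹ = g⁻¹ * t * g := by
  calc _ = g⁻¹ * (g ^ 3 * t) * (g ^ 3)⁻¹ * g := by simp [pow_succ, mul_assoc]
    _ = _ := by rw [h.q.g3 t ht]; group

theorem gs {t : G} (ht : t ∈ S ⊓ Cx u) :
    g * t * g⁻¹ = s * (g * s * g⁻¹ * t * (g * s * g⁻¹)⁻¹) * s⁻¹ := by
  calc _ = g⁻¹ * g⁻¹ * (g ^ 3 * t) * g⁻¹ := by simp [pow_succ, mul_assoc]
    _ = g⁻¹ * 1 * g⁻¹ * t * (g⁻¹ * 1 * g⁻¹)⁻¹ := by rw [h.q.g3 t ht]; simp [pow_succ, mul_assoc]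
    _ = s * g * s⁻¹ * (s * s) * g⁻¹ * t * (s * g * s⁻¹ * (s * s) * g⁻¹)⁻¹ := by rw [h.sg, h.ss]
    _ = _ := by simp [mul_assoc]

theorem s1 : s * y * s⁻¹ = y⁻¹ := by
  obtain ⟨c, hc⟩ := isConj_iff.1 h.sy
  rw [h.si, eq_inv_iff_mul_eq_one, mul_assoc, ← hc, conj_mul, h.q.c.zz]; simp

theorem J_le : J ≤ S ⊓ Cx u := pair_le h.yT (h.gT h.yT)

theorem cm_J (m n : ℤ) : cm (y ^ m * (g * y * g⁻¹) ^ n) e = z ^ m * u ^ n := by
  let φ : ↥(S ⊓ Cx u) →* G := MonoidHom.mk' (fun t => cm t e) fun a b => h.q.n.cm_mul h.q.c a.2 b.2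
  have h1 : φ (⟨y, h.yT⟩ ^ m * ⟨_, h.gT h.yT⟩ ^ n) = φ ⟨y, h.yT⟩ ^ m * φ ⟨_, h.gT h.yT⟩ ^ n := by
    rw [map_mul, map_zpow, map_zpow]
  have h2 : cm (g * y * g⁻¹) e = u := by
    rw [← h.q.c.gz, ← h.ye, cm_conj, h.q.ge]
  simpa only [φ, MonoidHom.mk'_apply, coe_mul, coe_zpow, h.ye, h2] using h1

theorem zU {a : G} (ha : a ∈ V2 z u) (a1 : a ≠ 1) : IsConj z a := by
  have c := h.q.c
  rcases c.mem_U.1 ha with f | f | f | f
  exacts [absurd f a1, by rw [f], isConj_iff.2 ⟨g, c.gz.trans f.symm⟩,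
    isConj_iff.2 ⟨g * g, by rw [f, ← c.gu, ← c.gz]; group⟩]

variable [Finite G]

theorem c : Commute y (g * y * g⁻¹) := (h.tri h.rk h.yT h.sy).2

theorem g1 : g⁻¹ * y * g = (y * (g * y * g⁻¹))⁻¹ := eq_inv_of_mul_eq_one_right (h.tri h.rk h.yT h.sy).1

theorem s2 : s * (g * y * g⁻¹) * s⁻¹ = y * (g * y * g⁻¹) := by
  calc _ = s * g * s⁻¹ * (s * y * s⁻¹) * (s * g * s⁻¹)⁻¹ := by group
    _ = (g⁻¹ * y * g)⁻¹ := by rw [h.sg, h.s1]; group
    _ = _ := by rw [h.g1, inv_inv]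

theorem gJ : g ∈ normalizer ((J : Subgroup G) : Set G) :=
  norm_pair rfl (r_V2 _ _) (by rw [h.g2 h.yT, h.g1]; exact inv_mem (mul_mem (l_V2 _ _) (r_V2 _ _)))

theorem sJ : s ∈ normalizer ((J : Subgroup G) : Set G) :=
  norm_pair rfl (by rw [h.s1]; exact inv_mem (l_V2 _ _)) (by rw [h.s2]; exact mul_mem (l_V2 _ _) (r_V2 _ _))

theorem triJ {j : G} (hj : j ∈ J) : j * (g * j * g⁻¹) * (g * (g * j * g⁻¹) * g⁻¹) = 1 := by
  induction hj using closure_induction with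
  | mem x hx =>
    rcases hx with rfl | rfl
    · rw [h.g2 h.yT, h.g1, mul_inv_cancel]
    · rw [h.g2 h.yT, show g * (g⁻¹ * y * g) * g⁻¹ = y by group, h.g1]; group
  | one => simp
  | mul a b ha hb h1 h2 =>
    have k := fun {x} (hx : x ∈ J) => conj_mem_of_mem_normalizer h.gJ hx
    rw [← conj_mul (b := g) (a := a), ← conj_mul (b := g) (a := g * a * g⁻¹),
      (comm_pair h.c hb (k ha)).mul_mul_mul_comm,
      (comm_pair h.c (mul_mem hb (k hb)) (k (k ha))).mul_mul_mul_comm, h1, h2, one_mul]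
  | inv a ha h1 =>
    have k := fun {x} (hx : x ∈ J) => conj_mem_of_mem_normalizer h.gJ hx
    rw [← conj_inv, ← conj_inv, ← mul_inv_rev, ← mul_inv_rev, inv_eq_one, ← (comm_pair h.c ha (k ha)).eq,
      ← (comm_pair h.c (mul_mem ha (k ha)) (k (k ha))).eq, h1]

theorem fix {j : G} (hj : j ∈ J) (e : g * j * g⁻¹ = j) : j = 1 := by
  have := h.triJ hj
  rw [e, e] at this
  exact TL.odd1 h.pg (h.J_le hj) (m := 3) (by decide) (by rw [← this, ← pow_three', ← zpow_natCast]; rfl)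

theorem om {j : G} (hj : j ∈ J) (jj : j * j = 1) : j ∈ V2 z u := by
  have c := h.q.c
  have k : ∀ x, g * x * g⁻¹ ∈ V2 z u → x ∈ V2 z u := fun x hx => by
    simpa [mul_assoc] using conj_mem_of_mem_normalizer' (mem_normalizer_iff_cj.2 c.cj_g_U) hx
  have hj' := conj_mem_of_mem_normalizer h.gJ hj
  by_contra hn
  rcases e16 h.rk c.zz c.uu jj (t := g * j * g⁻¹) (by rw [conj_mul, jj]; simp) c.zu
    (c.cU (h.J_le hj) (l_V2 _ _)) (c.cU (h.J_le hj) (r_V2 _ _)) (c.cU (h.J_le hj') (l_V2 _ _))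
    (c.cU (h.J_le hj') (r_V2 _ _)) (comm_pair h.c hj' hj) c.z1 c.u1 c.uz hn with f | f
  · exact hn (k _ f)
  · rw [(comm_pair h.c hj' hj).eq, eq_inv_of_mul_eq_one_left (h.triJ hj), inv_mem_iff] at f
    exact hn (k _ (k _ f))

theorem inv {j : G} (hj : j ∈ J) (e : s * j * s⁻¹ = j⁻¹) : j ∈ zpowers y := by
  obtain ⟨a, b, rfl⟩ := mem_pair h.c hj
  have hx : (g * y * g⁻¹) ^ b ∈ J := zpow_mem (r_V2 _ _) b
  have h1 : g * s * g⁻¹ * (g * y * g⁻¹) ^ b * (g * s * g⁻¹)⁻¹ = ((g * y * g⁻¹) ^ b)⁻¹ :=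
    TL.inv_zp (by rw [conj_inv, conj_mul, conj_mul, h.s1, conj_inv]) (zpow_mem (mem_zpowers _) b)
  rw [← conj_mul, TL.inv_zp h.s1 (zpow_mem (mem_zpowers _) a), (h.c.zpow_zpow a b).eq, mul_inv_rev,
    mul_right_inj] at e
  rw [h.fix hx (by rw [h.gs (h.J_le hx), h1, ← conj_inv, e, inv_inv]), mul_one]
  exact zpow_mem (mem_zpowers _) a

/-- `s` centralises `N / J` -/
theorem sN {n : G} (hn : n ∈ S ⊓ Cx u) (nJ : n ∈ normalizer ((J : Subgroup G) : Set G)) :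
    s * n * s⁻¹ * n⁻¹ ∈ J :=
  h.mem_J h.rk h.yT h.sy h.ye (mul_mem (h.q.c.conj_T h.sS hn) (inv_mem hn))
    (h.sz.trans (isConj_iff.2 ⟨n, by rw [h.si, ← mul_assoc, ← mul_assoc, ← mul_assoc, h.ss, one_mul]⟩))
    (mul_mem (mul_mem (mul_mem h.sJ nJ) (inv_mem h.sJ)) (inv_mem nJ))

theorem dec {n : G} (hn : n ∈ S ⊓ Cx u) (nJ : n ∈ normalizer ((J : Subgroup G) : Set G)) :
    ∃ r ∈ S ⊓ Cx u ⊓ Cx g, (n, r) ∈ D J := by
  have h1 := conj_mem_of_mem_normalizer h.gJ (h.sN (conj_mem_of_mem_normalizer' h.q.c.gT hn)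
    (mul_mem (mul_mem (inv_mem h.gJ) nJ) h.gJ))
  have h2 : g * n * g⁻¹ * n⁻¹ ∈ J := by
    convert mul_mem (conj_mem_of_mem_normalizer h.sJ h1) (h.sN hn nJ) using 1
    rw [h.gs hn]; group
  obtain ⟨j, hj⟩ := Finite.surjective_of_injective
    (f := fun j : J => (⟨g * j * g⁻¹ * (j : G)⁻¹, mul_mem (conj_mem_of_mem_normalizer h.gJ j.2) (inv_mem j.2)⟩ : J))
    (fun a b e => Subtype.ext (inv_mul_eq_one.1 (h.fix (mul_mem (inv_mem a.2) b.2) (by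
      calc _ = (g * a * g⁻¹)⁻¹ * (g * b * g⁻¹ * (b : G)⁻¹) * b := by group
        _ = _ := by rw [← Subtype.mk.inj e]; group)))) ⟨_, h2⟩
  refine ⟨(j : G)⁻¹ * n, mem_inf.2 ⟨mul_mem (inv_mem (h.J_le j.2)) hn, mem_Cx'.2 ?_⟩,
    mul_mem (inv_mem (le_normalizer j.2)) nJ, by simp⟩
  calc _ = ((j : G)⁻¹ * g⁻¹ * (g * n * g⁻¹ * n⁻¹) * j)⁻¹ := by group
    _ = _ := by rw [← Subtype.mk.inj hj]; group

theorem fixR {r : G} (hr : r ∈ S ⊓ Cx u ⊓ Cx g) (hj : r ∈ J) : r = 1 :=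
  h.fix hj (by rw [← mem_Cx.1 hr.2, mul_inv_cancel_right])

theorem cycR {R : Subgroup G} (hR : R ≤ S ⊓ Cx u ⊓ Cx g) (ab : ∀ a ∈ R, ∀ b ∈ R, a * b = b * a) :
    ∃ p ∈ R, R ≤ zpowers p :=
  cyc_of_uniq (h.pg.to_le (hR.trans inf_le_left)) ab fun a ha b hb aa bb a1 b1 => by
    rw [((h.r0 h.rk (hR ha).1 (mem_Cx.1 (hR ha).2)).2.2 aa).resolve_left a1,
      ((h.r0 h.rk (hR hb).1 (mem_Cx.1 (hR hb).2)).2.2 bb).resolve_left b1]

theorem TJ : S ⊓ Cx u ≤ normalizer ((J : Subgroup G) : Set G) := by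
  by_contra hn
  obtain ⟨x, hx, xN, xn⟩ := exists_mem_normalizer_of_lt h.pg
    (Q := S ⊓ Cx u ⊓ normalizer ((J : Subgroup G) : Set G)) (inf_lt_left.2 hn)
  have k : ∀ {j}, j ∈ J → x * j * x⁻¹ ∈ S ⊓ Cx u ⊓ normalizer ((J : Subgroup G) : Set G) := fun hj =>
    conj_mem_of_mem_normalizer xn ⟨h.J_le hj, le_normalizer hj⟩
  have kc : ∀ {a b}, a ∈ J → b ∈ J → Commute (x * a * x⁻¹) (x * b * x⁻¹) := fun ha hb => by
    rw [Commute, SemiconjBy, conj_mul, conj_mul, (comm_pair h.c ha hb).eq]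
  obtain ⟨j, hj, j1, j2⟩ : ∃ j ∈ J, x * j * x⁻¹ ∉ J ∧ x * j * x⁻¹ * (x * j * x⁻¹) ∈ J := by
    by_contra! hc
    refine xN ⟨hx, mem_normalizer_of_forall fun j hj => ?_⟩
    obtain ⟨m, hm⟩ := h.pg ⟨j, h.J_le hj⟩
    replace hm : j ^ 2 ^ m = 1 := congrArg Subtype.val hm
    induction m generalizing j with
    | zero => rw [pow_zero, pow_one] at hm; simp [hm]
    | succ m ih =>
      by_contra h1
      refine hc j hj h1 ?_
      rw [conj_mul]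
      exact ih _ (mul_mem hj hj) (by rwa [← pow_two, ← pow_mul, ← pow_succ'])
  obtain ⟨r0, r1, r2⟩ := h.dec (k hj).1 (k hj).2
  have r3 : r0 = e := by
    refine ((h.r0 h.rk r1.1 (mem_Cx.1 r1.2)).2.2 (h.fixR (mul_mem r1 r1) ?_)).resolve_left fun f => j1 ?_
    · exact inv_mem_iff.1 ((mul_mem_cancel_left j2).1 (mul_mem r2 r2).2)
    · simpa [f] using r2.2
  obtain ⟨r, hr, a⟩ := h.dec (k (l_V2 _ _)).1 (k (l_V2 _ _)).2
  obtain ⟨r', hr', a'⟩ := h.dec (k (r_V2 _ _)).1 (k (r_V2 _ _)).2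
  have c : Commute r r' := by
    have := (mul_mem (mul_mem a a') (inv_mem (mul_mem a' a))).2
    simp only [Prod.fst_mul, Prod.snd_mul, Prod.fst_inv, Prod.snd_inv] at this
    rw [(kc (l_V2 _ _) (r_V2 _ _)).eq, mul_inv_cancel, one_mul, inv_mem_iff] at this
    exact mul_inv_eq_one.1 (h.fixR (mul_mem (mul_mem hr hr') (inv_mem (mul_mem hr' hr))) this)
  obtain ⟨p, -, hp⟩ := h.cycR (pair_le hr hr') fun _ ha _ hb => comm_pair c ha hb
  obtain ⟨m, n, mn, f⟩ := rel (hp (l_V2 _ _)) (hp (r_V2 _ _))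
  have hv : y ^ m * (g * y * g⁻¹) ^ n ∈ J := mul_mem (zpow_mem (l_V2 _ _) m) (zpow_mem (r_V2 _ _) n)
  have h1 := (mul_mem (zpow_mem a m) (zpow_mem a' n)).2
  simp only [Prod.fst_mul, Prod.snd_mul, Prod.pow_mk] at h1
  rw [f, inv_one, mul_one, conj_zpow, conj_zpow, conj_mul] at h1
  have h2 := ((comm_pair h.c h1 r2.2).inv_right.mul_right (kc hv hj)).eq
  rw [mul_inv_rev (x * j * x⁻¹), inv_inv, inv_mul_cancel_right, r3, ← cm_eq_one h.q.n.ee, h.q.n.cm_conj h.q.c hx.1 (h.J_le hv), conj_eq_one_iff, h.cm_J] at h2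
  rcases par h.q.c.zz m with ⟨m1, m2⟩ | m2 <;> rcases par h.q.c.uu n with ⟨n1, n2⟩ | n2 <;> rw [m2, n2] at h2
  exacts [mn ⟨m1, n1⟩, h.q.c.u1 (by simpa using h2), h.q.c.z1 (by simpa using h2), h.q.c.zu_ne_one h2]

theorem cyc : ∃ p ∈ S ⊓ Cx u ⊓ Cx g, S ⊓ Cx u ⊓ Cx g ≤ zpowers p := by
  have k : ∀ r ∈ S ⊓ Cx u ⊓ Cx g, ∃ i : ℤ, y ^ i = r * y * r⁻¹ := fun r hr =>
    h.inv (conj_mem_of_mem_normalizer (h.TJ hr.1) (l_V2 _ _)) (by
      calc _ = s * r * y * (s * r)⁻¹ := by group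
        _ = r * (s * y * s⁻¹) * r⁻¹ := by rw [← (h.r0 h.rk hr.1 (mem_Cx.1 hr.2)).1]; group
        _ = _ := by rw [h.s1, conj_inv])
  refine h.cycR le_rfl fun a ha b hb => ?_
  obtain ⟨i, hi⟩ := k a ha
  obtain ⟨j, hj⟩ := k b hb
  have h1 : (b * a)⁻¹ * (a * b) ∈ S ⊓ Cx u ⊓ Cx g := mul_mem (inv_mem (mul_mem hb ha)) (mul_mem ha hb)
  have h2 : (b * a)⁻¹ * (a * b) ∈ Cx y := mem_Cx'.2 (by
    calc _ = (b * a)⁻¹ * (a * (b * y * b⁻¹) * a⁻¹) * (b * a) := by group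
      _ = (b * a)⁻¹ * (b * (a * y * a⁻¹) * b⁻¹) * (b * a) := by
        rw [← hi, ← hj, ← conj_zpow, ← conj_zpow, ← hi, ← hj, ← zpow_mul, ← zpow_mul, mul_comm i j]
      _ = _ := by group)
  by_contra ne
  obtain ⟨m, m1, m2⟩ := TL.invol h.pg h1.1 fun f => ne (inv_mul_eq_one.1 f).symm
  have h3 := pow_mem h2 (2 ^ m)
  rw [((h.r0 h.rk (pow_mem h1 _).1 (mem_Cx.1 (pow_mem h1 _).2)).2.2 m2).resolve_left m1] at h3
  exact h.q.c.z1 (h.ye.symm.trans ((cm_eq_one h.q.n.ee).2 (mem_Cx.1 h3).symm))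

theorem false (idx : ∀ M : Subgroup G, M.index ≠ 2) : False := by
  have c := h.q.c
  have sM : s ∈ J ⊔ zpowers s := mem_sup_right (mem_zpowers s)
  have mem := fun x => mem_sup_inv (A := J) (x := x) h.ss fun _ => conj_mem_of_mem_normalizer h.sJ
  have cs : ∀ x ∈ S, x ∈ S ⊓ Cx u ∨ x * s ∈ S ⊓ Cx u := fun x hx =>
    (c.su x hx).imp (fun f => ⟨hx, mem_Cx.2 f⟩) fun f => c.mul_mem_T hx h.sS f h.su
  have TM : S ⊓ Cx u ≤ normalizer ((J ⊔ zpowers s : Subgroup G) : Set G) := fun t ht =>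
    mem_normalizer_of_forall fun x hx => by
      have h1 : t * s * t⁻¹ ∈ J ⊔ zpowers s := by
        convert mul_mem sM (mem_sup_left (h.sN ht (h.TJ ht))) using 1
        rw [h.si, ← mul_assoc, ← mul_assoc, ← mul_assoc, h.ss, one_mul]
      rcases (mem x).1 hx with f | f
      · exact mem_sup_left (conj_mem_of_mem_normalizer (h.TJ ht) f)
      · convert mul_mem (mem_sup_left (conj_mem_of_mem_normalizer (h.TJ ht) f)) (inv_mem h1) using 1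
        group
  obtain ⟨p, hp, hR⟩ := h.cyc
  have TM' : S ⊓ Cx u ≤ J ⊔ zpowers s ⊔ zpowers p := fun t ht => by
    obtain ⟨r, hr, a⟩ := h.dec ht (h.TJ ht)
    simpa using mul_mem (mem_sup_left (mem_sup_left a.2)) (mem_sup_right (hR hr))
  obtain ⟨x, hx⟩ := thompson idx c.syl (M := J ⊔ zpowers s)
    (sup_le (h.J_le.trans inf_le_left) (zpowers_le.2 h.sS))
    (fun x hx => (cs x hx).elim (fun f => TM f) fun f => (mul_mem_cancel_right (le_normalizer sM)).1 (TM f))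
    hp.1.1 (fun x hx => (cs x hx).elim (fun f => TM' f)
      fun f => (mul_mem_cancel_right (mem_sup_left sM)).1 (TM' f))
    h.q.n.ee fun f => h.q.n.nU (f ▸ one_mem _)
  refine h.q.n.nU (h.pure e h.q.n.eT (.trans ?_ (isConj_iff.2 ⟨x, rfl⟩).symm))
  have vv : x * e * x⁻¹ * (x * e * x⁻¹) = 1 := by rw [conj_mul, h.q.n.ee]; simp
  have v1 : x * e * x⁻¹ ≠ 1 := fun f => h.q.n.nU (conj_eq_one_iff.1 f ▸ one_mem _)
  generalize x * e * x⁻¹ = v at hx vv v1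
  rcases (mem v).1 hx with f | f
  · exact h.zU (h.om f vv) v1
  obtain ⟨i, hi⟩ := h.inv f (by
    rw [← mul_assoc, mul_inv_cancel_right, mul_inv_rev, h.si, inv_eq_of_mul_eq_one_right vv])
  refine h.sz.trans (isConj_iff.2 ⟨((g * y * g⁻¹) ^ i)⁻¹, ?_⟩)
  calc _ = ((g * y * g⁻¹) ^ i)⁻¹ * (s * (g * y * g⁻¹) * s⁻¹) ^ i * s := by rw [conj_zpow (a := s)]; group
    _ = _ := by
      rw [h.s2, h.c.eq, h.c.symm.mul_zpow, inv_mul_cancel_left, show y ^ i = _ from hi, mul_assoc, h.ss, mul_one]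

end H

end B2C

theorem BB.false (h : Hy G) {s : G} (b : BB S z u g e s) : False := by
  have c := b.q.c
  obtain ⟨t, ht, tu⟩ := b.q.n.onto h.rk c (r_V2 z u)
  have hs := c.conj_T b.sS ht
  refine B2C.H.false (y := s * t * s⁻¹ * t⁻¹) ⟨b, h.rk, mul_mem hs (inv_mem ht),
    b.sz.trans (isConj_iff.2 ⟨t, ?_⟩), ?_⟩ h.idx
  · rw [inv_eq_of_mul_eq_one_right b.ss, ← mul_assoc, ← mul_assoc, ← mul_assoc, b.ss, one_mul]
  · have := b.q.n.cm_mul c (mul_mem hs (inv_mem ht)) ht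
    rw [inv_mul_cancel_right, b.q.n.cm_conj c b.sS ht, tu, b.su] at this
    exact (mul_right_cancel this).symm

end CfsgLib.Rk3B
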