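import Cfsg.Agent.Lib.Rk3B.C1

/-!
Elements of `C_C(t)` with square `z`  (plans/RK3B.md, package ZC)
-/

set_option autoImplicit false
set_option linter.unusedSectionVars false

namespace CfsgLib.Rk3B

open Subgroup Cfsg CfsgLib.Tech CfsgLib.W2 CfsgLib.Rk3

variable {G : Type*} [Group G] [Finite G] {S : Subgroup G} {z u g e : G}

namespace ZC

/-- a normal section of a 2-group contains a central involution -/
theorem cent_mod {T H D : Subgroup G} (pT : IsPGroup 2 T) (DT : D ≤ T)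
    (nH : ∀ t ∈ T, ∀ a ∈ H, t * a * t⁻¹ ∈ H) (nD : ∀ t ∈ T, ∀ a ∈ D, t * a * t⁻¹ ∈ D) {c : G} (hc : c ∈ D)
    (cH : c ∉ H) : ∃ k ∈ D, k ∉ H ∧ k * k ∈ H ∧ ∀ t ∈ T, t * k * t⁻¹ * k⁻¹ ∈ H := by
  have : (H.subgroupOf T).Normal := ⟨fun a ha t => nH t t.2 a ha⟩
  let π := QuotientGroup.mk' (H.subgroupOf T)
  obtain ⟨_, ⟨x, hx, rfl⟩, h1, h2⟩ := exists_mem_center_of_normalized (p := 2) (T := ⊤)
    (N := (D.subgroupOf T).map π) ((pT.to_quotient _).to_subgroup _) le_top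
    (fun y _ => mem_normalizer_of_forall (by
      obtain ⟨y, rfl⟩ := QuotientGroup.mk'_surjective _ y
      rintro _ ⟨x, hx, rfl⟩
      exact ⟨y * x * y⁻¹, nD y y.2 x hx, by simp [π]⟩))
    fun h => cH ((QuotientGroup.eq_one_iff (N := H.subgroupOf T) ⟨c, DT hc⟩).1
      (mem_bot.1 (h ▸ ⟨⟨c, DT hc⟩, hc, rfl⟩)))
  refine ⟨x, hx, fun h => ne_one_of_ord h1 ((QuotientGroup.eq_one_iff _).2 h),
    (QuotientGroup.eq_one_iff (N := H.subgroupOf T) (x * x)).1 (sq_of_ord h1),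
    fun t ht => (QuotientGroup.eq_one_iff (N := H.subgroupOf T) (⟨t, ht⟩ * x * ⟨t, ht⟩⁻¹ * x⁻¹)).1 ?_⟩
  have := h2 (π ⟨t, ht⟩) (mem_top _)
  change π (⟨t, ht⟩ * x * ⟨t, ht⟩⁻¹ * x⁻¹) = 1
  rw [map_mul, map_mul, map_mul, this, map_inv, map_inv]; group

theorem comm_adj {a b h h' : G} (h1 : Commute h a) (h2 : Commute h b) (h3 : Commute h h') (h4 : Commute h' a)
    (h5 : Commute h' b) : h * a * (h' * b) * (h * a)⁻¹ * (h' * b)⁻¹ = a * b * a⁻¹ * b⁻¹ := by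
  have e1 := ((h1.mul_right (h3.mul_right h2)).mul_right h1.inv_right).eq
  have e2 := (((h4.mul_right h5).mul_right h4.inv_right).mul_right h5.inv_right).eq
  calc _ = (h * (a * (h' * b) * a⁻¹)) * h⁻¹ * (h' * b)⁻¹ := by group
    _ = (a * h') * b * a⁻¹ * b⁻¹ * h'⁻¹ := by rw [e1]; group
    _ = (h' * (a * b * a⁻¹ * b⁻¹)) * h'⁻¹ := by rw [← h4.eq]; group
    _ = _ := by rw [e2]; group

/-- abelian invariant subgroups between `C₁` and `C` -/
structure Gd (S : Subgroup G) (z u g e : G) (H : Subgroup G) : Prop where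
  le : H ≤ S ⊓ Cx u ⊓ Cx e
  c1 : ∀ c, In1 S z u e c → c ∈ H
  ab : ∀ a ∈ H, ∀ b ∈ H, a * b = b * a
  nS : ∀ s ∈ S, ∀ a ∈ H, s * a * s⁻¹ ∈ H
  ng : g ∈ normalizer (H : Set G)

/-- `k H` is a central involution of `T / H` centralising `H` -/
structure InK (S : Subgroup G) (u e : G) (H : Subgroup G) (k : G) : Prop where
  mem : k ∈ S ⊓ Cx u ⊓ Cx e
  cen : ∀ h ∈ H, k * h = h * k
  sq : k * k ∈ H
  cm : ∀ t ∈ S ⊓ Cx u, t * k * t⁻¹ * k⁻¹ ∈ H

variable {H : Subgroup G} {k k' s : G}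

theorem InK.mul (hH : Gd S z u g e H) (a : InK S u e H k) (b : InK S u e H k') : InK S u e H (k * k') where
  mem := mul_mem a.mem b.mem
  cen h hh := by rw [mul_assoc, b.cen h hh, ← mul_assoc, a.cen h hh, mul_assoc]
  sq := by
    have := mul_mem (mul_mem a.sq (b.cm _ (inv_mem a.mem.1))) b.sq
    convert this using 1; group
  cm t ht := by
    have := mul_mem (a.cm t ht) (hH.nS _ a.mem.1.1 _ (b.cm t ht))
    convert this using 1; group

theorem InK.conj {n : G} (nH : n ∈ normalizer (H : Set G))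
    (nT : n ∈ normalizer ((S ⊓ Cx u : Subgroup G) : Set G))
    (nC : n ∈ normalizer ((S ⊓ Cx u ⊓ Cx e : Subgroup G) : Set G)) (a : InK S u e H k) :
    InK S u e H (n * k * n⁻¹) where
  mem := conj_mem_of_mem_normalizer nC a.mem
  cen h hh := by
    have := a.cen _ (conj_mem_of_mem_normalizer' nH hh)
    calc _ = n * (k * (n⁻¹ * h * n)) * n⁻¹ := by group
      _ = _ := by rw [this]; group
  sq := by rw [conj_mul]; exact conj_mem_of_mem_normalizer nH a.sq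
  cm t ht := by
    have := conj_mem_of_mem_normalizer nH (a.cm _ (conj_mem_of_mem_normalizer' nT ht))
    convert this using 1; group

theorem gg (q : Q S z u g e) {t : G} (ht : t ∈ S ⊓ Cx u) : g * (g * t * g⁻¹) * g⁻¹ = g⁻¹ * t * g⁻¹⁻¹ := by
  have := q.g3 t ht
  rw [pow_succ, _root_.sq] at this
  calc _ = g⁻¹ * (g * g * g * t) * g⁻¹ * g⁻¹ := by group
    _ = _ := by rw [this]; group

theorem ext (q : Q S z u g e) (hH : Gd S z u g e H) (sS : s ∈ S) (su : s * u * s⁻¹ = z * u)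
    (sg : s * g * s⁻¹ = g⁻¹) (a : InK S u e H k) (sk : s * k * s⁻¹ * k⁻¹ ∈ H)
    (kg : k * (g * k * g⁻¹) = g * k * g⁻¹ * k) : ∃ H', Gd S z u g e H' ∧ H ≤ H' ∧ k ∈ H' := by
  have a1 := a.conj hH.ng q.c.gT q.gC
  have a2 := a.conj (inv_mem hH.ng) (inv_mem q.c.gT) (inv_mem q.gC)
  have e1 := gg q a.mem.1
  obtain ⟨k1, hk1⟩ : ∃ k1, k1 = g * k * g⁻¹ := ⟨_, rfl⟩
  obtain ⟨k2, hk2⟩ : ∃ k2, k2 = g⁻¹ * k * g⁻¹⁻¹ := ⟨_, rfl⟩
  have e2 : g * k2 * g⁻¹ = k := by rw [hk2]; group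
  rw [← hk1] at a1 e1 kg
  rw [← hk2] at a2 e1
  have c12 : k1 * k2 = k2 * k1 := by rw [← e1, hk1, conj_mul, conj_mul, ← hk1, kg]
  have c20 : k2 * k = k * k2 := by
    have := congrArg (fun x => g * x * g⁻¹) c12
    simp only [← conj_mul] at this
    rwa [e1, e2] at this
  let X : Set G := (H : Set G) ∪ {k, k1, k2}
  have l0 : H ≤ closure X := fun h hh => subset_closure (Or.inl hh)
  have m0 : k ∈ closure X := subset_closure (Or.inr (by simp))
  have m1 : k1 ∈ closure X := subset_closure (Or.inr (by simp))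
  have m2 : k2 ∈ closure X := subset_closure (Or.inr (by simp))
  have nm : ∀ n : G, (∀ h ∈ H, n * h * n⁻¹ ∈ H) → n * k * n⁻¹ ∈ closure X → n * k1 * n⁻¹ ∈ closure X →
      n * k2 * n⁻¹ ∈ closure X → ∀ x ∈ closure X, n * x * n⁻¹ ∈ closure X := fun n h0 h1 h2 h3 =>
    (closure_le ((closure X).comap (MulAut.conj n).toMonoidHom)).2 (by
      rintro x (hx | rfl | rfl | rfl)
      exacts [l0 (h0 x hx), h1, h2, h3])
  have ng : g ∈ normalizer ((closure X : Subgroup G) : Set G) := mem_normalizer_of_forall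
    (nm g (fun h => conj_mem_of_mem_normalizer hH.ng) (hk1 ▸ m1) (e1 ▸ m2) (e2 ▸ m0))
  have nT : ∀ t ∈ S ⊓ Cx u, ∀ x ∈ closure X, t * x * t⁻¹ ∈ closure X := fun t ht =>
    nm t (hH.nS t ht.1) (by simpa using mul_mem (l0 (a.cm t ht)) m0) (by simpa using mul_mem (l0 (a1.cm t ht)) m1)
      (by simpa using mul_mem (l0 (a2.cm t ht)) m2)
  have s0 : s * k * s⁻¹ ∈ closure X := by simpa using mul_mem (l0 sk) m0
  have ns : ∀ x ∈ closure X, s * x * s⁻¹ ∈ closure X := nm s (hH.nS s sS) s0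
    (by
      have := conj_mem_of_mem_normalizer (inv_mem ng) s0
      rw [← sg] at this
      convert this using 1; rw [hk1]; group)
    (by
      have := conj_mem_of_mem_normalizer ng s0
      rw [← inv_inv g, ← sg] at this
      convert this using 1; rw [hk2]; group)
  have cX : ∀ a ∈ X, ∀ b ∈ X, a * b = b * a := by
    rintro x (hx | rfl | rfl | rfl) y (hy | rfl | rfl | rfl)
    exacts [hH.ab x hx y hy, (a.cen x hx).symm, (a1.cen x hx).symm, (a2.cen x hx).symm, a.cen y hy, rfl, kg, c20.symm,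
      a1.cen y hy, kg.symm, rfl, c12, a2.cen y hy, c20, c12.symm, rfl]
  refine ⟨closure X, ⟨(closure_le _).2 ?_, fun c hc => l0 (hH.c1 c hc), fun x hx y hy =>
    (closure_le_centralizer_centralizer X hx y
      ((closure_le (centralizer X)).2 (fun x hx y hy => cX y hy x hx) hy)).symm, fun r hr x hx => ?_, ng⟩, l0, m0⟩
  · rintro x (hx | rfl | rfl | rfl)
    exacts [hH.le hx, a.mem, a1.mem, a2.mem]
  · rcases q.c.su r hr with h | h
    · exact nT r ⟨hr, mem_Cx.2 h⟩ x hx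
    · have := nT _ (q.c.mul_mem_T hr sS h su) _
        (conj_mem_of_mem_normalizer' (mem_normalizer_of_forall ns) hx)
      convert this using 1; group

theorem gfix (q : Q S z u g e) {x : G} (hx : x ∈ V2 z u) (h : g * x * g⁻¹ = x) : x = 1 := by
  rcases q.c.mem_U.1 hx with rfl | rfl | rfl | rfl
  · rfl
  · exact absurd (q.c.gz.symm.trans h) q.c.uz
  · exact absurd (q.c.gu.symm.trans h) q.c.zu_ne_u
  · exact absurd (h.symm.trans q.c.gzu) q.c.zu_ne_z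

/-- a maximal good subgroup is self-centralising in `C` -/
theorem selfC (q : Q S z u g e) (hH : Gd S z u g e H) (mx : ∀ H', Gd S z u g e H' → H ≤ H' → H' ≤ H)
    (sS : s ∈ S) (ss : s * s = 1) (su : s * u * s⁻¹ = z * u) (sg : s * g * s⁻¹ = g⁻¹) {c : G}
    (hc : c ∈ S ⊓ Cx u ⊓ Cx e) (cH : ∀ h ∈ H, c * h = h * c) : c ∈ H := by
  by_contra hn
  obtain ⟨k0, hk0, k0H, q0, r0⟩ := cent_mod (T := S ⊓ Cx u) (H := H) (D := S ⊓ Cx u ⊓ Cx e ⊓ centralizer H)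
    (q.c.syl.pgroup.to_le inf_le_left) (inf_le_left.trans inf_le_left) (fun t ht => hH.nS t ht.1)
    (fun t ht a ha => ⟨q.conj_C ht.1 ha.1, fun h hh => by
      have := ha.2 _ (hH.nS _ (inv_mem ht.1) h hh)
      calc _ = t * (t⁻¹ * h * t⁻¹⁻¹ * a) * t⁻¹ := by group
        _ = _ := by rw [this]; group⟩) (c := c) ⟨hc, fun h hh => (cH h hh).symm⟩ hn
  have a0 : InK S u e H k0 := ⟨hk0.1, fun h hh => (hk0.2 h hh).symm, q0, r0⟩
  obtain ⟨k, a, kH, sk⟩ : ∃ k, InK S u e H k ∧ k ∉ H ∧ s * k * s⁻¹ * k⁻¹ ∈ H := by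
    by_cases h : s * k0 * s⁻¹ * k0⁻¹ ∈ H
    · exact ⟨k0, a0, k0H, h⟩
    have b0 := a0.conj (mem_normalizer_of_forall (hH.nS s sS))
      (mem_normalizer_of_forall fun _ => q.c.conj_T sS) (mem_normalizer_of_forall fun _ => q.conj_C sS)
    refine ⟨_, a0.mul hH b0, fun h1 => h ?_, ?_⟩
    · have := mul_mem (hH.nS _ (inv_mem a0.mem.1.1) _ h1) (inv_mem a0.sq)
      convert this using 1; group
    · have := a0.cm _ b0.mem.1
      convert this using 1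
      calc _ = s * k0 * s⁻¹ * ((s * s) * k0 * (s * s)⁻¹) * (k0 * (s * k0 * s⁻¹))⁻¹ := by group
        _ = _ := by rw [ss]; group
  have fin : ∀ k, InK S u e H k → s * k * s⁻¹ * k⁻¹ ∈ H → k * (g * k * g⁻¹) = g * k * g⁻¹ * k → k ∈ H :=
    fun k a sk kg => by
      obtain ⟨H', h1, h2, h3⟩ := ext q hH sS su sg a sk kg
      exact mx H' h1 h2 h3
  have a1 := a.conj hH.ng q.c.gT q.gC
  have a2 := a.conj (inv_mem hH.ng) (inv_mem q.c.gT) (inv_mem q.gC)
  have e1 := gg q a.mem.1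
  have s1 : s * (g * k * g⁻¹) * s⁻¹ * (g⁻¹ * k * g⁻¹⁻¹)⁻¹ ∈ H := by
    have := conj_mem_of_mem_normalizer (inv_mem hH.ng) sk
    convert this using 1
    calc _ = (s * g * s⁻¹) * (s * k * s⁻¹) * (s * g * s⁻¹)⁻¹ * (g⁻¹ * k * g⁻¹⁻¹)⁻¹ := by group
      _ = _ := by rw [sg]; group
  have s2 : s * (g⁻¹ * k * g⁻¹⁻¹) * s⁻¹ * (g * k * g⁻¹)⁻¹ ∈ H := by
    have := conj_mem_of_mem_normalizer hH.ng sk
    convert this using 1
    calc _ = (s * g * s⁻¹)⁻¹ * (s * k * s⁻¹) * (s * g * s⁻¹) * (g * k * g⁻¹)⁻¹ := by group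
      _ = _ := by rw [sg]; group
  obtain ⟨k1, hk1⟩ : ∃ k1, k1 = g * k * g⁻¹ := ⟨_, rfl⟩
  obtain ⟨k2, hk2⟩ : ∃ k2, k2 = g⁻¹ * k * g⁻¹⁻¹ := ⟨_, rfl⟩
  have e2 : g * k2 * g⁻¹ = k := by rw [hk2]; group
  rw [← hk1] at a1 e1 s1 s2
  rw [← hk2] at a2 e1 s1 s2
  have an := (a.mul hH a1).mul hH a2
  have nH : k * k1 * k2 ∈ H := by
    refine fin _ an ?_ ?_
    · have := mul_mem (mul_mem (mul_mem sk (hH.nS _ a.mem.1.1 _ s1)) (hH.nS _ (mul_mem a.mem a2.mem).1.1 _ s2))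
        (hH.nS _ a.mem.1.1 _ (a1.cm _ a2.mem.1))
      convert this using 1; group
    · have e3 : g * (k * k1 * k2) * g⁻¹ = k⁻¹ * (k * k1 * k2) * k⁻¹⁻¹ * (k * k1 * k2)⁻¹ * (k * k1 * k2) := by
        rw [← conj_mul, ← conj_mul, ← hk1, e1, e2]; group
      rw [e3, ← mul_assoc, an.cen _ (an.cm _ (inv_mem a.mem.1))]
  refine kH (fin k a sk ?_)
  rw [← hk1]
  obtain ⟨κ, hκ⟩ : ∃ κ, κ = k * k1 * k⁻¹ * k1⁻¹ := ⟨_, rfl⟩
  have κH : κ ∈ H := hκ ▸ a1.cm _ a.mem.1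
  have e4 : k * k1 * k⁻¹ = κ * k1 := by rw [hκ]; group
  have κκ : κ * κ = 1 := by
    have h1 : k * k * k1 * (k * k)⁻¹ = κ * κ * k1 := by
      calc _ = k * (k * k1 * k⁻¹) * k⁻¹ := by group
        _ = (k * κ) * k1 * k⁻¹ := by rw [e4]; group
        _ = κ * (k * k1 * k⁻¹) := by rw [a.cen κ κH]; group
        _ = _ := by rw [e4]; group
    rw [← a1.cen _ a.sq, mul_inv_cancel_right] at h1
    exact (mul_eq_right.1 h1.symm)
  have κU : κ ∈ V2 z u := q.c.om κ (hH.le κH).1 κκ fun t ht => by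
    rw [← mul_inv_eq_iff_eq_mul]
    have h1 := a.cm t ht
    have h2 := a1.cm t ht
    have := comm_adj (a := k) (b := k1) (a.cen _ h1).symm (a1.cen _ h1).symm (hH.ab _ h1 _ h2) (a.cen _ h2).symm
      (a1.cen _ h2).symm
    rw [hκ]
    exact Eq.trans (by group) this
  have κg : g * κ * g⁻¹ = κ := by
    have h1 : g * κ * g⁻¹ = k1 * k2 * k1⁻¹ * k2⁻¹ := by rw [← e1, hκ, hk1]; group
    have h2 := a1.cen _ nH
    have h3 := (a1.mul hH a).cen _ κH
    calc _ = k⁻¹ * (k * k1 * k2) * k1⁻¹ * (k * k1 * k2)⁻¹ * k * k1 := by rw [h1]; group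
      _ = k⁻¹ * k1⁻¹ * (k1 * (k * k1 * k2)) * k1⁻¹ * (k * k1 * k2)⁻¹ * k * k1 := by group
      _ = (k1 * k)⁻¹ * (κ * (k1 * k)) := by rw [h2, hκ]; group
      _ = κ := by rw [← h3]; group
  rw [gfix q κU κg, one_mul, mul_inv_eq_iff_eq_mul] at e4
  exact e4

theorem exists_max (q : Q S z u g e) (ab : ∀ c c', In1 S z u e c → In1 S z u e c' → c * c' = c' * c) :
    ∃ H, Gd S z u g e H ∧ ∀ H', Gd S z u g e H' → H ≤ H' → H' ≤ H := by
  let C1 : Subgroup G :=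
    { carrier := {c | In1 S z u e c}
      one_mem' := q.in1_A (one_mem _)
      mul_mem' := q.in1_mul
      inv_mem' := q.in1_inv }
  obtain ⟨H, h1, h2⟩ := Set.Finite.exists_maximal (Set.toFinite {H | Gd S z u g e H})
    ⟨C1, fun _ h => h.1, fun _ h => h, fun a ha b hb => ab a b ha hb, fun _ hs _ => q.in1_conj hs,
      mem_normalizer_of_forall fun _ => q.in1_g⟩
  exact ⟨H, h1, fun H' h3 h4 => h2 h3 h4⟩

/-- `t` induces the transvection with centre `z` and axis `U` on `A` -/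
theorem tA (q : Q S z u g e) {t a : G} (tT : t ∈ S ⊓ Cx u) (te : cm t e = z) (ha : a ∈ V3 z u e)
    (aU : a ∉ V2 z u) : a * (t * a * t⁻¹) = z := by
  have h := q.n.cm_of_mem q.c tT (((q.n.mem_E q.c).1 ha).resolve_left aU)
  rw [te] at h
  rw [← h, (q.n.elE q.c).comm ha (q.conj_A tT.1 ha)]

theorem mem_U (q : Q S z u g e) {t a : G} (tT : t ∈ S ⊓ Cx u) (te : cm t e = z) (ha : a ∈ V3 z u e)
    (h : t * a = a * t) : a ∈ V2 z u := by
  by_contra aU
  have := tA q tT te ha aU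
  rw [h, mul_inv_cancel_right, q.n.elE q.c a ha] at this
  exact q.c.z1 this.symm

theorem inverts (rk : PRankLE 2 3 G) (q : Q S z u g e) (hH : Gd S z u g e H) {t y c0 c1 : G}
    (tT : t ∈ S ⊓ Cx u) (te : cm t e = z) (sS : s ∈ S) (su : s * u * s⁻¹ = z * u)
    (hy : y ∈ S ⊓ Cx u ⊓ Cx e) (yt : y * t = t * y) (ys : y * s = s * y) (yy : y * y = z)
    (h0 : c0 ∈ H) (h1 : c1 ∈ H) (q0 : c0 * c0 = z) (q1 : c1 * c1 = u) (y0 : y * c0 * y⁻¹ = z * c0)
    (y1 : y * c1 * y⁻¹ = u * c1) {h : G} (hh : h ∈ H) : h * (y * h * y⁻¹) = 1 := by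
  have AH : ∀ a ∈ V3 z u e, a ∈ H := fun a ha => hH.c1 a (q.in1_A ha)
  have key : ∀ c ∈ H, ∀ h ∈ H, y * h = h * y → h * h = c * c → y * c * y⁻¹ = c := fun c hc h hh yh e1 => by
    have h2 : h⁻¹ * c ∈ V3 z u e := q.omC rk (hH.le (mul_mem (inv_mem hh) hc)) (by
      rw [mul_assoc, ← mul_assoc c, hH.ab c hc _ (inv_mem hh), mul_assoc, ← e1]; group)
    have h3 := q.cA hy h2
    calc _ = (y * h) * y⁻¹ * (y * (h⁻¹ * c)) * y⁻¹ := by group
      _ = _ := by rw [h3, yh]; group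
  have nz : ∀ h ∈ H, y * h = h * y → h * h ≠ z := fun h hh yh e1 =>
    q.c.z1 (mul_eq_right.1 (y0.symm.trans (key c0 h0 h hh yh (e1.trans q0.symm))))
  have cjc : ∀ r ∈ S, y * r = r * y → ∀ h, y * h = h * y → y * (r * h * r⁻¹) = r * h * r⁻¹ * y :=
    fun r _ yr h yh => (((show Commute y r from yr).mul_right yh).mul_right (show Commute y r from yr).inv_right).eq
  have sqA : ∀ h ∈ H, y * h = h * y → h * h ∈ V3 z u e → h ∈ V3 z u e := fun h hh yh hA => by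
    by_cases hU : h * h ∈ V2 z u
    · rcases q.c.mem_U.1 hU with e1 | e1 | e1 | e1
      · exact q.omC rk (hH.le hh) e1
      · exact absurd e1 (nz h hh yh)
      · exact absurd (mul_eq_right.1 (y1.symm.trans (key c1 h1 h hh yh (e1.trans q1.symm)))) q.c.u1
      · have := key _ (mul_mem h0 h1) h hh yh (by
          rw [e1, mul_assoc, ← mul_assoc c1, hH.ab _ h1 _ h0, mul_assoc, q1, ← mul_assoc, q0])
        rw [← conj_mul, y0, y1, mul_assoc, ← mul_assoc c0, mem_Cx.1 (hH.le h0).1.2, mul_assoc, ← mul_assoc] at this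
        exact absurd (mul_eq_right.1 this) q.c.zu_ne_one
    · have h2 := hH.nS t tT.1 h hh
      refine absurd ?_ (nz _ (mul_mem hh h2) ((show Commute y h from yh).mul_right (cjc t tT.1 yt h yh)).eq)
      rw [mul_assoc, ← mul_assoc (t * h * t⁻¹), ← hH.ab h hh _ h2, mul_assoc, ← mul_assoc, conj_mul,
        tA q tT te hA hU]
  have cA : ∀ n : ℕ, ∀ h ∈ H, y * h = h * y → h ^ 2 ^ n = 1 → h ∈ V3 z u e := fun n => by
    induction n with
    | zero => intro h _ _ e1; rw [pow_zero, pow_one] at e1; exact e1 ▸ one_mem _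
    | succ n ih =>
      exact fun h hh yh e1 => sqA h hh yh (ih _ (mul_mem hh hh) ((show Commute y h from yh).mul_right yh).eq
        (by rw [← _root_.sq, ← pow_mul, ← pow_succ', e1]))
  have NA : ∀ h ∈ H, h * (y * h * y⁻¹) ∈ V3 z u e := fun h hh => by
    have h2 := hH.nS y hy.1.1 h hh
    obtain ⟨n, hn⟩ := isPGroup_iff_mem.1 q.c.syl.pgroup _ (hH.le (mul_mem hh h2)).1.1
    refine cA n _ (mul_mem hh h2) ?_ hn
    rw [← mul_inv_eq_iff_eq_mul, hH.ab h hh _ h2]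
    calc _ = (y * y) * h * (y * y)⁻¹ * (y * h * y⁻¹) := by group
      _ = _ := by rw [yy, ← q.c.zc h (hH.le hh).1.1, mul_inv_cancel_right, hH.ab h hh _ h2]
  have Nz : ∀ h ∈ H, h * (y * h * y⁻¹) ≠ z := fun h hh e1 => by
    have h2 : h * y ∈ V3 z u e := q.omC rk (mul_mem (hH.le hh) hy) (by
      calc _ = h * (y * h * y⁻¹) * (y * y) := by group
        _ = _ := by rw [e1, yy, q.c.zz])
    have h3 : y ∈ H := by simpa using mul_mem (inv_mem hh) (AH _ h2)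
    rw [hH.ab y h3 c0 h0, mul_inv_cancel_right] at y0
    exact q.c.z1 (mul_eq_right.1 y0.symm)
  have Nc : ∀ r ∈ S, y * r = r * y → h * (y * h * y⁻¹) * (r * (h * (y * h * y⁻¹)) * r⁻¹) ≠ z := fun r hr yr e1 => by
    have h2 := hH.nS r hr h hh
    refine Nz _ (mul_mem hh h2) (e1 ▸ ?_)
    have h3 := hH.ab _ h2 _ (hH.nS y hy.1.1 h hh)
    have h4 : y * r * h * (y * r)⁻¹ = r * y * h * (r * y)⁻¹ := by rw [yr]
    calc _ = h * (r * h * r⁻¹ * (y * h * y⁻¹)) * (y * r * h * (y * r)⁻¹) := by group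
      _ = _ := by rw [h3, h4]; group
  by_cases hU : h * (y * h * y⁻¹) ∈ V2 z u
  · rcases q.c.mem_U.1 hU with e1 | e1 | e1 | e1
    · exact e1
    · exact absurd e1 (Nz h hh)
    · exact absurd (by rw [e1, su, ← mul_assoc, ← q.c.zu, mul_assoc, q.c.uu, mul_one]) (Nc s sS ys)
    · exact absurd (by
        rw [e1, ← conj_mul, su, q.c.zc s sS, mul_inv_cancel_right, ← mul_assoc z z, q.c.zz, one_mul, mul_assoc,
          q.c.uu, mul_one]) (Nc s sS ys)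
  · exact absurd (tA q tT te (NA h hh) hU) (Nc t tT.1 yt)

theorem main (rk : PRankLE 2 3 G) {t s ρ y : G} (b : BX S z u g e t s ρ) (hy : y ∈ S ⊓ Cx u ⊓ Cx e)
    (yt : y * t = t * y) (ys : y * s = s * y) (yy : y * y = z) : In1 S z u e y := by
  have q := b.j.q
  have tT := b.tJ.1
  have tt := (q.jj_sq b.tJ).1
  obtain ⟨c0, i0, q0, t0, s0⟩ := b.c0
  have fin : ∀ c, In1 S z u e c → y * c * (y * c) = 1 → In1 S z u e y := fun c ic h => by
    simpa using q.in1_mul (q.in1_A (q.omC rk (mul_mem hy ic.1) h)) (q.in1_inv ic)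
  have y0 : y * c0 * y⁻¹ * c0⁻¹ = 1 ∨ y * c0 * y⁻¹ * c0⁻¹ = z := by
    have k : ∀ r, y * r = r * y → c0 * r = r * c0 → r * (y * c0 * y⁻¹ * c0⁻¹) = y * c0 * y⁻¹ * c0⁻¹ * r :=
      fun r h1 h2 => ((((show Commute r y from h1.symm).mul_right h2.symm).mul_right
        (show Commute r y from h1.symm).inv_right).mul_right (show Commute r c0 from h2.symm).inv_right).eq
    exact q.fixU b.su b.sS (mem_U q tT b.te (i0.2.2 y hy.1) (k t yt t0)) (by rw [k s ys s0, mul_inv_cancel_right])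
  rcases y0 with y0 | y0
  · refine fin c0 i0 ?_
    rw [mul_inv_eq_one, mul_inv_eq_iff_eq_mul] at y0
    rw [mul_assoc, ← mul_assoc c0, ← y0, mul_assoc, q0, ← mul_assoc, yy, q.c.zz]
  rw [mul_inv_eq_iff_eq_mul] at y0
  have i1 := q.in1_g i0
  obtain ⟨c1, hc1⟩ : ∃ c1, c1 = g * c0 * g⁻¹ := ⟨_, rfl⟩
  have q1 : c1 * c1 = u := by rw [hc1, conj_mul, q0, q.c.gz]
  rw [← hc1] at i1
  obtain ⟨d, hd⟩ : ∃ d, d = c1 * y * c1⁻¹ * y⁻¹ := ⟨_, rfl⟩
  have dA : d ∈ V3 z u e := by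
    have := inv_mem (i1.2.2 y hy.1)
    convert this using 1; rw [hd]; group
  have e1 : c1 * y * c1⁻¹ = d * y := by rw [hd]; group
  have cj1 : ∀ r, y * r = r * y → d * y * (c1 * r * c1⁻¹) = c1 * r * c1⁻¹ * (d * y) := fun r h => by
    rw [← e1, conj_mul, conj_mul, h]
  have dU : d ∈ V2 z u := by
    refine mem_U q tT b.te dA ?_
    have h1 := (b.lc.oth c1 i1 (q1 ▸ q.c.u1) (q1 ▸ q.c.uz)).1
    have h2 := cj1 t yt
    have h3 : c1 * t * c1⁻¹ = cm c1 t * t := by rw [cm, mul_assoc _ t t, tt, mul_one]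
    rw [h3] at h2
    generalize cm c1 t = v at h1 h2
    have h4 := q.c.cU (mul_mem (q.A_le dA) hy).1 h1
    rw [← mul_assoc, h4, mul_assoc, mul_assoc v, mul_right_inj, mul_assoc, yt, ← mul_assoc, ← mul_assoc,
      mul_left_inj] at h2
    exact h2.symm
  have ds : d * s * d⁻¹ * z = s := by
    have i2 := q.in1_mul (q.in1_conj (inv_mem b.sS) i1) (q.in1_inv i1)
    have si : s⁻¹ = s := inv_eq_of_mul_eq_one_right b.ss
    have h1 := b.lc.inj c0 _ i0 i2 (by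
      have h := b.lc.ab _ _ (q.in1_inv i1) (q.in1_conj (inv_mem b.sS) i1)
      symm
      calc _ = s⁻¹ * c1 * s⁻¹⁻¹ * (c1⁻¹ * (s⁻¹ * c1 * s⁻¹⁻¹)) * c1⁻¹ := by group
        _ = s⁻¹ * (c1 * c1) * s⁻¹⁻¹ * (c1 * c1)⁻¹ := by rw [h]; group
        _ = _ := by rw [q0, q1, si, b.su, mul_inv_cancel_right])
    obtain ⟨a, ha⟩ : ∃ a, a = c0⁻¹ * (s⁻¹ * c1 * s⁻¹⁻¹ * c1⁻¹) := ⟨_, rfl⟩
    rw [← ha] at h1
    have h3 : c1 * s * c1⁻¹ = s * c0 * a := by
      calc _ = s * (s⁻¹ * c1 * s⁻¹⁻¹ * c1⁻¹) := by group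
        _ = _ := by rw [ha]; group
    have h2 := cj1 s ys
    rw [h3] at h2
    have h4 := q.cA hy h1
    have h5 := (q.n.elE q.c).comm dA h1
    have h6 := q.cA i0.1 dA
    have h7 := q.c.zc d (q.A_le dA).1.1
    have h8 : d * s * z * (c0 * a * y) = s * d * (c0 * a * y) := by
      calc _ = d * s * (z * c0) * (a * y) := by group
        _ = d * (s * y) * c0 * y⁻¹ * (y * a) := by rw [← y0, h4]; group
        _ = d * y * (s * c0 * a) := by rw [← ys]; group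
        _ = s * c0 * (a * d) * y := by rw [h2]; group
        _ = s * (c0 * d) * a * y := by rw [← h5]; group
        _ = _ := by rw [h6]; group
    calc _ = d * s * d⁻¹ * (z * d) * d⁻¹ := by group
      _ = d * s * z * d⁻¹ := by rw [← h7]; group
      _ = _ := by rw [mul_right_cancel h8]; group
  rcases q.c.mem_U.1 dU with e2 | e2 | e2 | e2
  · rw [e2] at ds; exact absurd (by simpa using ds) q.c.z1
  · rw [e2, ← q.c.zc s b.sS, mul_inv_cancel_right] at ds; exact absurd (by simpa using ds) q.c.z1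
  swap
  · refine fin c1 i1 ?_
    calc _ = y * (c1 * y * c1⁻¹) * (c1 * c1) := by group
      _ = _ := by
        rw [e1, e2, q1, ← q.c.cU hy.1 (mul_mem (l_V2 _ _) (r_V2 _ _)), ← mul_assoc, yy, ← mul_assoc, q.c.zz, one_mul,
          q.c.uu]
  have y1 : y * c1 * y⁻¹ = u * c1 := by
    have h1 : y * c1⁻¹ * y⁻¹ = c1 := by
      calc _ = c1⁻¹ * (c1 * y * c1⁻¹ * y⁻¹) := by group
        _ = _ := by rw [← hd, e2, ← q1]; group
    calc _ = (y * c1⁻¹ * y⁻¹)⁻¹ := by group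
      _ = u⁻¹ * c1 := by rw [h1, ← q1]; group
      _ = _ := by rw [inv_eq_of_mul_eq_one_right q.c.uu]
  obtain ⟨H, hH, mx⟩ := exists_max q b.lc.ab
  have iv := fun h => inverts rk q hH tT b.te b.sS b.su hy yt ys yy (hH.c1 _ i0) (hH.c1 _ i1) q0 q1 y0 y1 (h := h)
  have iv' : ∀ h ∈ H, y * h * y⁻¹ = h⁻¹ := fun h hh => eq_inv_of_mul_eq_one_right (iv h hh)
  have iv1 : ∀ h ∈ H, g * y * g⁻¹ * h * (g * y * g⁻¹)⁻¹ = h⁻¹ := fun h hh => by
    calc _ = g * (y * (g⁻¹ * h * g) * y⁻¹) * g⁻¹ := by group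
      _ = _ := by rw [iv' _ (conj_mem_of_mem_normalizer' hH.ng hh)]; group
  have m := selfC q hH mx b.sS b.ss b.su b.sg (mul_mem hy (conj_mem_of_mem_normalizer q.gC hy)) fun h hh => by
    rw [← mul_inv_eq_iff_eq_mul]
    calc _ = y * (g * y * g⁻¹ * h * (g * y * g⁻¹)⁻¹) * y⁻¹ := by group
      _ = _ := by rw [iv1 h hh, iv' _ (inv_mem hh), inv_inv]
  refine absurd ?_ q.c.uz
  have h1 : y * y * (g * (y * y) * g⁻¹) = 1 := by
    calc _ = y * (y * (g * y * g⁻¹)) * y⁻¹ * (y * (g * y * g⁻¹)) := by group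
      _ = _ := by rw [iv' _ m, inv_mul_cancel]
  rw [yy, q.c.gz] at h1
  exact absurd h1 q.c.zu_ne_one

end ZC

theorem BX.zc (rk : PRankLE 2 3 G) {t s ρ y : G} (b : BX S z u g e t s ρ) (hy : y ∈ S ⊓ Cx u ⊓ Cx e)
    (yt : y * t = t * y) (yy : y * y = z) : In1 S z u e y := by
  have q := b.j.q
  rcases b.ys y hy yt with h | h
  · exact ZC.main rk b hy yt (mul_inv_eq_iff_eq_mul.1 h).symm yy
  have uA : u ∈ V3 z u e := V2_le_V3 _ _ _ (r_V2 _ _)
  have yu := mem_Cx.1 hy.1.2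
  have := ZC.main rk b (mul_mem hy (q.A_le uA))
    (by rw [mul_assoc, ← mem_Cx.1 b.tJ.1.2, ← mul_assoc, yt, mul_assoc]) (Eq.symm (mul_inv_eq_iff_eq_mul.1 (by
      rw [← conj_mul, h, b.su, mul_assoc, ← mul_assoc y, q.c.zc y hy.1.1, ← mul_assoc, ← mul_assoc, q.c.zz, one_mul])))
    (by rw [mul_assoc, ← mul_assoc u, ← yu, mul_assoc, q.c.uu, mul_one, yy])
  have h2 := q.in1_mul this (q.in1_A uA)
  rwa [mul_assoc, q.c.uu, mul_one] at h2

end CfsgLib.Rk3B
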