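import Cfsg.Agent.Lib.Rk3B.Ka
import Cfsg.Agent.Lib.Rk3B.Zc

/-!
`e` is conjugate to `z`  (plans/RK3B.md, package BET)
-/

set_option autoImplicit false
set_option linter.unusedSectionVars false

namespace CfsgLib.Rk3B

open Subgroup Cfsg CfsgLib.Tech CfsgLib.W2 CfsgLib.Rk3

variable {G : Type*} [Group G] [Finite G] {S : Subgroup G} {z u g e : G}

namespace BetP

variable {t s ρ : G} (b : BX S z u g e t s ρ)
include b

theorem tt : t * t = 1 := (b.j.q.jj_sq b.tJ).1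

theorem ti : t⁻¹ = t := inv_eq_of_mul_eq_one_right (tt b)

theorem tet : t * e * t⁻¹ = z * e := by rw [← b.te, cm, mul_assoc _ e e, b.j.q.n.ee, mul_one]

theorem cm_t {x y : G} (h : cm x t = y) : x * t * x⁻¹ = y * t := by
  rw [← h, cm, mul_assoc _ t t, tt b, mul_one]

theorem cet : cm e t = z := by
  rw [← cm_inv b.j.q.n.ee (tt b), b.te, inv_eq_of_mul_eq_one_right b.j.q.c.zz]

theorem cmm {x y : G} (hx : x ∈ S ⊓ Cx u) (hy : cm y t ∈ V2 z u) : cm (x * y) t = cm y t * cm x t :=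
  Rk3.cm_mul (tt b) (b.j.q.c.cU hx hy)

theorem fixA {a : G} (ha : a ∈ V3 z u e) (h : t * a * t⁻¹ = a) : a ∈ V2 z u :=
  ((b.j.q.n.mem_E b.j.q.c).1 ha).resolve_right fun h1 => b.j.q.c.z1 (by
    rw [← b.te, ← b.j.q.n.cm_of_mem b.j.q.c b.tJ.1 h1, cm, h, b.j.q.n.elE b.j.q.c a ha])

theorem inv1 (rk : PRankLE 2 3 G) {f : G} (hf : f = u ∨ f = z * u) :
    ∃ c, In1 S z u e c ∧ c * c = f ∧ cm c t = f := by
  have q := b.j.q
  have fU : f ∈ V2 z u := q.c.mem_U.2 (by tauto)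
  have zf : z * (z * u) = u := by rw [← mul_assoc, q.c.zz, one_mul]
  obtain ⟨c, h1, h2⟩ := q.exists_in1 rk b.j.big fU
  obtain ⟨h3, h4, h5⟩ := b.lc.oth c h1 (by
    rcases hf with rfl | rfl <;> rw [h2]
    exacts [q.c.u1, q.c.zu_ne_one]) (by
    rcases hf with rfl | rfl <;> rw [h2]
    exacts [q.c.uz, q.c.zu_ne_z])
  rw [b.te] at h5
  by_cases h6 : cm c t = f
  · exact ⟨c, h1, h2, h6⟩
  refine ⟨c * e, q.in1_mul h1 (q.in1_A (r_V3 _ _ _)), ?_, ?_⟩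
  · rw [mul_assoc, ← mul_assoc e, ← mem_Cx.1 h1.1.2, mul_assoc, q.n.ee, mul_one, h2]
  · rw [cmm b h1.1.1 (cet b ▸ l_V2 _ _), cet b]
    rcases q.c.mem_U.1 h3 with h | h | h | h
    · exact absurd h h4
    · exact absurd h h5
    · rw [h, hf.resolve_left fun e => h6 (h.trans e.symm)]
    · rw [h, zf, hf.resolve_right fun e => h6 (h.trans e.symm)]

theorem sqm {x y : G} (hx : In1 S z u e x) (hy : In1 S z u e y) : x * y * (x * y) = x * x * (y * y) := by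
  rw [mul_assoc, ← mul_assoc y, ← b.lc.ab _ _ hx hy]; group

theorem ont (rk : PRankLE 2 3 G) {a : G} (ha : a ∈ V2 z u) : ∃ x, In1 S z u e x ∧ cm x t = a := by
  rcases b.j.q.c.mem_U.1 ha with h | h | h | h
  · exact ⟨1, b.j.q.in1_A (one_mem _), by simp [cm, tt b, h]⟩
  · exact ⟨e, b.j.q.in1_A (r_V3 _ _ _), h ▸ cet b⟩
  · exact (inv1 b rk (.inl h)).imp fun _ h => ⟨h.1, h.2.2⟩
  · exact (inv1 b rk (.inr h)).imp fun _ h => ⟨h.1, h.2.2⟩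

theorem in1_d (rk : PRankLE 2 3 G) {d : G} (hd : d ∈ S ⊓ Cx u ⊓ Cx e) (dt : cm d t = d * d)
    (dU : d * d ∈ V2 z u) : In1 S z u e d := by
  have q := b.j.q
  have key : ∀ c, In1 S z u e c → cm c t = d * d → c * c = d * d ∨ c = e ∧ d * d = z → In1 S z u e d :=
    fun c hc h1 h2 => by
      have rC := mul_mem hd (inv_mem hc.1)
      have rt : d * c⁻¹ * t = t * (d * c⁻¹) := by
        have h3 : c⁻¹ * t * c = d * d * t := by
          have := q.c.cU hc.1.1 dU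
          rw [mul_assoc, inv_mul_eq_iff_eq_mul, ← mul_assoc, this, mul_assoc _ c, mul_inv_eq_iff_eq_mul.1 (cm_t b h1),
            ← mul_assoc, ← mul_assoc, q.c.elU _ dU, one_mul]
        rw [← mul_inv_eq_iff_eq_mul, show d * c⁻¹ * t * (d * c⁻¹)⁻¹ = d * (c⁻¹ * t * c) * d⁻¹ by group, h3,
          show d * (d * d * t) * d⁻¹ = d * d * (d * t * d⁻¹) by group, cm_t b dt, ← mul_assoc, q.c.elU _ dU, one_mul]
      have h4 : d * c⁻¹ * (d * c⁻¹) ∈ V3 z u e := by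
        have := mul_mem (mul_mem (V2_le_V3 _ _ e dU) (inv_mem hc.2.1))
          (q.conj_A hc.1.1.1 (q.conj_A hc.1.1.1 ((q.in1_inv hc).2.2 _ (inv_mem hd.1))))
        rw [show c * (c * (d⁻¹ * c⁻¹ * d⁻¹⁻¹ * c⁻¹⁻¹) * c⁻¹) * c⁻¹ = c * c * (d⁻¹ * c⁻¹ * d * c⁻¹) by group] at this
        convert this using 1; group
      rw [← inv_mul_cancel_right d c]
      refine q.in1_mul ?_ hc
      rcases b.lc.sq _ rC.1 rt (q.n.elE q.c _ h4) with h | h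
      exacts [q.in1_A (q.omC rk rC h), b.zc rk rC rt h]
  rcases q.c.mem_U.1 dU with h | h | h | h
  · exact q.in1_A (q.omC rk hd h)
  · exact key e (q.in1_A (r_V3 _ _ _)) (h ▸ cet b) (.inr ⟨rfl, h⟩)
  · obtain ⟨c, h1, h2, h3⟩ := inv1 b rk (.inl h)
    exact key c h1 h3 (.inl h2)
  · obtain ⟨c, h1, h2, h3⟩ := inv1 b rk (.inr h)
    exact key c h1 h3 (.inl h2)

theorem exists_d (rk : PRankLE 2 3 G) : ∃ d, In1 S z u e d ∧ d * d = z ∧ IsConj z (d * t) := by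
  have q := b.j.q
  have tT := b.tJ.1
  have tz := q.c.zc t tT.1
  have tu := mem_Cx.1 tT.2
  have nt : ∀ x ∈ S ⊓ Cx u ⊓ Cx e, t * x * t⁻¹ ∈ S ⊓ Cx u ⊓ Cx e := fun x => q.conj_C tT.1
  have cU : ∀ x ∈ S ⊓ Cx u, x ∈ normalizer ((V3 z u t : Subgroup G) : Set G) → cm x t ∈ V2 z u := fun x hx h =>
    ((mem_V3 (tt b) tz tu).1 (conj_mem_of_mem_normalizer h (r_V3 _ _ _))).resolve_left fun h1 =>
      (q.jj_sq b.tJ).2.1 (by simpa [mul_assoc] using q.c.conj_U (inv_mem hx.1) h1)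
  have nE : ∀ x ∈ S, cm x t ∈ V2 z u → x ∈ normalizer ((V3 z u t : Subgroup G) : Set G) := fun x hx h =>
    mem_normalizer_of_cj_le (by
      rw [cj_V3, V3_le]
      exact ⟨V2_le_V3 _ _ _ (q.c.conj_U hx (l_V2 _ _)), V2_le_V3 _ _ _ (q.c.conj_U hx (r_V2 _ _)),
        (mem_V3 (tt b) tz tu).2 (.inr h)⟩)
  obtain ⟨L, hL⟩ : ∃ L, L = (S ⊓ Cx u ⊓ Cx e ⊔ zpowers t) ⊓ normalizer ((V3 z u t : Subgroup G) : Set G) := ⟨_, rfl⟩
  have PT : S ⊓ Cx u ⊓ Cx e ⊔ zpowers t ≤ S ⊓ Cx u := sup_le inf_le_left (zpowers_le.2 tT)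
  have tL : t ∈ L := hL ▸ ⟨mem_sup_right (mem_zpowers t), le_normalizer (r_V3 _ _ _)⟩
  obtain ⟨y, yC, yL, yN⟩ : ∃ y ∈ S ⊓ Cx u ⊓ Cx e, y ∉ L ∧ y ∈ normalizer (L : Set G) := by
    obtain ⟨aC, -, -, h, hh, h2⟩ := b.ka rk rfl
    have hC := zpowers_le.2 aC hh
    obtain ⟨y, h3, h4, h5⟩ := exists_mem_normalizer_of_lt (Q := L) (q.c.syl.pgroup.to_le (PT.trans inf_le_left))
      (lt_of_le_of_ne (hL ▸ inf_le_left) fun e1 => by
        have h6 := cU h hC.1 (hL.le (e1.ge (mem_sup_left hC))).2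
        have h7 := cmm b hC.1 h6
        rw [q.c.elU _ h6, h2, cmm b q.n.eT (by rw [(cm_eq_one (tt b)).2 tu.symm]; exact one_mem _), cet b,
          (cm_eq_one (tt b)).2 tu.symm, one_mul] at h7
        exact q.c.z1 h7)
    rcases (mem_sup_inv (tt b) nt).1 h3 with h6 | h6
    · exact ⟨y, h6, h4, h5⟩
    · exact ⟨y * t, h6, fun h7 => h4 ((mul_mem_cancel_right tL).1 h7), mul_mem h5 (le_normalizer tL)⟩
  have dC : cm y t ∈ S ⊓ Cx u ⊓ Cx e := by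
    have := mul_mem yC (nt _ (inv_mem yC))
    rwa [ti b, ← mul_assoc, ← mul_assoc] at this
  have dd : cm (cm y t) t = cm y t * cm y t := by
    simp only [cm, mul_inv_rev, inv_inv, ti b, mul_assoc]
    rw [← mul_assoc t t, tt b, one_mul]
  have dU : cm y t * cm y t ∈ V2 z u :=
    dd ▸ cU _ dC.1 (hL.le (mul_mem (conj_mem_of_mem_normalizer yN tL) tL)).2
  have d1 := in1_d b rk dC dd dU
  have cj : ∀ y, IsConj z (cm y t * t) := fun y => b.tJ.2.2.trans (isConj_iff.2 ⟨y, cm_t b rfl⟩)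
  have two : cm y t * cm y t = u ∨ cm y t * cm y t = z * u → ∃ d, In1 S z u e d ∧ d * d = z ∧ IsConj z (d * t) :=
    fun h => by
      have ds := q.in1_conj b.sS d1
      have e1 : cm (y * (s * y * s⁻¹)) t = y * (s * cm y t * s⁻¹) * y⁻¹ * cm y t := by
        rw [Rk3.cm_conj, b.st, mul_inv_cancel_right]
        simp only [cm, mul_inv_rev, mul_assoc]
        rw [inv_mul_cancel_left, ← mul_assoc t t, tt b, one_mul]
      have dy := q.in1_conj yC.1.1 ds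
      refine ⟨_, e1 ▸ q.in1_mul dy d1, ?_, cj _⟩
      have e2 : s * (cm y t * cm y t) * s⁻¹ ∈ V2 z u := q.c.conj_U b.sS dU
      rw [e1, sqm b dy d1, conj_mul, conj_mul, q.c.cU yC.1 e2, mul_inv_cancel_right]
      rcases h with h | h <;> rw [h]
      · rw [b.su, mul_assoc, q.c.uu, mul_one]
      · rw [← conj_mul, b.su, q.c.zc s b.sS, mul_inv_cancel_right, ← mul_assoc z, q.c.zz, one_mul, ← mul_assoc,
          ← q.c.zu, mul_assoc, q.c.uu, mul_one]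
  rcases q.c.mem_U.1 dU with h | h | h | h
  · refine absurd (hL.ge ⟨mem_sup_left yC, nE y yC.1.1 (fixA b (q.omC rk dC h) ?_)⟩) yL
    rw [dd.trans h |> (cm_eq_one (tt b)).1 |>.symm, mul_inv_cancel_right]
  exacts [⟨_, d1, h, cj y⟩, two (.inl h), two (.inr h)]

theorem cl (rk : PRankLE 2 3 G) {d : G} (hd : In1 S z u e d) (dd : d * d = z) (h : d * t * (d * t) = 1) :
    IsConj z (d * t) := by
  have q := b.j.q
  obtain ⟨c, hc, cc, h1⟩ := exists_d b rk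
  have k : ∀ {x}, x * t * (x * t) = 1 → t * x * t⁻¹ = x⁻¹ := fun h => by
    rw [ti b, eq_inv_iff_mul_eq_one, ← mul_inv_cancel_right (t * _ * t * _) t, mul_assoc t, mul_assoc t, mul_assoc t,
      mul_assoc (_ * t), h, mul_one, mul_inv_cancel]
  have h2 : c * t * (c * t) = 1 := by
    obtain ⟨x, hx⟩ := isConj_iff.1 h1
    rw [← hx, conj_mul, q.c.zz]; simp
  have h3 := b.lc.inj c d hc hd (cc.trans dd.symm)
  obtain ⟨x, hx, h4⟩ := ont b rk (fixA b h3 (by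
    rw [← conj_mul, ← conj_inv, k h, k h2, inv_inv, b.lc.ab _ _ hc (q.in1_inv hd),
      ← inv_eq_of_mul_eq_one_right (q.n.elE q.c _ h3), mul_inv_rev, inv_inv]))
  refine h1.trans (isConj_iff.2 ⟨x, ?_⟩)
  rw [← conj_mul, cm_t b h4, b.lc.ab _ _ hx hc, mul_inv_cancel_right]; group

end BetP

open BetP in
theorem BX.isConj (rk : PRankLE 2 3 G) {t s ρ : G} (b : BX S z u g e t s ρ) : IsConj z e := by
  have q := b.j.q
  have tT := b.tJ.1
  have tz := q.c.zc t tT.1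
  have tu := mem_Cx.1 tT.2
  have zi := inv_eq_of_mul_eq_one_right q.c.zz
  have fz : ∀ {x}, x ∈ S → x * z * x⁻¹ = z := fun h => by rw [q.c.zc _ h, mul_inv_cancel_right]
  have ρz : ρ * z * ρ⁻¹ = z := by rw [b.ρz, mul_inv_cancel_right]
  have ρU : cj ρ (V2 z u) = V2 z t := by
    rw [cj_V2, ρz]
    rcases b.ρu with h | h <;> rw [h]
    refine le_antisymm (V2_le.2 ⟨l_V2 _ _, mul_mem (l_V2 _ _) (r_V2 _ _)⟩) (V2_le.2 ⟨l_V2 _ _, ?_⟩)
    have := mul_mem (l_V2 z (z * t)) (r_V2 z (z * t))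
    rwa [← mul_assoc, q.c.zz, one_mul] at this
  obtain ⟨aC, -, h1, h, hh, h2⟩ := b.ka rk rfl
  have h3 : h⁻¹ * (s * t) * h⁻¹⁻¹ = s * t * (e * u) := by
    obtain ⟨k, rfl⟩ := hh
    rw [← h2, inv_inv, ← mul_assoc (s * t), mul_left_inj, eq_comm, ← mul_inv_eq_iff_eq_mul, ← conj_zpow, h1, inv_zpow]
  have es : IsConj e (s * t) := by
    obtain ⟨x, -, hx⟩ := q.conj_e rk (a := ρ⁻¹ * (s * t) * ρ) (by
      have h4 : ρ⁻¹ * t * ρ ∈ V2 z u := mem_cj.1 (ρU ▸ r_V2 z t)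
      rw [show ρ⁻¹ * (s * t) * ρ * e = ρ⁻¹ * s * ρ * (ρ⁻¹ * t * ρ * e) by group, ← q.c.cU q.n.eT h4, ← mul_assoc]
      exact mul_mem b.ρs h4)
    exact isConj_iff.2 ⟨ρ * x, by rw [show ρ * x * e * (ρ * x)⁻¹ = ρ * (x * e * x⁻¹) * ρ⁻¹ by group, hx]; group⟩
  obtain ⟨c, hc, cc, ct⟩ := inv1 b rk (.inl rfl)
  obtain ⟨σ, hσ⟩ : ∃ σ, σ = c * (s * t * (e * u)) * c⁻¹ := ⟨_, rfl⟩
  have eσ : IsConj e σ := (es.trans (isConj_iff.2 ⟨_, h3⟩)).trans (isConj_iff.2 ⟨c, hσ.symm⟩)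
  have σσ : σ * σ = 1 := by
    obtain ⟨x, rfl⟩ := isConj_iff.1 eσ
    rw [conj_mul, q.n.ee]; simp
  have euT := mul_mem q.n.eT (q.c.U_le (r_V2 z u))
  have σS : σ ∈ S := hσ ▸ mul_mem (mul_mem hc.1.1.1 (mul_mem (mul_mem b.sS tT.1) euT.1)) (inv_mem hc.1.1.1)
  have cu : ∀ {x}, x ∈ S ⊓ Cx u → x * u * x⁻¹ = u := fun h => mem_Cx'.1 h.2
  have s0u : s * t * (e * u) * u * (s * t * (e * u))⁻¹ = z * u := by
    rw [show s * t * (e * u) * u * (s * t * (e * u))⁻¹ = s * (t * (e * u) * u * (t * (e * u))⁻¹) * s⁻¹ by group,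
      cu (mul_mem tT euT), b.su]
  have σu : σ * u * σ⁻¹ = z * u := by
    rw [hσ, show c * (s * t * (e * u)) * c⁻¹ * u * (c * (s * t * (e * u)) * c⁻¹)⁻¹ =
      c * (s * t * (e * u) * (c⁻¹ * u * c⁻¹⁻¹) * (s * t * (e * u))⁻¹) * c⁻¹ by group, cu (inv_mem hc.1.1), s0u,
      ← conj_mul, fz hc.1.1.1, cu hc.1.1]
  have σt : σ * t * σ⁻¹ = t := by
    have h4 : c * (u * t) * c⁻¹ = t := by rw [← conj_mul, cu hc.1.1, cm_t b ct, ← mul_assoc, q.c.uu, one_mul]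
    have h5 : s * t * (e * u) * t * (s * t * (e * u))⁻¹ = z * t := by
      rw [show s * t * (e * u) * t * (s * t * (e * u))⁻¹ = s * (t * (e * (u * t * u⁻¹) * e⁻¹) * t⁻¹) * s⁻¹ by group,
        ← tu, mul_inv_cancel_right, cm_t b (cet b), ← mul_assoc t, mul_inv_cancel_right, tz, ← conj_mul, fz b.sS,
        b.st, mul_inv_cancel_right]
    nth_rw 1 [← h4]
    rw [hσ, show c * (s * t * (e * u)) * c⁻¹ * (c * (u * t) * c⁻¹) * (c * (s * t * (e * u)) * c⁻¹)⁻¹ =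
      c * (s * t * (e * u) * u * (s * t * (e * u))⁻¹ * (s * t * (e * u) * t * (s * t * (e * u))⁻¹)) * c⁻¹ by group, s0u, h5,
      mul_assoc z, ← mul_assoc u, ← q.c.zu, ← mul_assoc z, ← mul_assoc z, q.c.zz, one_mul, h4]
  have σV : ∀ x ∈ V2 z t, σ * x = x * σ := fun x hx => (mem_Cx.1 ((V2_le (M := Cx σ)).2
    ⟨mem_Cx.2 (q.c.zc σ σS).symm, Cx_comm.1 (mem_Cx'.2 σt)⟩ hx)).symm
  obtain ⟨φ, hφ⟩ : ∃ φ, φ = ρ⁻¹ * σ * ρ := ⟨_, rfl⟩
  have φX := hφ ▸ conj_mem_of_mem_normalizer' b.ρX (x := σ) ⟨σS, mem_normalizer_of_forall fun x hx => by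
    rwa [σV x hx, mul_inv_cancel_right]⟩
  have φφ : φ * φ = 1 := by rw [hφ, show ρ⁻¹ * σ * ρ * (ρ⁻¹ * σ * ρ) = ρ⁻¹ * (σ * σ) * ρ by group, σσ]; simp
  have φT : φ ∈ S ⊓ Cx u := ⟨φX.1, by
    have := conj_mem_Cx (g := ρ⁻¹).2 (mem_Cx.2 (σV _ (ρU ▸ conj_mem_cj.2 (r_V2 z u))))
    simpa [hφ, mul_assoc] using this⟩
  have φt : φ * t * φ⁻¹ = z * t := by
    rcases (mem_V2 q.c.zz (tt b) tz.symm).1 (conj_mem_of_mem_normalizer φX.2 (r_V2 z t)) with h | h | h | h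
    · exact absurd (conj_eq_one_iff.1 h ▸ one_mem _) (q.jj_sq b.tJ).2.1
    · exact absurd (((MulAut.conj φ).injective (h.trans (fz φX.1).symm) : t = z) ▸ l_V2 _ _) (q.jj_sq b.tJ).2.1
    · refine absurd (σu.symm.trans ?_) q.c.zu_ne_u
      have := conj_mem_Cx (g := ρ).2 ((V3_le (M := Cx φ)).2 ⟨mem_Cx.2 (q.c.zc φ φX.1).symm, Cx_comm.1 φT.2,
        Cx_comm.1 (mem_Cx'.2 h)⟩ (conj_mem_of_mem_normalizer' b.ρE (V2_le_V3 _ _ _ (r_V2 z u))))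
      exact mem_Cx'.1 (Cx_comm.1 (by simpa [hφ, mul_assoc] using this))
    · exact h
  have φe : cm φ e ≠ 1 := fun h4 => by
    have h5 := ((q.n.mem_E q.c).1 (q.omC rk ⟨φT, mem_Cx.2 ((cm_eq_one q.n.ee).1 h4)⟩ φφ)).resolve_left fun h5 =>
      q.c.z1 (mul_eq_right.1 (φt.symm.trans (by rw [← q.c.cU tT h5, mul_inv_cancel_right])))
    have h6 : s * σ * t ∈ V2 z t := by
      refine mul_mem (ρU ▸ mem_cj.2 ?_) (r_V2 _ _)
      have := mul_mem b.ρs (inv_mem h5)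
      rwa [mul_inv_rev, inv_eq_of_mul_eq_one_right φφ, hφ,
        show ρ⁻¹ * s * ρ * e * (e⁻¹ * (ρ⁻¹ * σ * ρ)) = ρ⁻¹ * (s * σ) * ρ by group] at this
    have h7 := el_V2 q.c.zz (tt b) tz.symm _ h6
    have i1 := q.in1_conj b.sS hc
    have i2 := q.in1_conj tT.1 (q.in1_inv hc)
    have i3 := q.conj_A tT.1 (mul_mem (r_V3 z u e) (V2_le_V3 _ _ _ (r_V2 z u)))
    have h8 : s * σ * t = s * c * s⁻¹ * (t * (e * u) * t⁻¹ * (t * c⁻¹ * t⁻¹)) := by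
      rw [hσ, inv_eq_of_mul_eq_one_right b.ss, ti b]
      simp only [mul_assoc]
      rw [← mul_assoc t t, tt b, one_mul]
    have i4 := q.in1_mul (q.in1_A i3) i2
    rw [h8, sqm b i1 i4, sqm b (q.in1_A i3) i2, q.n.elE q.c _ i3, one_mul, conj_mul, conj_mul, ← mul_inv_rev, cc, b.su,
      inv_eq_of_mul_eq_one_right q.c.uu, cu tT, mul_assoc, q.c.uu, mul_one] at h7
    exact q.c.z1 h7
  have rT := mul_mem φT q.n.eT
  have rt : φ * e * t = t * (φ * e) := by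
    rw [← mul_inv_eq_iff_eq_mul, show φ * e * t * (φ * e)⁻¹ = φ * (e * t * e⁻¹) * φ⁻¹ by group, cm_t b (cet b),
      ← conj_mul, fz φX.1, φt, ← mul_assoc, q.c.zz, one_mul]
  have rr : φ * e * (φ * e) = cm φ e := by rw [cm, inv_eq_of_mul_eq_one_right φφ, mul_assoc (φ * e)]
  have rz := (rr ▸ b.lc.sq _ rT rt (rr ▸ q.c.elU _ (q.n.nm φ φX.1))).resolve_left φe
  have yC : φ * e * t ∈ S ⊓ Cx u ⊓ Cx e := ⟨mul_mem rT tT, mem_Cx.2 ((cm_eq_one q.n.ee).1 (by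
    rw [q.n.cm_mul q.c rT tT, q.n.cm_mul q.c φT q.n.eT, rz, b.te, (cm_eq_one q.n.ee).2 rfl, mul_one, q.c.zz]))⟩
  have yy : φ * e * t * (φ * e * t) = z := by
    rw [mul_assoc, ← mul_assoc t, ← rt, mul_assoc _ t t, tt b, mul_one, rr, rz]
  have y1 := b.zc rk yC (by rw [mul_assoc _ t t, tt b, rt, ← mul_assoc, tt b, one_mul, mul_one]) yy
  have zeA : z * e ∈ V3 z u e := mul_mem (V2_le_V3 _ _ _ (l_V2 z u)) (r_V3 _ _ _)
  have e1 : φ * e * t * (z * e) * t = φ := by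
    rw [← tet b, ti b]
    simp only [mul_assoc]
    rw [tt b, mul_one, ← mul_assoc t t, tt b, one_mul, q.n.ee, mul_one]
  have := cl b rk (q.in1_mul y1 (q.in1_A zeA)) (by
    rw [mul_assoc, ← mul_assoc (z * e), ← q.cA yC zeA, mul_assoc _ (z * e), q.n.elE q.c _ zeA, mul_one, yy])
    (by rw [e1, φφ])
  rw [e1] at this
  exact this.trans (eσ.trans (isConj_iff.2 ⟨ρ⁻¹, by rw [hφ, inv_inv]⟩)).symm

end CfsgLib.Rk3B
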