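import Cfsg.Agent.Lib.Rk3B.Loc
import Cfsg.Agent.Lib.PGroup.Basic

/-!
The element `ρ`  (plans/RK3B.md, package BX1)
-/

set_option autoImplicit false

namespace CfsgLib.Rk3B

open Subgroup Cfsg CfsgLib.Tech CfsgLib.W2 CfsgLib.Rk3

variable {G : Type*} [Group G] [Finite G] {S : Subgroup G} {z u g e : G}

namespace Bx1

/-- `z` is a square in `C_T(t)` -/
def Good (S : Subgroup G) (z u e t : G) : Prop :=
  JJ S z u e t ∧ ∃ r ∈ S ⊓ Cx u, r * t = t * r ∧ r * r = z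

omit [Finite G] in
theorem Cz_mul_right {x a b : G} (zz : z * z = 1) (ha : a * z = z * a) (h1 : Rk3.Cz z x a) (h2 : Rk3.Cz z x b) :
    Rk3.Cz z x (a * b) := by
  rw [Rk3.Cz, ← conj_mul]
  rcases h1 with h1 | h1 <;> rcases h2 with h2 | h2 <;> rw [h1, h2]
  · exact .inl rfl
  · right; rw [← mul_assoc, ha, mul_assoc]
  · right; rw [mul_assoc]
  · left; rw [mul_assoc, ← mul_assoc a, ha, ← mul_assoc, ← mul_assoc, zz, one_mul]

omit [Finite G] in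
theorem mem_zp (zz : z * z = 1) {a : G} : a ∈ zpowers z ↔ a = 1 ∨ a = z := by
  refine ⟨fun h => ?_, fun h => h.elim (fun h => h ▸ one_mem _) fun h => h ▸ mem_zpowers _⟩
  have := (mem_V2 zz zz rfl).1 (zpowers_le.2 (l_V2 z z) h)
  rw [zz] at this
  tauto

/-- the elements acting trivially on `E / ⟨z⟩` -/
def X0 (z : G) (zz : z * z = 1) (E : Subgroup G) : Subgroup G where
  carrier := {x | x * z = z * x ∧ ∀ a ∈ E, Rk3.Cz z x a}
  one_mem' := ⟨by simp, fun a _ => .inl (by simp)⟩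
  mul_mem' := fun {a b} ha hb => ⟨by rw [mul_assoc, hb.1, ← mul_assoc, ha.1, mul_assoc],
    fun y hy => (ha.2 y hy).mul zz ha.1 (hb.2 y hy)⟩
  inv_mem' := fun {a} ha => ⟨(Commute.inv_left ha.1).eq, fun y hy => (ha.2 y hy).inv zz ha.1⟩

variable (rk : PRankLE 2 3 G) (j : JH S z u g e) {t : G}
include rk j

omit rk in
theorem tz (ht : JJ S z u e t) : t * z = z * t := j.q.c.zc t ht.1.1

omit rk in
theorem elE (ht : JJ S z u e t) : El (V3 z u t) :=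
  el_V3 j.q.c.zz j.q.c.uu (j.q.jj_sq ht).1 j.q.c.zu (tz j ht) (mem_Cx.1 ht.1.2)

omit rk in
theorem cardE (ht : JJ S z u e t) : Nat.card (V3 z u t) = 8 :=
  card_V3 j.q.c.cardU (j.q.jj_sq ht).1 (tz j ht) (mem_Cx.1 ht.1.2) (j.q.jj_sq ht).2.1

omit rk in
theorem E_le (ht : JJ S z u e t) : V3 z u t ≤ S ⊓ Cx u :=
  V3_le.2 ⟨j.q.c.U_le (l_V2 _ _), j.q.c.U_le (r_V2 _ _), ht.1⟩

theorem lc (h : Good S z u e t) : LC S z u e t z := by
  obtain ⟨f, l⟩ := j.loc rk h.1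
  obtain ⟨r, rT, rt, rr⟩ := h.2
  rcases l.sq r rT rt (by rw [rr, j.q.c.zz]) with h1 | h1
  · exact absurd (rr ▸ h1) j.q.c.z1
  · rwa [← h1, rr] at l

theorem exists_good (ht : JJ S z u e t) : ∃ t', Good S z u e t' := by
  obtain ⟨f, l⟩ := j.loc rk ht
  obtain ⟨c, hc, cc, ct⟩ := l.cf
  have step : ∀ {t r y : G}, JJ S z u e t → r ∈ S ⊓ Cx u → r * t = t * r → r * r = y →
      JJ S z u e (g * t * g⁻¹) ∧ g * r * g⁻¹ ∈ S ⊓ Cx u ∧
        g * r * g⁻¹ * (g * t * g⁻¹) = g * t * g⁻¹ * (g * r * g⁻¹) ∧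
        g * r * g⁻¹ * (g * r * g⁻¹) = g * y * g⁻¹ :=
    fun h1 h2 h3 h4 => ⟨j.q.jj_g h1, conj_mem_of_mem_normalizer j.q.c.gT h2,
      by rw [conj_mul, conj_mul, h3], by rw [conj_mul, h4]⟩
  rcases j.q.c.mem_U.1 l.fU with h | h | h | h
  · exact absurd h l.f1
  · exact ⟨t, ht, c, hc.1.1, ct, cc.trans h⟩
  · obtain ⟨a1, a2, a3, a4⟩ := step ht hc.1.1 ct (cc.trans h)
    obtain ⟨b1, b2, b3, b4⟩ := step a1 a2 a3 (a4.trans j.q.c.gu)
    exact ⟨_, b1, _, b2, b3, b4.trans j.q.c.gzu⟩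
  · obtain ⟨a1, a2, a3, a4⟩ := step ht hc.1.1 ct (cc.trans h)
    exact ⟨_, a1, _, a2, a3, a4.trans j.q.c.gzu⟩

/-- an element of `T` moving `t` modulo `z` -/
theorem tau (ht : JJ S z u e t) :
    ∃ τ ∈ S ⊓ Cx u, τ * t * τ⁻¹ = u * t ∨ τ * t * τ⁻¹ = z * u * t := by
  obtain ⟨f, l⟩ := j.loc rk ht
  have tt := (j.q.jj_sq ht).1
  have key : ∀ τ : G, cm τ t ∈ V2 z u → cm τ t ≠ 1 → cm τ t ≠ z →
      τ * t * τ⁻¹ = u * t ∨ τ * t * τ⁻¹ = z * u * t := fun τ h1 h2 h3 => by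
    have e1 : τ * t * τ⁻¹ = cm τ t * t := by rw [cm, mul_assoc _ t t, tt, mul_one]
    rw [e1]
    rcases j.q.c.mem_U.1 h1 with h | h | h | h
    exacts [absurd h h2, absurd h h3, .inl (by rw [h]), .inr (by rw [h])]
  have hU : cm t e ∈ V2 z u := j.q.n.nm t ht.1.1
  have e2 : cm e t = cm t e := by
    rw [← cm_inv j.q.n.ee tt, inv_eq_of_mul_eq_one_right (j.q.c.elU _ hU)]
  by_cases hz : cm t e = z
  · obtain ⟨f', hf', h1, h2⟩ : ∃ f' ∈ V2 z u, f' ≠ 1 ∧ f' ≠ f := by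
      by_cases h : f = z
      · exact ⟨u, r_V2 _ _, j.q.c.u1, h ▸ j.q.c.uz⟩
      · exact ⟨z, l_V2 _ _, j.q.c.z1, Ne.symm h⟩
    obtain ⟨c, hc, cc⟩ := j.q.exists_in1 rk j.big hf'
    obtain ⟨a1, a2, a3⟩ := l.oth c hc (cc ▸ h1) (cc ▸ h2)
    exact ⟨c, hc.1.1, key c a1 a2 (hz ▸ a3)⟩
  · exact ⟨e, j.q.n.eT, key e (e2 ▸ hU) (by rw [e2]; exact fun h => ht.2.1 ((cm_eq_one j.q.n.ee).1 h))
      (e2 ▸ hz)⟩

omit rk in
theorem norm_E (ht : JJ S z u e t) {x : G} (h1 : x * z = z * x) (h2 : x * u * x⁻¹ ∈ V3 z u t)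
    (h3 : x * t * x⁻¹ ∈ V3 z u t) : x ∈ normalizer ((V3 z u t : Subgroup G) : Set G) :=
  mem_normalizer_of_cj_le (by
    rw [cj_V3, V3_le, h1, mul_inv_cancel_right]
    exact ⟨V2_le_V3 _ _ _ (l_V2 _ _), h2, h3⟩)

omit rk in
theorem tau_norm (ht : JJ S z u e t) {τ : G} (hτ : τ ∈ S ⊓ Cx u)
    (h : τ * t * τ⁻¹ = u * t ∨ τ * t * τ⁻¹ = z * u * t) :
    τ ∈ normalizer ((V3 z u t : Subgroup G) : Set G) := by
  have hz : z ∈ V3 z u t := V2_le_V3 _ _ _ (l_V2 _ _)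
  have hu : u ∈ V3 z u t := V2_le_V3 _ _ _ (r_V2 _ _)
  refine norm_E j ht (j.q.c.zc τ hτ.1) (by rw [mem_Cx'.1 hτ.2]; exact hu) ?_
  rcases h with h | h <;> rw [h]
  exacts [mul_mem hu (r_V3 _ _ _), mul_mem (mul_mem hz hu) (r_V3 _ _ _)]

/-- a 2-subgroup of `N(E) ∩ C(z)` containing `N_S(E)` normalises `U` -/
theorem le_norm_U (ht : JJ S z u e t) {D : Subgroup G} (hD : IsPGroup 2 D)
    (h1 : S ⊓ normalizer ((V3 z u t : Subgroup G) : Set G) ≤ D)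
    (h2 : D ≤ normalizer ((V3 z u t : Subgroup G) : Set G) ⊓ Cx z) :
    D ≤ normalizer ((V2 z u : Subgroup G) : Set G) := by
  have c := j.q.c
  have tt := (j.q.jj_sq ht).1
  have ED : V3 z u t ≤ D := fun a ha => h1 ⟨(E_le j ht ha).1, le_normalizer ha⟩
  have : ((V3 z u t).subgroupOf D).Normal := ⟨fun a ha d =>
    conj_mem_of_mem_normalizer (H := V3 z u t) (h2 d.2).1 ha⟩
  have mz : ∀ {a : G}, a ∈ zpowers z ↔ a = 1 ∨ a = z := mem_zp c.zz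
  have : ((zpowers z).subgroupOf D).Normal := ⟨fun a ha d => by
    change (d : G) * a * (d : G)⁻¹ ∈ zpowers z
    rcases mz.1 (mem_subgroupOf.1 ha) with h | h <;> rw [h]
    · simp
    · rw [mem_Cx'.1 (h2 d.2).2]; exact mem_zpowers z⟩
  have := hD.isNilpotent
  obtain ⟨x, xE, xz, hx⟩ := PGroup.exists_central_mod_of_not_le (M := (V3 z u t).subgroupOf D)
    (N := (zpowers z).subgroupOf D) fun h => by
      rcases mz.1 (h (x := ⟨u, ED (V2_le_V3 _ _ _ (r_V2 _ _))⟩) (V2_le_V3 _ _ _ (r_V2 _ _))) with h | h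
      exacts [c.u1 h, c.uz h]
  have xx : (x : G) * x = 1 := elE j ht _ xE
  have hx' : ∀ d ∈ D, (x : G) * (d * x * d⁻¹) ∈ zpowers z := fun d hd => by
    have := hx ⟨d, hd⟩
    rw [mem_subgroupOf] at this
    convert this using 1
    rw [commutatorElement_def]
    push_cast
    rw [inv_eq_of_mul_eq_one_right xx]; group
  have xU : (x : G) ∈ V2 z u := by
    refine ((mem_V3 tt (tz j ht) (mem_Cx.1 ht.1.2)).1 (mem_subgroupOf.1 xE)).resolve_right fun h => ?_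
    obtain ⟨τ, hτ, h3⟩ := tau rk j ht
    have h4 := hx' τ (h1 ⟨hτ.1, tau_norm j ht hτ h3⟩)
    obtain ⟨a, ha⟩ : ∃ a, (x : G) * t = a := ⟨_, rfl⟩
    have h5 : (x : G) = a * t := by rw [← ha, mul_assoc, tt, mul_one]
    rw [ha] at h
    have h6 : ∀ y ∈ V2 z u, a * t * (a * (y * t)) = y := fun y hy => by
      rw [mul_assoc, ← mul_assoc t, c.cU ht.1 h, ← mul_assoc, ← mul_assoc, ← mul_assoc, c.elU a h, one_mul,
        c.cU ht.1 hy, mul_assoc, tt, mul_one]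
    rw [h5, ← conj_mul, c.cU hτ h, mul_inv_cancel_right] at h4
    rcases h3 with h3 | h3 <;> rw [h3] at h4
    · rw [h6 u (r_V2 _ _)] at h4
      rcases mz.1 h4 with h | h
      exacts [c.u1 h, c.uz h]
    · rw [h6 _ (mul_mem (l_V2 _ _) (r_V2 _ _))] at h4
      rcases mz.1 h4 with h | h
      exacts [c.zu_ne_one h, c.zu_ne_z h]
  intro d hd
  have dz : d * z * d⁻¹ = z := mem_Cx'.1 (h2 hd).2
  have h3 : d * x * d⁻¹ ∈ V2 z u :=
    (mul_mem_cancel_left xU).1 (zpowers_le.2 (l_V2 z u) (hx' d hd))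
  refine mem_normalizer_of_cj_le ?_
  rw [cj_V2, V2_le, dz]
  refine ⟨l_V2 _ _, ?_⟩
  rcases c.mem_U.1 xU with h | h | h | h
  · exact absurd (mz.2 (.inl h)) xz
  · exact absurd (mz.2 (.inr h)) xz
  · rwa [h] at h3
  · rw [h, ← conj_mul, dz] at h3
    exact (mul_mem_cancel_left (l_V2 z u)).1 h3

/-- a good `t` with `N_S(E)` Sylow in `N(E) ∩ C(z)` -/
theorem exists_syl (h : Good S z u e t) : ∃ t', Good S z u e t' ∧
    IsSylowIn 2 (S ⊓ normalizer ((V3 z u t' : Subgroup G) : Set G))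
      (normalizer ((V3 z u t' : Subgroup G) : Set G) ⊓ Cx z) := by
  have c := j.q.c
  obtain ⟨ht, r, rT, rt, rr⟩ := h
  have pg : ∀ N : Subgroup G, IsPGroup 2 (S ⊓ N : Subgroup G) := fun N => c.syl.pgroup.to_inf_left
  have le1 : ∀ N : Subgroup G, S ⊓ N ≤ N ⊓ Cx z := fun N x hx => ⟨hx.2, j.q.Sz hx.1⟩
  obtain ⟨D, hD, h1⟩ := exists_isSylowIn_ge (pg _) (le1 (normalizer ((V3 z u t : Subgroup G) : Set G)))
  have h2 := le_norm_U rk j ht hD.pgroup h1 hD.le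
  have hS : IsSylowIn 2 S (normalizer ((V2 z u : Subgroup G) : Set G) ⊓ Cx z) :=
    c.syl.of_le (fun s hs => ⟨mem_normalizer_of_forall fun _ => c.conj_U hs, j.q.Sz hs⟩) le_top
  obtain ⟨k, hk, h3⟩ := hS.exists_cj_le hD.pgroup (le_inf h2 (hD.le.trans inf_le_right))
  have kz : k * z * k⁻¹ = z := mem_Cx'.1 hk.2
  have kU : cj k (V2 z u) = V2 z u := mem_normalizer_iff_cj.1 hk.1
  have hE : cj k (V3 z u t) = V3 z u (k * t * k⁻¹) := by rw [V3_eq, V3_eq, cj_sup, kU, cj_zpowers]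
  have hT : ∀ y ∈ S ⊓ Cx u, y * t = t * y → k * y * k⁻¹ ∈ S ⊓ Cx u := fun y hy yt => by
    refine ⟨cj_le_iff.1 h3 y (h1 ⟨hy.1, norm_E j ht (c.zc y hy.1) ?_ ?_⟩), ?_⟩
    · rw [mem_Cx'.1 hy.2]; exact V2_le_V3 _ _ _ (r_V2 _ _)
    · rw [yt, mul_inv_cancel_right]; exact r_V3 _ _ _
    · have := conj_mem_Cx (g := k).2 (mem_Cx.2 (c.cU hy (conj_mem_of_mem_normalizer' hk.1 (r_V2 z u))))
      rwa [show k * (k⁻¹ * u * k) * k⁻¹ = u by group] at this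
  have tT := hT t ht.1 rfl
  have tt : k * t * k⁻¹ * (k * t * k⁻¹) = 1 := by rw [conj_mul, (j.q.jj_sq ht).1]; simp
  refine ⟨k * t * k⁻¹, ⟨⟨tT, fun h => j.wc t ht k ?_, ht.2.2.trans (isConj_iff.2 ⟨k, rfl⟩)⟩,
    k * r * k⁻¹, hT r rT rt, by rw [conj_mul, conj_mul, rt], by rw [conj_mul, rr, kz]⟩, ?_⟩
  · refine eq_of_le_of_card_ge ?_ (by rw [card_cj, cardE j ht, j.q.n.cardE c])
    rw [hE, V3_le]
    exact ⟨V2_le_V3 _ _ _ (l_V2 _ _), V2_le_V3 _ _ _ (r_V2 _ _), j.q.omC rk ⟨tT, mem_Cx.2 h⟩ tt⟩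
  · have h4 := hD.cj k
    rw [cj_inf, cj_normalizer, hE, cj_Cx, kz] at h4
    exact h4.of_card_le (pg _) (le1 _) (card_le_of_le (le_inf h3 (h4.le.trans inf_le_left)))

/-- an element of `N(E) ∩ C(z)` mapping `U` to `⟨z, t⟩` -/
theorem exists_eta (h : Good S z u e t) : ∃ η ∈ normalizer ((V3 z u t : Subgroup G) : Set G) ⊓ Cx z,
    η * u * η⁻¹ = t ∨ η * u * η⁻¹ = z * t := by
  have c := j.q.c
  have ht := h.1
  have tt := (j.q.jj_sq ht).1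
  have tu : t * u = u * t := mem_Cx.1 ht.1.2
  obtain ⟨x, xt, xz, -, xJ⟩ := (lc rk j h).mv
  obtain ⟨y, yz, yt, yJ⟩ : ∃ y : G, y * z * y⁻¹ = z ∧ (y * t * y⁻¹ = u ∨ y * t * y⁻¹ = z * u) ∧
      JJ S z u e (y * u * y⁻¹) := by
    have e1 : ∀ a b w : G, a * b * w * (a * b)⁻¹ = a * (b * w * b⁻¹) * a⁻¹ := fun a b w => by group
    have hJ := xJ u (r_V2 _ _) c.u1 c.uz
    rcases c.mem_U.1 xz with h1 | h1 | h1 | h1
    · exact absurd (by simpa using h1) c.z1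
    · refine absurd ?_ (j.q.jj_sq ht).2.1
      rw [show t = z by simpa using xt.trans h1.symm]; exact l_V2 _ _
    · exact ⟨g * (g * x), by rw [e1, e1, h1, c.gu, c.gzu], .inr (by rw [e1, e1, xt, c.gz, c.gu]),
        by rw [e1, e1]; exact j.q.jj_g (j.q.jj_g hJ)⟩
    · exact ⟨g * x, by rw [e1, h1, c.gzu], .inl (by rw [e1, xt, c.gz]), by rw [e1]; exact j.q.jj_g hJ⟩
  obtain ⟨τ', hτ', h1⟩ := tau rk j yJ
  obtain ⟨τ, hτ, h2⟩ := tau rk j ht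
  have yz' : y⁻¹ * z * y = z := by rw [← yz]; nth_rw 2 [yz]; group
  have a1 : y⁻¹ * τ' * y * z = z * (y⁻¹ * τ' * y) := by
    calc _ = y⁻¹ * (τ' * (y * z * y⁻¹)) * y := by group
      _ = y⁻¹ * z * y * (y⁻¹ * τ' * y) := by rw [yz, c.zc τ' hτ'.1]; group
      _ = _ := by rw [yz']
  have a2 : y⁻¹ * τ' * y * t * (y⁻¹ * τ' * y)⁻¹ = t := by
    have : y * t * y⁻¹ ∈ V2 z u := by
      rcases yt with h | h <;> rw [h]
      exacts [r_V2 _ _, mul_mem (l_V2 _ _) (r_V2 _ _)]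
    calc _ = y⁻¹ * (τ' * (y * t * y⁻¹)) * τ'⁻¹ * y := by group
      _ = _ := by rw [c.cU hτ' this]; group
  have a3 : y⁻¹ * u * y = t ∨ y⁻¹ * u * y = z * t := by
    rcases yt with h | h
    · left; rw [← h]; group
    · right
      have : u = y * (z * t) * y⁻¹ := by rw [← conj_mul, yz, h, ← mul_assoc, c.zz, one_mul]
      rw [this]; group
  have a4 : y⁻¹ * τ' * y * u * (y⁻¹ * τ' * y)⁻¹ = t * u ∨ y⁻¹ * τ' * y * u * (y⁻¹ * τ' * y)⁻¹ = z * (t * u) := by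
    have e1 : y⁻¹ * τ' * y * u * (y⁻¹ * τ' * y)⁻¹ = y⁻¹ * (τ' * (y * u * y⁻¹) * τ'⁻¹) * y := by group
    have e2 : y⁻¹ * (u * (y * u * y⁻¹)) * y = y⁻¹ * u * y * u := by group
    have e3 : y⁻¹ * (z * u * (y * u * y⁻¹)) * y = y⁻¹ * z * y * (y⁻¹ * u * y * u) := by group
    rw [e1]
    rcases h1 with h1 | h1 <;> rw [h1]
    · rw [e2]
      rcases a3 with h | h <;> rw [h]
      exacts [.inl rfl, .inr (mul_assoc _ _ _)]
    · rw [e3, yz']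
      rcases a3 with h | h <;> rw [h]
      exacts [.inr rfl, .inl (by rw [← mul_assoc, ← mul_assoc, c.zz, one_mul])]
  have τz : τ * z * τ⁻¹ = z := by rw [c.zc τ hτ.1, mul_inv_cancel_right]
  have τu : τ * u * τ⁻¹ = u := mem_Cx'.1 hτ.2
  have a5 : τ * (t * u) * τ⁻¹ = t ∨ τ * (t * u) * τ⁻¹ = z * t := by
    have e1 : u * t * u = t := by rw [← tu, mul_assoc, c.uu, mul_one]
    rw [← conj_mul, τu]
    rcases h2 with h | h <;> rw [h]
    exacts [.inl e1, .inr (by rw [mul_assoc, mul_assoc, ← mul_assoc u, e1])]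
  have hz : z ∈ V3 z u t := V2_le_V3 _ _ _ (l_V2 _ _)
  have htu : t * u ∈ V3 z u t := mul_mem (r_V3 _ _ _) (V2_le_V3 _ _ _ (r_V2 _ _))
  refine ⟨τ * (y⁻¹ * τ' * y), ⟨mul_mem (tau_norm j ht hτ h2) (norm_E j ht a1 ?_ ?_),
    mul_mem (j.q.Sz hτ.1) (mem_Cx.2 a1)⟩, ?_⟩
  · rcases a4 with h | h <;> rw [h]
    exacts [htu, mul_mem hz htu]
  · rw [a2]; exact r_V3 _ _ _
  · rw [show τ * (y⁻¹ * τ' * y) * u * (τ * (y⁻¹ * τ' * y))⁻¹ =
      τ * (y⁻¹ * τ' * y * u * (y⁻¹ * τ' * y)⁻¹) * τ⁻¹ by group]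
    rcases a4 with h | h <;> rw [h]
    · exact a5
    · rw [← conj_mul, τz]
      rcases a5 with h | h <;> rw [h]
      exacts [.inr rfl, .inl (by rw [← mul_assoc, c.zz, one_mul])]

omit rk in
theorem inf_X0 (ht : JJ S z u e t) :
    S ⊓ normalizer ((V3 z u t : Subgroup G) : Set G) ⊓ X0 z j.q.c.zz (V3 z u t) =
      S ⊓ normalizer ((V2 z t : Subgroup G) : Set G) := by
  have c := j.q.c
  have tt := (j.q.jj_sq ht).1
  refine le_antisymm (fun x hx => mem_inf.2 ⟨hx.1.1, mem_normalizer_of_cj_le ?_⟩) fun x hx => ?_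
  · rw [cj_V2, V2_le, c.zc x hx.1.1, mul_inv_cancel_right]
    refine ⟨l_V2 _ _, ?_⟩
    rcases hx.2.2 t (r_V3 _ _ _) with h | h <;> rw [h]
    exacts [r_V2 _ _, mul_mem (l_V2 _ _) (r_V2 _ _)]
  · have xz := c.zc x hx.1
    have h0 : Rk3.Cz z x z := .inl (by rw [xz, mul_inv_cancel_right])
    have h1 : Rk3.Cz z x u := (c.su x hx.1).imp_left fun h => by rw [h, mul_inv_cancel_right]
    have h2 : Rk3.Cz z x t := by
      rcases (mem_V2 c.zz tt (tz j ht).symm).1 (conj_mem_of_mem_normalizer hx.2 (r_V2 z t)) with h | h | h | h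
      · refine absurd ?_ (j.q.jj_sq ht).2.1
        rw [show t = 1 by simpa using h]; exact one_mem _
      · refine absurd ?_ (j.q.jj_sq ht).2.1
        rw [mul_inv_eq_iff_eq_mul, ← xz, mul_right_inj] at h
        rw [h]; exact l_V2 _ _
      exacts [.inl h, .inr h]
    have h3 : ∀ a ∈ V2 z u, Rk3.Cz z x a := fun a ha => by
      rcases c.mem_U.1 ha with h | h | h | h <;> rw [h]
      exacts [.inl (by simp), h0, h1, Cz_mul_right c.zz rfl h0 h1]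
    have h4 : ∀ a ∈ V3 z u t, Rk3.Cz z x a := fun a ha => by
      rcases (mem_V3 tt (tz j ht) (mem_Cx.1 ht.1.2)).1 ha with h | h
      · exact h3 a h
      · have := Cz_mul_right c.zz (c.zc _ (c.U_le h).1) (h3 _ h) h2
        rwa [mul_assoc, tt, mul_one] at this
    refine ⟨⟨hx.1, mem_normalizer_of_forall fun a ha => ?_⟩, xz, h4⟩
    rcases h4 a ha with h | h <;> rw [h]
    exacts [ha, mul_mem (V2_le_V3 _ _ _ (l_V2 _ _)) ha]

end Bx1

theorem JH.exists_bx0 (rk : PRankLE 2 3 G) (j : JH S z u g e) {t : G} (ht : JJ S z u e t) :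
    ∃ t' ρ, BX0 S z u g e t' ρ := by
  obtain ⟨t0, h0⟩ := Bx1.exists_good rk j ht
  obtain ⟨t, h, hD⟩ := Bx1.exists_syl rk j h0
  obtain ⟨η, hη, ηu⟩ := Bx1.exists_eta rk j h
  have c := j.q.c
  have hz : z ∈ V3 z u t := V2_le_V3 _ _ _ (l_V2 _ _)
  have hn : normalizer ((V3 z u t : Subgroup G) : Set G) ⊓ Cx z ≤
      normalizer ((Bx1.X0 z c.zz (V3 z u t) : Subgroup G) : Set G) := fun n hn =>
    mem_normalizer_of_forall fun x hx => ⟨by
      have := conj_mem_Cx (g := n).2 (mem_Cx.2 hx.1)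
      rw [mem_Cx'.1 hn.2] at this
      exact mem_Cx.1 this, fun a ha => by
      have := (hx.2 _ (conj_mem_of_mem_normalizer' hn.1 ha)).conj (mem_Cx.1 hn.2)
      rwa [show n * (n⁻¹ * a * n) * n⁻¹ = a by group] at this⟩
  have hle : Bx1.X0 z c.zz (V3 z u t) ≤ normalizer ((V3 z u t : Subgroup G) : Set G) ⊓ Cx z :=
    fun x hx => ⟨mem_normalizer_of_forall fun a ha => by
      rcases hx.2 a ha with h | h <;> rw [h]
      exacts [ha, mul_mem hz ha], mem_Cx.2 hx.1⟩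
  have hX := hD.inf_of_le_normalizer hn
  rw [Bx1.inf_X0 j h.1, inf_eq_right.2 hle] at hX
  obtain ⟨n, hn0, h1⟩ := hX.frattini (hn hη)
  have h2 := mul_mem (hle hn0) hη
  refine ⟨t, n * η, j, h.1, Bx1.lc rk j h, mem_Cx.1 h2.2, h1, h2.1, ?_⟩
  rw [show n * η * u * (n * η)⁻¹ = n * (η * u * η⁻¹) * n⁻¹ by group]
  have h3 := hn0.2 t (r_V3 _ _ _)
  rcases ηu with h4 | h4 <;> rw [h4]
  · exact h3
  · rw [← conj_mul, hn0.1, mul_inv_cancel_right]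
    rcases h3 with h5 | h5 <;> rw [h5]
    exacts [.inr rfl, .inl (by rw [← mul_assoc, c.zz, one_mul])]

end CfsgLib.Rk3B
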