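import Cfsg.Agent.Lib.Rk3B.Defs

/-!
The group `C₁` and squares  (plans/RK3B.md, package C1)
-/

set_option autoImplicit false
set_option linter.unusedSectionVars false

namespace CfsgLib.Rk3B

open Subgroup Cfsg CfsgLib.Tech CfsgLib.W2 CfsgLib.Rk3

variable {G : Type*} [Group G] [Finite G] {S : Subgroup G} {z u g e : G}

namespace Q

variable (q : Q S z u g e)
include q

/-- `Ω₁(C) = A` -/
theorem omC (rk : PRankLE 2 3 G) {c : G} (hc : c ∈ S ⊓ Cx u ⊓ Cx e) (cc : c * c = 1) : c ∈ V3 z u e :=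
  q.n.mem_of_comm q.c rk cc (q.c.zc c hc.1.1) (mem_Cx.1 hc.1.2) (mem_Cx.1 hc.2)

theorem A_le : V3 z u e ≤ S ⊓ Cx u ⊓ Cx e :=
  V3_le.2 ⟨⟨q.c.U_le (l_V2 _ _), mem_Cx.2 (q.n.ez q.c).symm⟩, ⟨q.c.U_le (r_V2 _ _), mem_Cx.2 q.n.eu.symm⟩,
    q.n.eT, mem_Cx.2 rfl⟩

theorem cA {c a : G} (hc : c ∈ S ⊓ Cx u ⊓ Cx e) (ha : a ∈ V3 z u e) : c * a = a * c :=
  (mem_Cx.1 ((V3_le (M := Cx c)).2 ⟨mem_Cx.2 (q.c.zc c hc.1.1).symm, Cx_comm.1 hc.1.2, Cx_comm.1 hc.2⟩ ha)).symm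

theorem conj_A {s a : G} (hs : s ∈ S) (ha : a ∈ V3 z u e) : s * a * s⁻¹ ∈ V3 z u e := by
  refine cj_le_iff.1 ?_ a ha
  rw [cj_V3, V3_le]
  exact ⟨V2_le_V3 _ _ _ (q.c.conj_U hs (l_V2 _ _)), V2_le_V3 _ _ _ (q.c.conj_U hs (r_V2 _ _)),
    (q.n.mem_E q.c).2 (Or.inr (q.n.nm s hs))⟩

theorem conj_C {s c : G} (hs : s ∈ S) (hc : c ∈ S ⊓ Cx u ⊓ Cx e) : s * c * s⁻¹ ∈ S ⊓ Cx u ⊓ Cx e := by
  refine ⟨q.c.conj_T hs hc.1, ?_⟩
  have := conj_mem_Cx (g := s).2 (mem_Cx.2 (q.cA hc (q.conj_A (inv_mem hs) (r_V3 z u e))))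
  rwa [show s * (s⁻¹ * e * s⁻¹⁻¹) * s⁻¹ = e by group] at this

theorem gC : g ∈ normalizer ((S ⊓ Cx u ⊓ Cx e : Subgroup G) : Set G) :=
  mem_normalizer_iff_cj.2 (by rw [cj_inf, mem_normalizer_iff_cj.1 q.c.gT, cj_Cx, q.ge])

theorem gA : g ∈ normalizer ((V3 z u e : Subgroup G) : Set G) :=
  mem_normalizer_iff_cj.2 (by rw [V3_eq, cj_sup, q.c.cj_g_U, cj_zpowers, q.ge])

theorem sqC {t : G} (ht : t ∈ S ⊓ Cx u) : t * t ∈ S ⊓ Cx u ⊓ Cx e :=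
  ⟨mul_mem ht ht, mem_Cx.2 ((cm_eq_one q.n.ee).1 (by
    rw [q.n.cm_mul q.c ht ht]; exact q.c.elU _ (q.n.nm t ht.1)))⟩

theorem cm_g {t : G} : cm (g * t * g⁻¹) e = g * cm t e * g⁻¹ := by
  rw [Rk3.cm_conj, q.ge]

theorem nU_le : normalizer ((V2 z u : Subgroup G) : Set G) ≤ normalizer ((Cx z ⊓ Cx u : Subgroup G) : Set G) :=
  fun n hn => mem_normalizer_of_forall fun x hx => by
    have key : ∀ y ∈ V2 z u, n * x * n⁻¹ ∈ Cx y := fun y hy => by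
      have := conj_mem_Cx (g := n).2 (Cx_comm.1 ((V2_le (M := Cx x)).2 ⟨Cx_comm.1 hx.1, Cx_comm.1 hx.2⟩
        (conj_mem_of_mem_normalizer' hn hy)))
      rwa [show n * (n⁻¹ * y * n) * n⁻¹ = y by group] at this
    exact ⟨key z (l_V2 _ _), key u (r_V2 _ _)⟩

theorem nA_le : normalizer ((V3 z u e : Subgroup G) : Set G) ≤
    normalizer ((Cx z ⊓ Cx u ⊓ Cx e : Subgroup G) : Set G) :=
  fun n hn => mem_normalizer_of_forall fun x hx => by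
    have key : ∀ y ∈ V3 z u e, n * x * n⁻¹ ∈ Cx y := fun y hy => by
      have := conj_mem_Cx (g := n).2 (Cx_comm.1 ((V3_le (M := Cx x)).2
        ⟨Cx_comm.1 hx.1.1, Cx_comm.1 hx.1.2, Cx_comm.1 hx.2⟩ (conj_mem_of_mem_normalizer' hn hy)))
      rwa [show n * (n⁻¹ * y * n) * n⁻¹ = y by group] at this
    exact ⟨⟨key z (V2_le_V3 _ _ _ (l_V2 _ _)), key u (V2_le_V3 _ _ _ (r_V2 _ _))⟩, key e (r_V3 _ _ _)⟩

theorem Sz : S ≤ Cx z := fun s hs => mem_Cx.2 (q.c.zc s hs)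

theorem sylT : IsSylowIn 2 (S ⊓ Cx u) (Cx z ⊓ Cx u) := by
  have h := (q.c.syl.of_le (K := normalizer ((Cx z ⊓ Cx u : Subgroup G) : Set G))
    (fun s hs => q.nU_le (mem_normalizer_of_forall fun _ => q.c.conj_U hs)) le_top).inf_of_le_normalizer le_rfl
  rwa [inf_eq_right.2 le_normalizer, ← inf_assoc, inf_eq_left.2 q.Sz] at h

theorem sylC : IsSylowIn 2 (S ⊓ Cx u ⊓ Cx e) (Cx z ⊓ Cx u ⊓ Cx e) := by
  have h := (q.c.syl.of_le (K := normalizer ((Cx z ⊓ Cx u ⊓ Cx e : Subgroup G) : Set G))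
    (fun s hs => q.nA_le (mem_normalizer_of_forall fun _ => q.conj_A hs)) le_top).inf_of_le_normalizer le_rfl
  rwa [inf_eq_right.2 le_normalizer, ← inf_assoc, ← inf_assoc, inf_eq_left.2 q.Sz] at h

/-- all elements of `A \ U` are conjugate in `T` -/
theorem conj_e (rk : PRankLE 2 3 G) {a : G} (ha : a * e ∈ V2 z u) : ∃ t ∈ S ⊓ Cx u, t * e * t⁻¹ = a := by
  obtain ⟨t, ht, h⟩ := q.n.onto rk q.c ha
  exact ⟨t, ht, mul_right_cancel h⟩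

theorem in1_A {a : G} (ha : a ∈ V3 z u e) : In1 S z u e a :=
  ⟨q.A_le ha, mul_mem ha ha, fun _ ht => mul_mem (q.conj_A ht.1 ha) (inv_mem ha)⟩

theorem in1_mul {a b : G} (ha : In1 S z u e a) (hb : In1 S z u e b) : In1 S z u e (a * b) := by
  refine ⟨mul_mem ha.1 hb.1, ?_, fun t ht => ?_⟩
  · have := mul_mem (mul_mem ha.2.1 (ha.2.2 _ (inv_mem ha.1.1) |> fun _ => hb.2.2 _ (inv_mem ha.1.1))) hb.2.1
    convert this using 1; group
  · have := mul_mem (ha.2.2 t ht) (q.conj_A ha.1.1.1 (hb.2.2 t ht))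
    convert this using 1; group

theorem in1_inv {a : G} (ha : In1 S z u e a) : In1 S z u e a⁻¹ := by
  refine ⟨inv_mem ha.1, by simpa using inv_mem ha.2.1, fun t ht => ?_⟩
  have := q.conj_A (inv_mem ha.1.1.1) (inv_mem (ha.2.2 t ht))
  convert this using 1; group

theorem in1_conj {s a : G} (hs : s ∈ S) (ha : In1 S z u e a) : In1 S z u e (s * a * s⁻¹) := by
  refine ⟨q.conj_C hs ha.1, by rw [conj_mul]; exact q.conj_A hs ha.2.1, fun t ht => ?_⟩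
  have := q.conj_A hs (ha.2.2 _ (q.c.conj_T (inv_mem hs) ht))
  convert this using 1; group

theorem in1_g {a : G} (ha : In1 S z u e a) : In1 S z u e (g * a * g⁻¹) := by
  refine ⟨conj_mem_of_mem_normalizer q.gC ha.1, by rw [conj_mul]; exact conj_mem_of_mem_normalizer q.gA ha.2.1,
    fun t ht => ?_⟩
  have := conj_mem_of_mem_normalizer q.gA (ha.2.2 _ (conj_mem_of_mem_normalizer' q.c.gT ht))
  convert this using 1; group

theorem in1_sq (rk : PRankLE 2 3 G) {a : G} (ha : In1 S z u e a) : a * a ∈ V2 z u := by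
  refine q.c.om _ (q.A_le ha.2.1).1 (q.n.elE q.c _ ha.2.1) fun t ht => ?_
  obtain ⟨b, hb⟩ : ∃ b, t * a * t⁻¹ * a⁻¹ = b := ⟨_, rfl⟩
  have h1 : b ∈ V3 z u e := hb ▸ ha.2.2 t ht
  have h2 : t * a * t⁻¹ = b * a := by rw [← hb]; group
  rw [← mul_inv_eq_iff_eq_mul, ← conj_mul, h2, mul_assoc, ← mul_assoc a, q.cA ha.1 h1, ← mul_assoc, ← mul_assoc,
    q.n.elE q.c b h1, one_mul]

theorem exists_in1 (rk : PRankLE 2 3 G) (big : Bg S z u e) {f : G} (hf : f ∈ V2 z u) :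
    ∃ c, In1 S z u e c ∧ c * c = f := by
  obtain ⟨c, hc, cA⟩ : ∃ c, In1 S z u e c ∧ c ∉ V3 z u e := by
    obtain ⟨c, hc, cA⟩ := big
    have pT : IsPGroup 2 ↥(S ⊓ Cx u) := q.c.syl.pgroup.to_le inf_le_left
    have : ((V3 z u e).subgroupOf (S ⊓ Cx u)).Normal := ⟨fun a ha t => q.conj_A t.2.1 ha⟩
    let π := QuotientGroup.mk' ((V3 z u e).subgroupOf (S ⊓ Cx u))
    obtain ⟨_, ⟨x, hx, rfl⟩, h1, h2⟩ := exists_mem_center_of_normalized (p := 2) (T := ⊤)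
      (N := ((S ⊓ Cx u ⊓ Cx e).subgroupOf (S ⊓ Cx u)).map π) ((pT.to_quotient _).to_subgroup _) le_top
      (fun y _ => mem_normalizer_of_forall (by
        obtain ⟨y, rfl⟩ := QuotientGroup.mk'_surjective _ y
        rintro _ ⟨x, hx, rfl⟩
        exact ⟨y * x * y⁻¹, q.conj_C y.2.1 hx, by simp [π]⟩))
      fun h => cA ((QuotientGroup.eq_one_iff (N := (V3 z u e).subgroupOf (S ⊓ Cx u)) ⟨c, hc.1⟩).1
        (mem_bot.1 (h ▸ ⟨⟨c, hc.1⟩, hc, rfl⟩)))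
    refine ⟨x, ⟨hx, (QuotientGroup.eq_one_iff (N := (V3 z u e).subgroupOf (S ⊓ Cx u)) (x * x)).1 (sq_of_ord h1),
      fun t ht => (QuotientGroup.eq_one_iff (N := (V3 z u e).subgroupOf (S ⊓ Cx u))
        (⟨t, ht⟩ * x * ⟨t, ht⟩⁻¹ * x⁻¹)).1 ?_⟩,
      fun h => ne_one_of_ord h1 ((QuotientGroup.eq_one_iff _).2 h)⟩
    have := h2 (π ⟨t, ht⟩) (mem_top _)
    change π (⟨t, ht⟩ * x * ⟨t, ht⟩⁻¹ * x⁻¹) = 1
    rw [map_mul, map_mul, map_mul, this, map_inv, map_inv]; group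
  have h1 := q.in1_g hc
  have h2 := q.in1_g h1
  have e1 : g * c * g⁻¹ * (g * c * g⁻¹) = g * (c * c) * g⁻¹ := conj_mul
  have e2 : g * (g * c * g⁻¹) * g⁻¹ * (g * (g * c * g⁻¹) * g⁻¹) = g * (g * (c * c) * g⁻¹) * g⁻¹ := by group
  rcases q.c.mem_U.1 (q.in1_sq rk hc) with h | h | h | h
  · exact absurd (q.omC rk hc.1 h) cA
  all_goals
    rw [h] at e1 e2
    simp only [q.c.gz, q.c.gu, q.c.gzu] at e1 e2
    rcases q.c.mem_U.1 hf with rfl | rfl | rfl | rfl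
    · exact ⟨1, q.in1_A (one_mem _), mul_one _⟩
    all_goals first | exact ⟨_, hc, h⟩ | exact ⟨_, h1, e1⟩ | exact ⟨_, h2, e2⟩

theorem fixU {r y : G} (hr : r * u * r⁻¹ = z * u) (rS : r ∈ S) (hy : y ∈ V2 z u) (h : r * y * r⁻¹ = y) :
    y = 1 ∨ y = z := by
  rcases q.c.mem_U.1 hy with h1 | h1 | h1 | h1
  exacts [.inl h1, .inr h1, absurd (by rw [← hr, ← h1, h]) q.c.zu_ne_u, absurd (by
    rw [h1, ← conj_mul, hr, q.c.zc r rS, mul_inv_cancel_right, ← mul_assoc, q.c.zz, one_mul] at h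
    exact h.symm) q.c.zu_ne_u]

/-- squares centralising a group of order eight -/
theorem sq (rk : PRankLE 2 3 G) {E : Subgroup G} (ES : E ≤ S) (el : El E) (h8 : Nat.card E = 8) {r : G}
    (rS : r ∈ S) (rE : ∀ a ∈ E, r * a = a * r) (r4 : r * r * (r * r) = 1) : r * r ∈ V3 z u e ⊓ E := by
  have vE : r * r ∈ E := el.mem_of_comm rk h8.ge r4 fun a ha => by
    rw [mul_assoc, rE a ha, ← mul_assoc, rE a ha, mul_assoc]
  refine ⟨?_, vE⟩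
  rcases q.c.su r rS with ru | ru
  · exact q.omC rk (q.sqC ⟨rS, mem_Cx.2 ru⟩) r4
  have vT := q.c.mul_mem_T rS rS ru ru
  by_contra vA
  have vC : r * r ∉ S ⊓ Cx u ⊓ Cx e := fun h => vA (q.omC rk h r4)
  have ET : ∀ x ∈ E, x ∈ S ⊓ Cx u := fun x hx => by
    rcases q.c.su x (ES hx) with h | h
    · exact ⟨ES hx, mem_Cx.2 h⟩
    · refine absurd ?_ vC
      have := q.sqC (q.c.mul_mem_T (ES hx) rS h ru)
      rwa [mul_assoc, ← mul_assoc r, rE x hx, ← mul_assoc, ← mul_assoc, el x hx, one_mul] at this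
  have cE : ∀ x ∈ E, cm x e = 1 ∨ cm x e = z := fun x hx =>
    q.fixU ru rS (q.n.nm x (ES hx)) (by rw [← q.n.cm_conj q.c rS (ET x hx), rE x hx, mul_inv_cancel_right])
  have vz : cm (r * r) e = z := (cE _ vE).resolve_left fun h => vC ⟨vT, mem_Cx.2 ((cm_eq_one q.n.ee).1 h)⟩
  have k1 : ∀ x ∈ E, cm x e = 1 → x = 1 ∨ x = z := fun x hx h => by
    have xA := q.omC rk ⟨ET x hx, mem_Cx.2 ((cm_eq_one q.n.ee).1 h)⟩ (el x hx)
    refine q.fixU ru rS (((q.n.mem_E q.c).1 xA).resolve_right fun h1 => q.c.z1 ?_) (by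
      rw [rE x hx, mul_inv_cancel_right])
    rw [← vz, ← q.n.cm_of_mem q.c vT h1]
    exact (cm_eq_one (el x hx)).2 (el.comm vE hx)
  have : E ≤ V2 z (r * r) := fun x hx => by
    rw [mem_V2 q.c.zz r4 (q.c.zc _ vT.1).symm]
    rcases cE x hx with h | h
    · rcases k1 x hx h with h | h <;> simp [h]
    · rcases k1 _ (mul_mem hx vE) (by rw [q.n.cm_mul q.c (ET x hx) vT, h, vz, q.c.zz]) with h | h
      · exact .inr (.inr (.inl (by rw [eq_inv_of_mul_eq_one_left h, inv_eq_of_mul_eq_one_right r4])))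
      · exact .inr (.inr (.inr (by rw [← h, mul_assoc x, r4, mul_one])))
  have h4 := card_le_of_le this
  rw [card_V2 q.c.zz r4 (q.c.zc _ vT.1).symm q.c.z1 (fun h => vA (h ▸ one_mem _))
    (fun h => vA (h ▸ V2_le_V3 _ _ _ (l_V2 _ _)))] at h4
  omega

theorem jj_g {t : G} (ht : JJ S z u e t) : JJ S z u e (g * t * g⁻¹) :=
  ⟨conj_mem_of_mem_normalizer q.c.gT ht.1, fun h => ht.2.1 (mem_Cx.1 ((conj_mem_Cx (g := g)).1
    (by rw [q.ge]; exact mem_Cx.2 h))), ht.2.2.trans (isConj_iff.2 ⟨g, rfl⟩)⟩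

theorem jj_sq {t : G} (ht : JJ S z u e t) : t * t = 1 ∧ t ∉ V2 z u ∧ t ∉ V3 z u e := by
  have h : t ∉ V3 z u e := fun h => ht.2.1 (mem_Cx.1 (q.A_le h).2)
  refine ⟨?_, fun h1 => h (V2_le_V3 _ _ _ h1), h⟩
  obtain ⟨x, rfl⟩ := isConj_iff.1 ht.2.2
  rw [conj_mul, q.c.zz]; simp

end Q

end CfsgLib.Rk3B
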