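import Cfsg.Agent.Lib.Rk3B.L9
import Cfsg.Agent.Lib.Rk3B.C1
import Cfsg.Agent.Lib.Coprime.Abelian

/-!
The cube of `g` centralises `T`; choice of `g` inverted by an involution  (plans/RK3B.md, package G3)
-/

set_option autoImplicit false

namespace CfsgLib.Rk3B

open Subgroup Cfsg CfsgLib.Tech CfsgLib.W2 CfsgLib.Rk3
open scoped commutatorElement

variable {G : Type*} [Group G] [Finite G] {S : Subgroup G} {z u g e : G}

omit [Finite G] in
theorem cube_comm {a b c : G} (h1 : g * a * g⁻¹ = b) (h2 : g * b * g⁻¹ = c) (h3 : g * c * g⁻¹ = a) :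
    g ^ 3 * a = a * g ^ 3 := by
  rw [← mul_inv_eq_iff_eq_mul, show g ^ 3 * a * (g ^ 3)⁻¹ = g * (g * (g * a * g⁻¹) * g⁻¹) * g⁻¹ by
    simp [pow_succ, mul_assoc], h1, h2, h3]

theorem g3 (rk : PRankLE 2 3 G) (c : Cfg S z u g) (n : NE S z u e) (ge : g * e * g⁻¹ = e) {k : ℕ}
    (hk : g ^ 3 ^ k = 1) : Q S z u g e := by
  have := Fact.mk Nat.prime_three
  refine ⟨c, n, ge, ?_, k, hk⟩
  have pT : IsPGroup 2 ↥(S ⊓ Cx u) := c.syl.pgroup.to_le inf_le_left
  have p3 : IsPGroup 3 (zpowers (g ^ 3)) :=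
    isPGroup_zpowers_of_pow (k := k) (by rw [← pow_mul, mul_comm, pow_mul, hk, one_pow])
  have cop : ∀ {P : Subgroup G}, P ≤ S ⊓ Cx u → (Nat.card (zpowers (g ^ 3))).Coprime (Nat.card P) := fun h =>
    IsPGroup.coprime_card_of_ne 3 2 (by norm_num) _ _ p3 (pT.to_le h)
  have cen : ∀ {a}, g ^ 3 * a = a * g ^ 3 → a ∈ centralizer ((zpowers (g ^ 3) : Subgroup G) : Set G) := fun h =>
    le_centralizer_iff.1 (zpowers_le.2 (mem_centralizer_iff.2 (by
      rintro _ ⟨j, rfl⟩; exact (Commute.zpow_right h j).eq.symm))) (mem_zpowers _)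
  have cU : V2 z u ≤ centralizer ((zpowers (g ^ 3) : Subgroup G) : Set G) :=
    V2_le.2 ⟨cen (cube_comm c.gz c.gu c.gzu), cen (cube_comm c.gu c.gzu c.gz)⟩
  have ce := cen (cube_comm ge ge ge)
  have nm : ∀ {Y : Subgroup G}, g ∈ normalizer (Y : Set G) → zpowers (g ^ 3) ≤ normalizer (Y : Set G) :=
    fun h => zpowers_le.2 (pow_mem h 3)
  have gΘ : g ∈ normalizer ((zpowers (g ^ 3) : Subgroup G) : Set G) :=
    mem_normalizer_of_cj_le (by rw [cj_zpowers, show g * g ^ 3 * g⁻¹ = g ^ 3 by group])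
  have key : ∀ Y : Subgroup G, Y ≤ S ⊓ Cx u → S ⊓ Cx u ≤ normalizer (Y : Set G) → g ∈ normalizer (Y : Set G) →
      zpowers (g ^ 3) ≤ centralizer (Y : Set G) := fun Y => by
    induction Y using WellFoundedLT.induction with
    | ind Y ih =>
    intro YT nY gY
    by_cases Y0 : Y = ⊥
    · simp [Y0]
    have lt := Coprime.commutator_lt_of_isPGroup (pT.to_le YT) pT nY Y0
    have h1 := ih _ lt (lt.le.trans YT) (Coprime.le_normalizer_commutator nY le_normalizer)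
      (zpowers_le.1 (Coprime.le_normalizer_commutator (zpowers_le.2 gY) (zpowers_le.2 c.gT)))
    have h2 : ⁅Y, zpowers (g ^ 3)⁆ ≤ centralizer
        ((S ⊓ Cx u ⊓ centralizer ((zpowers (g ^ 3) : Subgroup G) : Set G) : Subgroup G) : Set G) := by
      refine commutator_eq_bot_iff_le_centralizer.1 (commutator_commutator_eq_bot_of_rotate ?_ ?_)
      · rw [commutator_eq_bot_iff_le_centralizer.2 (le_centralizer_iff.1 inf_le_right), commutator_bot_left]
      · exact commutator_eq_bot_iff_le_centralizer.2 (((commutator_comm _ _).le.trans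
          (commutator_mono le_rfl inf_le_left)).trans (le_centralizer_iff.1 h1))
    have h3 : ⁅Y, zpowers (g ^ 3)⁆ ⊔ V2 z u ≤ S ⊓ Cx u :=
      sup_le ((Coprime.commutator_le_of_le_normalizer (nm gY)).trans YT) c.U_le
    have h4 : ⁅Y, zpowers (g ^ 3)⁆ ⊔ V2 z u ≤ centralizer
        ((S ⊓ Cx u ⊓ centralizer ((zpowers (g ^ 3) : Subgroup G) : Set G) : Subgroup G) : Set G) :=
      sup_le h2 fun y hy => mem_centralizer_iff.2 fun x hx => c.cU hx.1 hy
    refine Coprime.le_centralizer_of_commutator_le_centralizer (nm gY) (cop YT) fun x hx => cen ?_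
    refine l9 (pT.to_le h3) (mem_sup_right (l_V2 _ _)) (mem_sup_right (r_V2 _ _)) c.zz c.uu c.z1 c.u1 c.uz
      (fun a ha => mem_Cx.2 (c.zc a (h3 ha).1)) (h3.trans inf_le_right) (fun a ha aa => ?_)
      (zpowers_le.1 (Coprime.le_normalizer_sup (Coprime.le_normalizer_commutator (zpowers_le.2 gY) (zpowers_le.2 gΘ))
        (zpowers_le.2 (mem_normalizer_iff_cj.2 c.cj_g_U)))) c.gz c.gu hk x (mem_sup_left hx)
    refine ((n.mem_E c).1 (n.mem_of_comm c rk aa (c.zc a (h3 ha).1) (mem_Cx.1 (h3 ha).2)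
      (mem_centralizer_iff.1 (h4 ha) e ⟨n.eT, ce⟩).symm)).resolve_right fun h5 => n.nU (c.om e n.eT n.ee fun t ht => ?_)
    have h6 := mul_mem (inv_mem (h4 ha)) (h4 (mem_sup_right h5))
    rw [inv_mul_cancel_left] at h6
    obtain ⟨d, hd, h7⟩ := Coprime.exists_mul_mem_centralizer' (U := S ⊓ Cx u ⊓ Cx e) (A := zpowers (g ^ 3))
      (nm (mem_normalizer_iff_cj.2 (by rw [cj_inf, mem_normalizer_iff_cj.1 c.gT, cj_Cx, ge]))) (cop inf_le_left)
      (.inl (Coprime.isSolvable_zpowers _)) t fun b hb => by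
        have h8 := conj_mem_of_mem_normalizer (nm c.gT hb) ht
        have h9 := Rk3.cm_conj b t e
        rw [mem_centralizer_iff.1 (cU (n.nm t ht.1)) b hb, mem_centralizer_iff.1 ce b hb, mul_inv_cancel_right,
          mul_inv_cancel_right] at h9
        refine ⟨(S ⊓ Cx u).mul_mem h8 (inv_mem ht), mem_Cx.2 ((cm_eq_one n.ee).1 ?_)⟩
        rw [n.cm_mul c h8 (inv_mem ht), ← h9, ← n.cm_mul c ht (inv_mem ht), mul_inv_cancel]
        simp [cm, n.ee]
    have h8 : d * t ∈ Cx e := mem_Cx.2 (mem_centralizer_iff.1 h6 _ ⟨mul_mem hd.1 ht, h7⟩)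
    exact mem_Cx.1 (((Cx e).mul_mem_cancel_left hd.2).1 h8)
  exact fun t ht => (mem_centralizer_iff.1 (key _ le_rfl le_normalizer c.gT (mem_zpowers _)) t ht).symm

omit [Finite G] in
theorem ne_adj (c : Cfg S z u g) (n : NE S z u e) {b : G} (hb : b ∈ V2 z u) : NE S z u (b * e) := by
  have bT := c.U_le hb
  have h := c.cU n.eT hb
  refine ⟨mul_mem bT.1 n.eS, ?_, mem_Cx.1 (mul_mem bT.2 n.eT.2), fun h1 => n.nU ((mul_mem_cancel_left hb).1 h1),
    fun s hs => ?_⟩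
  · rw [mul_assoc, ← mul_assoc e, h, mul_assoc, n.ee, mul_one, c.elU b hb]
  · have := mul_mem (mul_mem (c.conj_U hs hb) (n.nm s hs)) hb
    rw [mul_assoc, mul_assoc _ e, h] at this
    convert this using 1; group

/-- a 3-element normalising `T` and `A` -/
theorem exists_q (rk : PRankLE 2 3 G) (c : Cfg S z u g) (n : NE S z u e) (ge : g * e * g⁻¹ * e ∈ V2 z u) {k : ℕ}
    (hk : g ^ 3 ^ k = 1) : ∃ e', e' * e ∈ V2 z u ∧ Q S z u g e' ∧
      ∀ a ∈ V3 z u e, g * a * g⁻¹ = a → a = 1 ∨ a = e' := by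
  have uzu : u * (z * u) = z := by rw [c.zu, ← mul_assoc, c.uu, one_mul]
  obtain ⟨b, hb, h⟩ : ∃ b ∈ V2 z u, g * b * g⁻¹ * (g * e * g⁻¹ * e) = b := by
    rcases c.mem_U.1 ge with h | h | h | h <;> rw [h]
    · exact ⟨1, one_mem _, by simp⟩
    · exact ⟨u, r_V2 _ _, by rw [c.gu, mul_assoc, ← c.zu, ← mul_assoc, c.zz, one_mul]⟩
    · exact ⟨z * u, mul_mem (l_V2 _ _) (r_V2 _ _), by rw [c.gzu]⟩
    · exact ⟨z, l_V2 _ _, by rw [c.gz, uzu]⟩
  have h1 : g * (b * e) * g⁻¹ = b * e := by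
    rw [← conj_mul]; nth_rw 2 [← h]; rw [mul_assoc _ _ e, mul_assoc _ e e, n.ee, mul_one]
  have fU : ∀ a ∈ V2 z u, g * a * g⁻¹ = a → a = 1 := fun a ha h => by
    rcases c.mem_U.1 ha with rfl | rfl | rfl | rfl
    exacts [rfl, absurd (c.gz.symm.trans h) c.uz, absurd (c.gu.symm.trans h) c.zu_ne_u,
      absurd (c.gzu.symm.trans h).symm c.zu_ne_z]
  have n' := ne_adj c n hb
  refine ⟨b * e, by rwa [mul_assoc, n.ee, mul_one], g3 rk c n' h1 hk, fun a ha h2 => ?_⟩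
  refine ((n.mem_E c).1 ha).imp (fun h3 => fU a h3 h2) fun h3 => ?_
  have := fU (a * (b * e)) (by rw [← c.cU n.eT hb, ← mul_assoc]; exact mul_mem h3 hb) (by rw [← conj_mul, h1, h2])
  rw [eq_inv_of_mul_eq_one_left this, inv_eq_of_mul_eq_one_right n'.ee]

/-- a power that is a 3-element with exponent one modulo three -/
theorem exists_three (x : G) : ∃ m k : ℕ, (x ^ (3 * m + 1)) ^ 3 ^ k = 1 := by
  obtain ⟨k, m, hm, h⟩ := Nat.exists_eq_pow_mul_and_not_dvd (orderOf_pos x).ne' 3 (by norm_num)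
  have h1 : m * m % 3 = 1 := by
    have : m % 3 = 1 ∨ m % 3 = 2 := by omega
    rcases this with h | h <;> simp [Nat.mul_mod, h]
  refine ⟨m * m / 3, k, ?_⟩
  rw [show 3 * (m * m / 3) + 1 = m * m by omega, ← pow_mul, ← orderOf_dvd_iff_pow_eq_one, h]
  exact ⟨m, by ring⟩

omit [Finite G] in
theorem conj_pow_three {a b : G} (h3 : g ^ 3 * a = a * g ^ 3) (h : g * a * g⁻¹ = b) (m : ℕ) :
    g ^ (3 * m + 1) * a * (g ^ (3 * m + 1))⁻¹ = b := by
  rw [pow_succ', pow_mul, mul_assoc g, (Commute.pow_left h3 m).eq, ← h]; group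

/-- replacing `g` by a 3-element with the same action on `U` -/
theorem cfg_three (c : Cfg S z u g) {δ : G} (hT : δ ∈ normalizer ((S ⊓ Cx u : Subgroup G) : Set G))
    (h1 : δ * z * δ⁻¹ = u) (h2 : δ * u * δ⁻¹ = z * u) (m : ℕ) : Cfg S z u (δ ^ (3 * m + 1)) := by
  have h3 : δ * (z * u) * δ⁻¹ = z := by rw [← conj_mul, h1, h2, c.zu, ← mul_assoc, c.uu, one_mul]
  exact { c with
    gT := pow_mem hT _
    gz := conj_pow_three (cube_comm h1 h2 h3) h1 m
    gu := conj_pow_three (cube_comm h2 h3 h1) h2 m }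

/-- the element `s · s ^ g` -/
theorem cfg_delta (c : Cfg S z u g) {s : G} (sS : s ∈ S) (su : s * u * s⁻¹ = z * u) :
    s * (g * s * g⁻¹) ∈ normalizer ((S ⊓ Cx u : Subgroup G) : Set G) ∧
      s * (g * s * g⁻¹) * z * (s * (g * s * g⁻¹))⁻¹ = u ∧ s * (g * s * g⁻¹) * u * (s * (g * s * g⁻¹))⁻¹ = z * u := by
  have sT : s ∈ normalizer ((S ⊓ Cx u : Subgroup G) : Set G) := mem_normalizer_of_forall fun _ => c.conj_T sS
  have sz : s * z * s⁻¹ = z := by rw [c.zc s sS, mul_inv_cancel_right]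
  have szu : s * (z * u) * s⁻¹ = u := by rw [← conj_mul, sz, su, ← mul_assoc, c.zz, one_mul]
  have k : ∀ x, s * (g * s * g⁻¹) * (g * x * g⁻¹) * (s * (g * s * g⁻¹))⁻¹ = s * (g * (s * x * s⁻¹) * g⁻¹) * s⁻¹ :=
    fun x => by group
  refine ⟨mul_mem sT (mul_mem (mul_mem c.gT sT) (inv_mem c.gT)), ?_, ?_⟩
  · have := k (z * u); rwa [szu, c.gzu, c.gu, szu] at this
  · have := k z; rwa [sz, c.gz, su] at this

theorem Q.reg (rk : PRankLE 2 3 G) (q : Q S z u g e) {s : G} (sS : s ∈ S) (ss : s * s = 1)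
    (su : s * u * s⁻¹ = z * u) : ∃ g' e', e' * e ∈ V2 z u ∧ Q S z u g' e' ∧ s * g' * s⁻¹ = g'⁻¹ ∧
      s * e' = e' * s := by
  obtain ⟨h1, h2, h3⟩ := cfg_delta q.c sS su
  obtain ⟨m, k, hk⟩ := exists_three (s * (g * s * g⁻¹))
  have c' := cfg_three q.c h1 h2 h3 m
  have sA : s ∈ normalizer ((V3 z u e : Subgroup G) : Set G) := mem_normalizer_of_forall fun _ => q.conj_A sS
  have hA := pow_mem (mul_mem sA (mul_mem (mul_mem q.gA sA) (inv_mem q.gA))) (3 * m + 1)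
  have hi : s * (s * (g * s * g⁻¹)) ^ (3 * m + 1) * s⁻¹ = ((s * (g * s * g⁻¹)) ^ (3 * m + 1))⁻¹ := by
    rw [← conj_pow, ← inv_pow, ← mul_assoc s s, ss, one_mul, mul_inv_rev, conj_inv,
      inv_eq_of_mul_eq_one_right ss]
  generalize (s * (g * s * g⁻¹)) ^ (3 * m + 1) = γ at *
  obtain ⟨e', h4, q', h5⟩ := exists_q rk c' q.n (((q.n.mem_E q.c).1
    (conj_mem_of_mem_normalizer hA (r_V3 z u e))).resolve_left fun h => q.n.nU
      (conj_mem_cj.1 (c'.cj_g_U.symm ▸ h))) hk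
  refine ⟨γ, e', h4, q', hi, ?_⟩
  have h6 : γ⁻¹ * e' * γ = e' := by nth_rw 1 [← q'.ge]; group
  refine mul_inv_eq_iff_eq_mul.1 ((h5 _ (q.conj_A sS ((q.n.mem_E q.c).2 (.inr h4))) ?_).resolve_left fun h =>
    q'.n.nU (conj_eq_one_iff.1 h ▸ one_mem _))
  have h7 : γ = s * γ⁻¹ * s⁻¹ := by rw [← conj_inv, hi, inv_inv]
  calc _ = s * γ⁻¹ * s⁻¹ * (s * e' * s⁻¹) * (s * γ⁻¹ * s⁻¹)⁻¹ := by rw [← h7]
    _ = s * (γ⁻¹ * e' * γ) * s⁻¹ := by group
    _ = _ := by rw [h6]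

end CfsgLib.Rk3B
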