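import Cfsg.Agent.Lib.Rk3B.C1
import Cfsg.Agent.Lib.Rk3B.G3

/-!
The involution `s`  (plans/RK3B.md, package BX2)
-/

set_option autoImplicit false
set_option linter.unusedSectionVars false

namespace CfsgLib.Rk3B

open Subgroup Cfsg CfsgLib.Tech CfsgLib.W2 CfsgLib.Rk3

variable {G : Type*} [Group G] [Finite G] {S : Subgroup G} {z u g e : G}

namespace Bx2

variable {g' e' : G} (q : Q S z u g e) (q' : Q S z u g' e') (h : e' * e ∈ V2 z u)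
include q q' h

theorem symm : e * e' ∈ V2 z u := by
  have := inv_mem h
  rwa [mul_inv_rev, inv_eq_of_mul_eq_one_right q.n.ee, inv_eq_of_mul_eq_one_right q'.n.ee] at this

theorem eqA : V3 z u e' = V3 z u e :=
  le_antisymm (V3_le.2 ⟨V2_le_V3 _ _ _ (l_V2 _ _), V2_le_V3 _ _ _ (r_V2 _ _), (q.n.mem_E q.c).2 (Or.inr h)⟩)
    (V3_le.2 ⟨V2_le_V3 _ _ _ (l_V2 _ _), V2_le_V3 _ _ _ (r_V2 _ _),
      (q'.n.mem_E q'.c).2 (Or.inr (symm q q' h))⟩)

theorem comm_iff {x : G} (hx : x ∈ S ⊓ Cx u) : x * e' = e' * x ↔ x * e = e * x := by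
  rw [← cm_eq_one q'.n.ee, ← cm_eq_one q.n.ee, q.n.cm_of_mem q.c hx h]

theorem eqC : S ⊓ Cx u ⊓ Cx e' = S ⊓ Cx u ⊓ Cx e := by
  ext x
  exact ⟨fun hx => ⟨hx.1, mem_Cx.2 ((comm_iff q q' h hx.1).1 (mem_Cx.1 hx.2))⟩,
    fun hx => ⟨hx.1, mem_Cx.2 ((comm_iff q q' h hx.1).2 (mem_Cx.1 hx.2))⟩⟩

theorem eqIn : In1 S z u e' = In1 S z u e := by
  funext c
  simp only [In1, eqA q q' h, eqC q q' h]

theorem eqJ : JJ S z u e' = JJ S z u e := by
  funext t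
  exact propext ⟨fun ht => ⟨ht.1, fun k => ht.2.1 ((comm_iff q q' h ht.1).2 k), ht.2.2⟩,
    fun ht => ⟨ht.1, fun k => ht.2.1 ((comm_iff q q' h ht.1).1 k), ht.2.2⟩⟩

theorem jh (j : JH S z u g e) : JH S z u g' e' where
  q := q'
  big := by
    have := j.big
    simpa only [Bg, eqA q q' h, eqC q q' h] using this
  pu := by rw [eqA q q' h]; exact j.pu
  wc := by rw [eqA q q' h, eqJ q q' h]; exact j.wc

theorem lc {t f : G} (ht : t ∈ S ⊓ Cx u) (l : LC S z u e t f) : LC S z u e' t f where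
  fU := l.fU
  f1 := l.f1
  sq := l.sq
  cf := by rw [eqIn q q' h]; exact l.cf
  inj := by rw [eqIn q q' h, eqA q q' h]; exact l.inj
  ab := by rw [eqIn q q' h]; exact l.ab
  oth := by rw [eqIn q q' h, q.n.cm_of_mem q.c ht h]; exact l.oth
  mv := by rw [eqJ q q' h]; exact l.mv

end Bx2

namespace BX0

variable {t ρ : G} (b : BX0 S z u g e t ρ)
include b

theorem bx2_memX {x : G} (hx : x ∈ S) (h : x * t * x⁻¹ ∈ V2 z t) :
    x ∈ S ⊓ normalizer ((V2 z t : Subgroup G) : Set G) :=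
  ⟨hx, mem_normalizer_of_cj_le (by
    rw [cj_V2, b.j.q.c.zc x hx, mul_inv_cancel_right, V2_le]; exact ⟨l_V2 _ _, h⟩)⟩

theorem bx2_ze : cm z e = 1 := (cm_eq_one b.j.q.n.ee).2 (b.j.q.n.ez b.j.q.c).symm

/-- `u ^ ρ` lies in `T` and acts on `e` like `t` -/
theorem bx2_ρu : ρ * u * ρ⁻¹ ∈ S ⊓ Cx u ∧ cm (ρ * u * ρ⁻¹) e = cm t e := by
  have q := b.j.q
  rcases b.ρu with h | h <;> rw [h]
  · exact ⟨b.tJ.1, rfl⟩
  · exact ⟨mul_mem (q.c.U_le (l_V2 _ _)) b.tJ.1, by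
      rw [q.n.cm_mul q.c (q.c.U_le (l_V2 _ _)) b.tJ.1, b.bx2_ze, one_mul]⟩

theorem bx2_te (rk : PRankLE 2 3 G) : cm t e = z := by
  have q := b.j.q
  have tt := (q.jj_sq b.tJ).1
  have bU : cm t e ∈ V2 z u := q.n.nm t b.tJ.1.1
  have b1 : cm t e ≠ 1 := fun h => b.tJ.2.1 ((cm_eq_one q.n.ee).1 h)
  by_contra bz
  have et : cm e t = cm t e := by
    rw [← cm_inv q.n.ee tt, inv_eq_of_mul_eq_one_right (q.c.elU _ bU)]
  obtain ⟨c, cS, cz, cc⟩ : ∃ c ∈ S, cm c t = z ∧ c * c = u := by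
    obtain ⟨c, hc, cc⟩ := q.exists_in1 rk b.j.big (r_V2 z u)
    obtain ⟨h1, h2, h3⟩ := b.lc.oth c hc (cc ▸ q.c.u1) (cc ▸ q.c.uz)
    by_cases h4 : cm c t = z
    · exact ⟨c, hc.1.1.1, h4, cc⟩
    refine ⟨c * e, mul_mem hc.1.1.1 q.n.eS, ?_, ?_⟩
    · rw [cm_mul tt (by rw [et]; exact q.c.cU hc.1.1 bU), et]
      rcases q.c.mem_U.1 bU with k | k | k | k <;> rcases q.c.mem_U.1 h1 with l | l | l | l <;>
        first
          | exact absurd k b1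
          | exact absurd k bz
          | exact absurd l h2
          | exact absurd l h4
          | exact absurd (l.trans k.symm) h3
          | rw [k, l, q.c.zu, ← mul_assoc, q.c.uu, one_mul]
          | rw [k, l, mul_assoc, q.c.uu, mul_one]
    · rw [mul_assoc, ← mul_assoc e, ← mem_Cx.1 hc.1.2, mul_assoc, q.n.ee, mul_one, cc]
  have cX := b.bx2_memX cS (by
    have : c * t * c⁻¹ = z * t := by rw [← cz, cm, mul_assoc _ t t, tt, mul_one]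
    rw [this]; exact mul_mem (l_V2 _ _) (r_V2 _ _))
  have rS := (conj_mem_of_mem_normalizer b.ρX cX).1
  have rr : ρ * c * ρ⁻¹ * (ρ * c * ρ⁻¹) = ρ * u * ρ⁻¹ := by rw [conj_mul, cc]
  obtain ⟨k1, k2⟩ := b.bx2_ρu
  rcases q.c.su _ rS with ru | ru
  · have := (q.sqC ⟨rS, mem_Cx.2 ru⟩).2
    rw [rr] at this
    exact b1 (k2 ▸ (cm_eq_one q.n.ee).2 (mem_Cx.1 this))
  · refine (q.fixU ru rS bU ?_).elim b1 bz
    rw [← k2, ← q.n.cm_conj q.c rS k1, ← rr]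
    congr 1
    group

end BX0

theorem BX0.exists_bx (rk : PRankLE 2 3 G) {t ρ : G} (b : BX0 S z u g e t ρ) :
    ∃ g' e' s, e' * e ∈ V2 z u ∧ BX S z u g' e' t s ρ := by
  have q := b.j.q
  have tt := (q.jj_sq b.tJ).1
  have te := b.bx2_te rk
  have zt : z * t = t * z := (q.c.zc t b.tJ.1.1).symm
  have eX := b.bx2_memX q.n.eS (by
    have h1 : cm e t = z := by rw [← cm_inv q.n.ee tt, te, inv_eq_of_mul_eq_one_right q.c.zz]
    have : e * t * e⁻¹ = z * t := by rw [← h1, cm, mul_assoc _ t t, tt, mul_one]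
    rw [this]; exact mul_mem (l_V2 _ _) (r_V2 _ _))
  obtain ⟨s, hs⟩ : ∃ s, s = ρ * e * ρ⁻¹ := ⟨_, rfl⟩
  have sS : s ∈ S := hs ▸ (conj_mem_of_mem_normalizer b.ρX eX).1
  have ss : s * s = 1 := by rw [hs, conj_mul, q.n.ee]; simp
  have si : s⁻¹ = s := inv_eq_of_mul_eq_one_right ss
  have st : s * t = t * s := by
    have h1 : s * (ρ * u * ρ⁻¹) = ρ * u * ρ⁻¹ * s := by rw [hs, conj_mul, conj_mul, q.n.eu]
    rcases b.ρu with h | h <;> rw [h] at h1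
    · exact h1
    · rw [← mul_assoc, q.c.zc s sS, mul_assoc, mul_assoc] at h1
      exact mul_left_cancel h1
  have su : s * u * s⁻¹ = z * u := (q.c.su s sS).resolve_left fun h => b.tJ.2.1 (by
    have h1 := (V3_le (M := Cx s)).2 ⟨mem_Cx.2 (q.c.zc s sS).symm, mem_Cx.2 h.symm, mem_Cx.2 st.symm⟩
      (conj_mem_of_mem_normalizer b.ρE (r_V3 z u t))
    rw [hs] at h1
    exact mem_Cx.1 (conj_mem_Cx.1 h1))
  have ys : ∀ y ∈ S ⊓ Cx u ⊓ Cx e, y * t = t * y → s * y * s⁻¹ = y ∨ s * y * s⁻¹ = z * y := fun y hy yt => by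
    have yX := b.bx2_memX hy.1.1 (by rw [yt, mul_inv_cancel_right]; exact r_V2 _ _)
    have h1 := q.n.nm _ (conj_mem_of_mem_normalizer' b.ρX yX).1
    have h2 : y * s * y⁻¹ * s ∈ S ⊓ Cx u ⊓ Cx e := by
      have := mul_mem hy (q.conj_C sS (inv_mem hy))
      rwa [si, ← mul_assoc, ← mul_assoc] at this
    have h3 : y * s * y⁻¹ * s = ρ * (ρ⁻¹ * y * ρ * e * (ρ⁻¹ * y * ρ)⁻¹ * e) * ρ⁻¹ := by rw [hs]; group
    obtain ⟨k1, k2⟩ := b.bx2_ρu
    have z1 : ρ * z * ρ⁻¹ = z := by rw [b.ρz, mul_inv_cancel_right]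
    have h4 := (cm_eq_one q.n.ee).2 (mem_Cx.1 h2.2)
    have key : s * y * s⁻¹ = (y * s * y⁻¹ * s)⁻¹ * y := by
      calc s * y * s⁻¹ = s⁻¹ * y * s⁻¹ := by rw [si]
        _ = _ := by group
    rcases q.c.mem_U.1 h1 with k | k | k | k <;> rw [k] at h3
    · left
      rw [mul_one, mul_inv_cancel] at h3
      rw [key, h3, inv_one, one_mul]
    · right
      rw [z1] at h3
      rw [key, h3, inv_eq_of_mul_eq_one_right q.c.zz]
    · rw [h3, k2, te] at h4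
      exact absurd h4 q.c.z1
    · rw [h3, ← conj_mul, z1, q.n.cm_mul q.c (q.c.U_le (l_V2 _ _)) k1, b.bx2_ze, one_mul, k2, te] at h4
      exact absurd h4 q.c.z1
  obtain ⟨g', e', h, q', sg, se⟩ := q.reg rk sS ss su
  refine ⟨g', e', s, h, ⟨Bx2.jh q q' h b.j, by rw [Bx2.eqJ q q' h]; exact b.tJ, Bx2.lc q q' h b.tJ.1 b.lc,
    b.ρz, b.ρX, b.ρE, b.ρu⟩, by rw [q.n.cm_of_mem q.c b.tJ.1 h]; exact te, sS, ss, su, st, se, sg, ?_,
    by rw [Bx2.eqC q q' h]; exact ys, ?_⟩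
  · rw [hs, show ρ⁻¹ * (ρ * e * ρ⁻¹) * ρ = e by group]
    exact Bx2.symm q q' h
  · rw [Bx2.eqIn q q' h]
    obtain ⟨c, hc, cc, ct⟩ := b.lc.cf
    have cu : c * u = u * c := mem_Cx.1 hc.1.1.2
    rcases ys c hc.1 ct with k | k
    · exact ⟨c, hc, cc, ct, (mul_inv_eq_iff_eq_mul.1 k).symm⟩
    · refine ⟨c * u, q.in1_mul hc (q.in1_A (V2_le_V3 _ _ _ (r_V2 _ _))), ?_, ?_, ?_⟩
      · rw [mul_assoc, ← mul_assoc u, ← cu, mul_assoc, q.c.uu, mul_one, cc]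
      · rw [mul_assoc, ← mem_Cx.1 b.tJ.1.2, ← mul_assoc, ct, mul_assoc]
      · refine (mul_inv_eq_iff_eq_mul.1 ?_).symm
        rw [← conj_mul, k, su, mul_assoc, ← mul_assoc c, q.c.zc c hc.1.1.1, ← mul_assoc, ← mul_assoc, q.c.zz,
          one_mul]

end CfsgLib.Rk3B
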