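import Cfsg.Agent.Lib.Rk3B.Tl

/-!
The new case: the end  (plans/RK3B.md, package CF3)
-/

set_option autoImplicit false
set_option linter.unusedSectionVars false

namespace CfsgLib.Rk3B

open Subgroup Cfsg CfsgLib.Tech CfsgLib.W2 CfsgLib.Rk3

variable {G : Type*} [Group G] [Finite G] {S : Subgroup G} {z u g e : G}

namespace Cf3

theorem two_el (hS : IsPGroup 2 S) {k : G} (hk : k ∈ S) : ∃ n : ℕ, k ^ 2 ^ n = 1 :=
  isPGroup_iff_mem.1 hS k hk

theorem zp2 {a b : G} (bb : b * b = 1) (ha : a ∈ zpowers b) : a = 1 ∨ a = b := by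
  rw [← bot_sup_eq (zpowers b), mem_sup_inv bb (by simp), mem_bot, mem_bot] at ha
  exact ha.imp id fun h => by rw [eq_inv_of_mul_eq_one_left h, inv_eq_of_mul_eq_one_right bb]

theorem zcomm {k a b : G} (ha : a ∈ zpowers k) (hb : b ∈ zpowers k) : a * b = b * a := by
  obtain ⟨x, rfl⟩ := ha
  obtain ⟨y, rfl⟩ := hb
  exact (Commute.zpow_zpow_self k x y).eq

theorem cz {k s a : G} (h : s * k = k * s) (ha : a ∈ zpowers k) : s * a = a * s := by
  obtain ⟨x, rfl⟩ := ha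
  exact (Commute.zpow_right h x).eq

/-- the subgroups of a cyclic 2-group form a chain -/
theorem lin {k a b : G} {n : ℕ} (hk : k ^ 2 ^ n = 1) (ha : a ∈ zpowers k) (hb : b ∈ zpowers k) :
    a ∈ zpowers b ∨ b ∈ zpowers a := by
  obtain ⟨x, rfl⟩ := mem_powers_iff_mem_zpowers.2 ha
  obtain ⟨y, rfl⟩ := mem_powers_iff_mem_zpowers.2 hb
  rcases eq_or_ne x 0 with rfl | x0
  · exact .inl (by simp)
  rcases eq_or_ne y 0 with rfl | y0
  · exact .inr (by simp)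
  obtain ⟨α, x, hx, rfl⟩ := Nat.exists_eq_two_pow_mul_odd x0
  obtain ⟨β, y, hy, rfl⟩ := Nat.exists_eq_two_pow_mul_odd y0
  have key : ∀ α β x y : ℕ, Odd x → α ≤ β → k ^ (2 ^ β * y) ∈ zpowers (k ^ (2 ^ α * x)) :=
    fun α β x y hx h => by
      have h1 : k ^ 2 ^ α ∈ zpowers (k ^ (2 ^ α * x)) :=
        mem_of_coprime_pow (a := x) (b := 2 ^ n) (Nat.Coprime.pow_right n (Nat.coprime_two_right.2 hx))
          (by rw [← pow_mul]; exact mem_zpowers _) (by rw [← pow_mul, mul_comm (2 ^ α) (2 ^ n), pow_mul k (2 ^ n), hk]; simp)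
      obtain ⟨d, rfl⟩ := Nat.exists_eq_add_of_le h
      rw [pow_add, mul_assoc, pow_mul k (2 ^ α) (2 ^ d * y)]
      exact pow_mem h1 _
  rcases le_total α β with h | h
  · exact .inr (key _ _ _ _ hx h)
  · exact .inl (key _ _ _ _ hy h)

theorem exists_step {H : Subgroup G} {x : G} {n : ℕ} (hx : x ^ 2 ^ n = 1) (h : x ∉ H) :
    ∃ m : ℕ, x ^ 2 ^ m ∉ H ∧ x ^ 2 ^ m * x ^ 2 ^ m ∈ H := by
  by_contra hn
  push Not at hn
  have : ∀ m : ℕ, x ^ 2 ^ m ∉ H := fun m => by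
    induction m with
    | zero => simpa using h
    | succ m ih => rw [pow_succ, pow_mul, sq]; exact hn m ih
  exact this n (hx ▸ one_mem H)

/-- the dihedral frame -/
structure Fr (S : Subgroup G) (z u f k i : G) : Prop where
  c : CD S z u f
  kS : k ∈ S
  uk : u * k * u⁻¹ = k⁻¹
  nk : ∀ s ∈ S, ∀ a ∈ zpowers k, s * a * s⁻¹ ∈ zpowers k
  Y : ∀ y, (∃ s ∈ S, s * u * s⁻¹ = y) ↔ u * y ∈ zpowers k
  iK : i ∈ zpowers k
  ii : i * i = z
  fi : f * i = i * f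

section CD

variable {f : G} (c : CD S z u f)
include c

theorem u1 : u ≠ 1 := fun h => c.z1 (isConj_one_left.1 (h ▸ c.cj))

theorem f1 : f ≠ 1 := fun h => c.fU (h ▸ one_mem _)

theorem fz : f ≠ z := fun h => c.fU (h ▸ l_V2 _ _)

theorem zu : z * u = u * z := (c.zc u c.uS).symm

theorem fu : f * u = u * f := (c.cen u c.uS rfl).symm

theorem nsq {r : G} (hr : r ∈ S) (ru : r * u = u * r) : r * r ≠ z := fun h => by
  rcases c.sq r hr ru (by rw [h, c.zz]) with h1 | h1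
  · exact c.z1 (h.symm.trans h1)
  · exact fz c (h1.symm.trans h)

theorem ne_z {s : G} (hs : s ∈ S) : s * u * s⁻¹ ≠ z := fun h => c.uz (by
  rw [mul_inv_eq_iff_eq_mul, ← c.zc s hs] at h; exact mul_left_cancel h)

theorem cjU {s : G} (hs : s ∈ S) (h : s * u * s⁻¹ * u = u * (s * u * s⁻¹)) :
    s * u * s⁻¹ = u ∨ s * u * s⁻¹ = z * u := by
  have h1 := c.cl _ (c.om _ (mul_mem (mul_mem hs c.uS) (inv_mem hs)) (by rw [conj_mul, c.uu]; simp) h)
    (c.cj.trans (isConj_iff.2 ⟨s, rfl⟩))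
  rcases (mem_V2 c.zz c.uu (zu c)).1 h1 with h2 | h2 | h2 | h2
  · exact absurd (by simpa using h2) (u1 c)
  · exact absurd h2 (ne_z c hs)
  exacts [.inl h2, .inr h2]

theorem exists_fr : ∃ k i, Fr S z u f k i := by
  have hw : ∀ s ∈ S, s * u * s⁻¹ ≠ u → z ∈ zpowers (u * (s * u * s⁻¹)) := fun s hs ne => by
    have yS := mul_mem (mul_mem hs c.uS) (inv_mem hs)
    by_cases h : u * (s * u * s⁻¹) = s * u * s⁻¹ * u
    · rw [(cjU c hs h.symm).resolve_left ne, zu c, ← mul_assoc, c.uu, one_mul]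
      exact mem_zpowers _
    · obtain ⟨d, hd, -, d1, du, -, ⟨x, hx, e1⟩, -⟩ :=
        dcen c.syl.pgroup c.uS yS c.uu (by rw [conj_mul, c.uu]; simp) h
      have xS : x ∈ S := zpowers_le.2 (mul_mem c.uS yS) hx
      rcases cjU c xS (by rw [e1, ← mul_assoc, ← du]) with h1 | h1
      · exact absurd (mul_eq_right.1 (e1.symm.trans h1)) d1
      · rwa [← mul_right_cancel (e1.symm.trans h1)]
  obtain ⟨k, kS, uk, nk, hY⟩ := dih (Y := {y | ∃ s ∈ S, s * u * s⁻¹ = y}) (w := z) (b := u) c.syl.pgroup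
    (by rintro _ ⟨s, hs, rfl⟩; exact mul_mem (mul_mem hs c.uS) (inv_mem hs))
    (by rintro _ ⟨s, hs, rfl⟩; rw [conj_mul, c.uu]; simp)
    (by rintro s hs _ ⟨t, ht, rfl⟩; exact ⟨s * t, mul_mem hs ht, by group⟩) c.zz c.z1
    (by
      rintro _ ⟨s, hs, rfl⟩ _ ⟨t, ht, rfl⟩ ne
      have := conj_mem_cj (g := s).2 (hw (s⁻¹ * t) (mul_mem (inv_mem hs) ht) fun h => ne (by
        calc s * u * s⁻¹ = s * (s⁻¹ * t * u * (s⁻¹ * t)⁻¹) * s⁻¹ := by rw [h]
          _ = _ := by group))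
      rw [cj_zpowers, c.zc s hs, mul_inv_cancel_right] at this
      convert this using 2; group)
    ⟨1, one_mem _, by simp⟩ fun r hr ru => nsq c hr ru
  obtain ⟨n, hn⟩ := two_el c.syl.pgroup kS
  obtain ⟨t, ht, tu⟩ := c.ext
  have zK : z ∈ zpowers k := by
    have := (hY _).1 ⟨t, ht, tu⟩
    rwa [zu c, ← mul_assoc, c.uu, one_mul] at this
  obtain ⟨s, hs, sU, sf⟩ := c.exs
  have jK := (hY _).1 ⟨s, hs, rfl⟩
  have jf : f * (u * (s * u * s⁻¹)) = u * (s * u * s⁻¹) * f := by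
    rw [← mul_assoc, fu c, mul_assoc, ← sf, ← mul_assoc]
  have jz : u * (s * u * s⁻¹) ∉ zpowers z := fun h => sU (by
    have := mul_mem (r_V2 z u) (zpowers_le.2 (l_V2 z u) h)
    rwa [← mul_assoc, c.uu, one_mul] at this)
  generalize u * (s * u * s⁻¹) = j at jK jf jz
  obtain ⟨n', hj⟩ := two_el c.syl.pgroup (zpowers_le.2 kS jK)
  obtain ⟨m, h1, h2⟩ := exists_step hj jz
  refine ⟨k, j ^ 2 ^ m, c, kS, uk, fun s hs a ha => conj_mem_of_mem_normalizer (nk hs) ha, hY,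
    pow_mem jK _, (zp2 c.zz h2).resolve_left fun h => h1 ?_, (Commute.pow_right jf _).eq⟩
  rcases lin hn (pow_mem jK (2 ^ m)) zK with h3 | h3
  · exact h3
  · rcases zp2 h h3 with h4 | h4
    · exact absurd h4 c.z1
    · exact h4 ▸ mem_zpowers _

theorem fin (idx : ∀ M : Subgroup G, M.index ≠ 2) {M : Subgroup G} (h1 : M ≤ S)
    (h2 : S ≤ normalizer (M : Set G)) {p : G} (hp : p ∈ S) (hc : S ≤ M ⊔ zpowers p)
    (hM : ∀ a ∈ M, a * a = 1 → a ≠ 1 → IsConj z a) : False := by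
  obtain ⟨x, hx⟩ := thompson idx c.syl h1 h2 hp hc c.ff (f1 c)
  exact c.fU (c.cl f (r_V3 _ _ _) ((hM _ hx (by rw [conj_mul, c.ff]; simp) (by simpa using f1 c)).trans
    (isConj_iff.2 ⟨x, rfl⟩).symm))

end CD

namespace Fr

variable {f k i : G} (r : Fr S z u f k i)
include r

theorem kle {a : G} (ha : a ∈ zpowers k) : a ∈ S := zpowers_le.2 r.kS ha

theorem zK : z ∈ zpowers k := r.ii ▸ mul_mem r.iK r.iK

theorem inv1 {a : G} (ha : a ∈ zpowers k) (aa : a * a = 1) : a = 1 ∨ a = z := by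
  obtain ⟨n, hn⟩ := two_el r.c.syl.pgroup r.kS
  rcases lin hn ha r.zK with h | h
  · exact zp2 r.c.zz h
  · exact (zp2 aa h).imp (fun h => absurd h r.c.z1) Eq.symm

theorem ui : u⁻¹ = u := inv_eq_of_mul_eq_one_right r.c.uu

theorem uinv {a : G} (ha : a ∈ zpowers k) : u * a * u⁻¹ = a⁻¹ := by
  obtain ⟨x, rfl⟩ := ha
  show u * k ^ x * u⁻¹ = (k ^ x)⁻¹
  rw [← conj_zpow, r.uk, inv_zpow]

theorem cu {a : G} (ha : a ∈ zpowers k) : a * u * a⁻¹ = u * (a⁻¹ * a⁻¹) := by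
  calc a * u * a⁻¹ = u * (u * a * u⁻¹) * a⁻¹ := by rw [r.ui, ← mul_assoc, ← mul_assoc, r.c.uu, one_mul]
    _ = _ := by rw [r.uinv ha, mul_assoc]

theorem iu : i * u * i⁻¹ = z * u := by
  rw [r.cu r.iK, ← mul_inv_rev, r.ii, inv_eq_of_mul_eq_one_right r.c.zz, zu r.c]

theorem ui_ne : u * i ≠ i * u := fun h =>
  r.c.z1 (mul_eq_right.1 (by rw [← r.iu, ← h, mul_inv_cancel_right]))

/-- an element with square `z` in `⟨k⟩` is `i` or `z i` -/
theorem sqz {a : G} (ha : a ∈ zpowers k) (aa : a * a = z) : a = i ∨ a = z * i := by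
  refine (r.inv1 (mul_mem ha (inv_mem r.iK)) ?_).imp mul_inv_eq_one.1 mul_inv_eq_iff_eq_mul.1
  rw [mul_assoc, ← mul_assoc i⁻¹, zcomm (inv_mem r.iK) ha, mul_assoc, ← mul_assoc, aa, ← mul_inv_rev, r.ii,
    mul_inv_cancel]

theorem covi {s : G} (hs : s ∈ S) : s * i = i * s ∨ s * u * i = i * (s * u) := by
  rcases r.sqz (r.nk s hs i r.iK) (by rw [conj_mul, r.ii, r.c.zc s hs, mul_inv_cancel_right]) with h | h
  · exact .inl (mul_inv_eq_iff_eq_mul.1 h)
  · refine .inr (mul_inv_eq_iff_eq_mul.1 ?_)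
    calc s * u * i * (s * u)⁻¹ = s * (u * i * u⁻¹) * s⁻¹ := by group
      _ = (z * i)⁻¹ := by rw [r.uinv r.iK, ← h]; group
      _ = i := by
        refine inv_eq_of_mul_eq_one_right ?_
        rw [mul_assoc, r.ii, r.c.zz]

/-- an element of `S` fixing `i` whose square fixes `k` -/
theorem tw {s : G} (hs : s ∈ S) (si : s * i = i * s) (sk : s * s * k = k * (s * s)) :
    s * k * s⁻¹ = k ∨ s * k * s⁻¹ = z * k := by
  have hb : s * k * s⁻¹ * k⁻¹ ∈ zpowers k := mul_mem (r.nk s hs k (mem_zpowers k)) (inv_mem (mem_zpowers k))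
  have e1 : s * (s * k * s⁻¹ * k⁻¹) * s⁻¹ = (s * k * s⁻¹ * k⁻¹)⁻¹ := by
    calc s * (s * k * s⁻¹ * k⁻¹) * s⁻¹ = s * s * k * (s * s)⁻¹ * (s * k * s⁻¹)⁻¹ := by group
      _ = _ := by rw [sk]; group
  refine (r.inv1 hb ?_).imp mul_inv_eq_one.1 mul_inv_eq_iff_eq_mul.1
  generalize s * k * s⁻¹ * k⁻¹ = b at hb e1
  obtain ⟨n, hn⟩ := two_el r.c.syl.pgroup r.kS
  rcases lin hn hb r.iK with h | h
  · rw [cz si h, mul_inv_cancel_right] at e1
    exact mul_eq_one_iff_eq_inv.2 e1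
  · obtain ⟨x, hx⟩ := h
    have hx : b ^ x = i := hx
    refine absurd ?_ r.c.z1
    rw [← r.ii, mul_eq_one_iff_eq_inv]
    calc i = s * i * s⁻¹ := by rw [si, mul_inv_cancel_right]
      _ = _ := by rw [← hx, ← conj_zpow, e1, inv_zpow]

theorem autc {s t a : G} (hs : s ∈ S) (ht : t ∈ S) (ha : a ∈ zpowers k) :
    s * (t * a * t⁻¹) * s⁻¹ = t * (s * a * s⁻¹) * t⁻¹ := by
  obtain ⟨x, hx⟩ := r.nk s hs k (mem_zpowers k)
  obtain ⟨y, hy⟩ := r.nk t ht k (mem_zpowers k)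
  obtain ⟨w, rfl⟩ := ha
  have hx : k ^ x = s * k * s⁻¹ := hx
  have hy : k ^ y = t * k * t⁻¹ := hy
  show s * (t * k ^ w * t⁻¹) * s⁻¹ = t * (s * k ^ w * s⁻¹) * t⁻¹
  rw [← conj_zpow, ← conj_zpow, ← conj_zpow, ← conj_zpow, ← hx, ← hy, ← conj_zpow, ← conj_zpow, ← hx, ← hy,
    ← zpow_mul k x y, ← zpow_mul k y x, mul_comm x y]

theorem exσ : ∃ σ ∈ S, σ * u * σ⁻¹ = u * k :=
  (r.Y _).2 (by rw [← mul_assoc, r.c.uu, one_mul]; exact mem_zpowers k)

/-- step (1): `f` centralises `k` -/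
theorem fk : f * k = k * f := by
  have c := r.c
  refine mul_inv_eq_iff_eq_mul.1 ((r.tw c.fS r.fi (by rw [c.ff]; simp)).resolve_right fun h => ?_)
  obtain ⟨σ, hσ, σu⟩ := r.exσ
  have act : ∀ a ∈ zpowers k, σ * f * σ⁻¹ * a * (σ * f * σ⁻¹)⁻¹ = f * a * f⁻¹ := fun a ha => by
    calc _ = σ * (f * (σ⁻¹ * a * σ⁻¹⁻¹) * f⁻¹) * σ⁻¹ := by group
      _ = _ := by rw [r.autc c.fS (inv_mem hσ) ha]; group
  have h1 : σ * f * σ⁻¹ * (u * k) * (σ * f * σ⁻¹)⁻¹ = u * k := by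
    rw [← σu, conj_mul, fu c]; group
  have fS : σ * f * σ⁻¹ ∈ S := mul_mem (mul_mem hσ c.fS) (inv_mem hσ)
  have ff : σ * f * σ⁻¹ * (σ * f * σ⁻¹) = 1 := by rw [conj_mul, c.ff]; simp
  have a1 := act k (mem_zpowers k)
  have a2 := act i r.iK
  generalize σ * f * σ⁻¹ = f' at h1 fS ff a1 a2
  rw [← conj_mul, a1, h, ← mul_assoc] at h1
  have h2 : f' * u * f'⁻¹ = z * u := by
    have h1 := mul_right_cancel h1
    rw [zu c]
    calc f' * u * f'⁻¹ = f' * u * f'⁻¹ * z * z := by rw [mul_assoc _ z, c.zz, mul_one]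
      _ = _ := by rw [h1]
  have h3 := c.cen' f' fS h2
  rw [r.fi, mul_inv_cancel_right, mul_inv_eq_iff_eq_mul] at a2
  refine nsq c (mul_mem (mul_mem fS c.fS) (r.kle r.iK)) (mul_inv_eq_iff_eq_mul.1 ?_) ?_
  · calc f' * f * i * u * (f' * f * i)⁻¹ = f' * (f * (i * u * i⁻¹) * f⁻¹) * f'⁻¹ := by group
      _ = f' * z * (f * u * f⁻¹) * f'⁻¹ := by rw [r.iu, ← mul_assoc f, c.zc f c.fS]; group
      _ = z * (f' * u * f'⁻¹) := by rw [fu c, c.zc f' fS]; group
      _ = u := by rw [h2, ← mul_assoc, c.zz, one_mul]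
  · calc f' * f * i * (f' * f * i) = f' * f * (i * f') * f * i := by group
      _ = f' * (f * f') * (i * f) * i := by rw [← a2]; group
      _ = (f' * f') * (f * f) * (i * i) := by rw [← h3, ← r.fi]; group
      _ = z := by rw [ff, c.ff, r.ii]; group

theorem fa {a : G} (ha : a ∈ zpowers k) : f * a = a * f := cz r.fk ha

/-- involutions centralising `u` and `i` -/
theorem omi {a : G} (ha : a ∈ S) (aa : a * a = 1) (au : a * u = u * a) (ai : a * i = i * a) :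
    a = 1 ∨ a = z ∨ a = f ∨ a = z * f := by
  have c := r.c
  have key : ∀ b ∈ V2 z u, b * i = i * b → b = 1 ∨ b = z := fun b hb bi => by
    rcases (mem_V2 c.zz c.uu (zu c)).1 hb with h | h | h | h
    exacts [.inl h, .inr h, absurd (h ▸ bi) r.ui_ne, absurd (by
      rw [h, ← mul_assoc, c.zc i (r.kle r.iK), mul_assoc, mul_assoc] at bi; exact mul_left_cancel bi) r.ui_ne]
  rcases (mem_V3 c.ff (c.zc f c.fS) (fu c)).1 (c.om a ha aa au) with h | h
  · rcases key a h ai with h | h <;> simp [h]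
  · rcases key _ h (by rw [mul_assoc, r.fi, ← mul_assoc, ai, mul_assoc]) with h | h
    · exact .inr (.inr (.inl (by rw [eq_inv_of_mul_eq_one_left h, inv_eq_of_mul_eq_one_right c.ff])))
    · exact .inr (.inr (.inr (by rw [← h, mul_assoc, c.ff, mul_one])))

/-- `K = C_S(u, k)` is normal in `S` -/
theorem conjK {s a : G} (hs : s ∈ S) (au : a * u = u * a) (ak : a * k = k * a) :
    s * a * s⁻¹ * u = u * (s * a * s⁻¹) ∧ s * a * s⁻¹ * k = k * (s * a * s⁻¹) := by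
  have h1 := cz ak ((r.Y _).1 ⟨s⁻¹, inv_mem hs, rfl⟩)
  have h2 := cz ak (r.nk _ (inv_mem hs) k (mem_zpowers k))
  rw [← mul_assoc, au, mul_assoc, mul_assoc u] at h1
  have h1 := mul_left_cancel h1
  constructor
  · calc _ = s * (a * (s⁻¹ * u * s⁻¹⁻¹)) * s⁻¹ := by group
      _ = _ := by rw [h1]; group
  · calc _ = s * (a * (s⁻¹ * k * s⁻¹⁻¹)) * s⁻¹ := by group
      _ = _ := by rw [h2]; group

theorem conjf {s : G} (hs : s ∈ S) : s * f * s⁻¹ = f ∨ s * f * s⁻¹ = z * f := by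
  have c := r.c
  obtain ⟨h1, h2⟩ := r.conjK hs (fu c) r.fk
  rcases r.omi (mul_mem (mul_mem hs c.fS) (inv_mem hs)) (by rw [conj_mul, c.ff]; simp) h1 (cz h2 r.iK)
    with h | h | h | h
  · exact absurd (by simpa using h) (f1 c)
  · refine absurd ?_ (fz c)
    rw [mul_inv_eq_iff_eq_mul, ← c.zc s hs] at h; exact mul_left_cancel h
  exacts [.inl h, .inr h]

theorem exf : ∃ s ∈ S, s * f * s⁻¹ = z * f := by
  by_contra h
  exact fz r.c (r.c.uq f r.c.fS r.c.ff (f1 r.c) fun s hs =>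
    mem_Cx'.2 ((r.conjf hs).resolve_right fun h1 => h ⟨s, hs, h1⟩))

theorem zf_ne : z * f ≠ f := fun h => r.c.z1 (mul_eq_right.1 h)

/-- `u ^ s = u k ^ (2 m)` or `u k ^ (2 m + 1)` -/
theorem par {s : G} (hs : s ∈ S) : ∃ a ∈ zpowers k, a * s * u * (a * s)⁻¹ = u ∨ a * s * u * (a * s)⁻¹ = u * k := by
  obtain ⟨x, hx⟩ := (r.Y _).1 ⟨s, hs, rfl⟩
  have hx : k ^ x = u * (s * u * s⁻¹) := hx
  have e1 : s * u * s⁻¹ = u * k ^ x := by rw [hx, ← mul_assoc, r.c.uu, one_mul]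
  have e2 : ∀ m : ℤ, k ^ m * s * u * (k ^ m * s)⁻¹ = u * k ^ (x - 2 * m) := fun m => by
    calc _ = k ^ m * (s * u * s⁻¹) * (k ^ m)⁻¹ := by group
      _ = k ^ m * u * (k ^ m)⁻¹ * k ^ x := by rw [e1]; group
      _ = _ := by rw [r.cu (zpow_mem (mem_zpowers k) m)]; group
  rcases Int.even_or_odd' x with ⟨m, h | h⟩
  · exact ⟨_, zpow_mem (mem_zpowers k) m, .inl (by rw [e2, h]; simp)⟩
  · exact ⟨_, zpow_mem (mem_zpowers k) m, .inr (by rw [e2, h]; simp)⟩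

theorem evf {s a : G} (hs : s ∈ S) (ha : a ∈ zpowers k) (h : a * s * u * (a * s)⁻¹ = u) : s * f = f * s := by
  have := r.c.cen _ (mul_mem (r.kle ha) hs) (mul_inv_eq_iff_eq_mul.1 h)
  rw [← mul_assoc, r.fa ha, mul_assoc, mul_assoc] at this
  exact mul_left_cancel this

theorem oddf {σ : G} (hσ : σ ∈ S) (σu : σ * u * σ⁻¹ = u * k) : σ * f * σ⁻¹ = z * f := by
  refine (r.conjf hσ).resolve_left fun h => ?_
  obtain ⟨s, hs, sf⟩ := r.exf
  refine r.zf_ne (sf.symm.trans (mul_inv_eq_iff_eq_mul.2 ?_))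
  obtain ⟨a, ha, h1 | h1⟩ := r.par hs
  · exact r.evf hs ha h1
  · have h2 := r.c.cen (σ⁻¹ * (a * s)) (mul_mem (inv_mem hσ) (mul_mem (r.kle ha) hs))
      (mul_inv_eq_iff_eq_mul.1 (by
        calc _ = σ⁻¹ * (a * s * u * (a * s)⁻¹) * σ := by group
          _ = u := by rw [h1, ← σu]; group))
    have h3 : σ ∈ Cx f := mem_Cx'.2 h
    simpa using mem_Cx.1 (mul_mem (inv_mem (mem_Cx.2 (r.fa ha).symm)) (mul_mem h3 (mem_Cx.2 h2)))

/-- the centraliser of `f` is `⟨k⟩ C_S(u)` -/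
theorem dec {s : G} (hs : s ∈ S) (sf : s * f = f * s) : ∃ a ∈ zpowers k, a * s * u = u * (a * s) := by
  obtain ⟨a, ha, h | h⟩ := r.par hs
  · exact ⟨a, ha, mul_inv_eq_iff_eq_mul.1 h⟩
  · refine absurd ((r.oddf (mul_mem (r.kle ha) hs) h).symm.trans ?_) r.zf_ne
    rw [mul_assoc a, sf, ← mul_assoc, ← r.fa ha]; group

/-- step (2): `K = ⟨z, f⟩` -/
theorem memK {a : G} (ha : a ∈ S) (au : a * u = u * a) (ak : a * k = k * a) :
    a = 1 ∨ a = z ∨ a = f ∨ a = z * f := by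
  have c := r.c
  refine r.omi ha ?_ au (cz ak r.iK)
  by_contra aa
  obtain ⟨n, hn⟩ := two_el c.syl.pgroup (mul_mem ha ha)
  obtain ⟨m, h1, h2⟩ := exists_step (H := ⊥) hn (by simpa using aa)
  rw [mem_bot] at h1 h2
  have e1 : a ^ 2 ^ m * a ^ 2 ^ m = (a * a) ^ 2 ^ m := ((Commute.refl a).mul_pow _).symm
  have bu := (Commute.pow_left au (2 ^ m)).eq
  have bk := (Commute.pow_left ak (2 ^ m)).eq
  have bS := pow_mem ha (2 ^ m)
  rw [← e1] at h1 h2
  generalize a ^ 2 ^ m = b at h1 h2 bu bk bS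
  have h3 := (c.sq b bS bu h2).resolve_left h1
  obtain ⟨s, hs, sf⟩ := r.exf
  rcases c.sq _ (mul_mem (mul_mem hs bS) (inv_mem hs)) (r.conjK hs bu bk).1 (by
    rw [conj_mul, conj_mul, h2]; simp) with h | h
  · rw [conj_mul] at h; exact h1 (by simpa using h)
  · rw [conj_mul, h3, sf] at h; exact r.zf_ne h

/-- square roots -/
theorem root {a : G} (ha : a ∈ S) (au : a * u = u * a) (ai : a * i = i * a) (ak : a * k ≠ k * a)
    (a2 : a * a * k = k * (a * a)) : a * a = f := by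
  have c := r.c
  have zf : z * f * (z * f) = 1 := by
    rw [mul_assoc, ← mul_assoc f, c.zc f c.fS, mul_assoc, c.ff, mul_one, c.zz]
  refine (c.sq a ha au ?_).resolve_left fun h => ak ?_
  · rcases r.memK (mul_mem ha ha) (by rw [mul_assoc, au, ← mul_assoc, au, mul_assoc]) a2 with h | h | h | h <;>
      rw [h]
    exacts [mul_one _, c.zz, c.ff, zf]
  · rcases r.omi ha h au ai with h | h | h | h <;> rw [h]
    exacts [by simp, (c.zc k r.kS).symm, r.fk, by rw [mul_assoc, r.fk, ← mul_assoc, ← c.zc k r.kS, mul_assoc]]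

theorem invD {a : G} (ha : a ∈ zpowers k) : IsConj z (a * u) := by
  obtain ⟨s, -, h⟩ := (r.Y (a * u)).2 (by
    rw [← mul_assoc, show u * a * u = u * a * u⁻¹ by rw [r.ui], r.uinv ha]; exact inv_mem ha)
  exact r.c.cj.trans (isConj_iff.2 ⟨s, h⟩)

theorem pk : IsPGroup 2 (zpowers k) := r.c.syl.pgroup.to_le (zpowers_le.2 r.kS)

theorem nS : S ≤ normalizer ((zpowers k : Subgroup G) : Set G) := fun s hs =>
  mem_normalizer_of_forall (r.nk s hs)

/-- step (3) -/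
theorem case3 (idx : ∀ M : Subgroup G, M.index ≠ 2) {σ : G} (hσ : σ ∈ S) (σk : σ * k = k * σ)
    (σu : σ * u * σ⁻¹ = u * k) (σσ : σ * σ * k = z) : False := by
  have c := r.c
  have σf := r.oddf hσ σu
  have zσ : σ * z = z * σ := c.zc σ hσ
  have uσ : u * σ * u⁻¹ = z * σ⁻¹ := by
    calc u * σ * u⁻¹ = u * (σ * u * σ⁻¹) * σ := by rw [r.ui]; group
      _ = σ⁻¹ * (σ * k * σ) := by rw [σu, ← mul_assoc, c.uu]; group
      _ = σ⁻¹ * (σ * σ * k) := by rw [mul_assoc σ k, ← σk, mul_assoc]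
      _ = _ := by rw [σσ, c.zc _ (inv_mem hσ)]
  have ek : k = z * (σ * σ)⁻¹ := by rw [← c.zc _ (inv_mem (mul_mem hσ hσ)), ← σσ]; group
  have mσ := mem_zpowers σ
  have zM : z ∈ zpowers σ := by
    obtain ⟨x, hx⟩ := r.iK
    have hx : k ^ x = i := hx
    have : k * k = (σ * σ)⁻¹ * (σ * σ)⁻¹ := by
      rw [ek, mul_assoc, ← mul_assoc _ z, c.zc _ (inv_mem (mul_mem hσ hσ)), ← mul_assoc, ← mul_assoc, c.zz, one_mul]
    rw [← r.ii, ← hx, ← (Commute.refl k).mul_zpow, this]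
    exact zpow_mem (mul_mem (inv_mem (mul_mem mσ mσ)) (inv_mem (mul_mem mσ mσ))) _
  have kM : zpowers k ≤ zpowers σ := zpowers_le.2 (ek ▸ mul_mem zM (inv_mem (mul_mem mσ mσ)))
  have un : ∀ a ∈ zpowers σ, u * a * u⁻¹ ∈ zpowers σ := cj_le_iff.1 (by
    rw [cj_zpowers, zpowers_le, uσ]; exact mul_mem zM (inv_mem mσ))
  have l : ∀ {a}, a ∈ zpowers σ → a ∈ zpowers σ ⊔ zpowers u := fun ha => mem_sup_left ha
  have ru : u ∈ zpowers σ ⊔ zpowers u := mem_sup_right (mem_zpowers u)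
  have MS : zpowers σ ⊔ zpowers u ≤ S := sup_le (zpowers_le.2 hσ) (zpowers_le.2 c.uS)
  have uσ2 : u * σ * (u * σ) = z := by
    calc _ = u * σ * u⁻¹ * σ := by rw [r.ui]; group
      _ = z := by rw [uσ]; group
  -- `R` normalises `M`
  have nR : ∀ x ∈ S, x * u = u * x → x ∈ normalizer ((zpowers σ ⊔ zpowers u : Subgroup G) : Set G) :=
    fun x hx xu => by
    refine mem_normalizer_of_cj_le ?_
    rw [cj_sup, cj_zpowers, cj_zpowers, xu, mul_inv_cancel_right, sup_le_iff, zpowers_le, zpowers_le]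
    refine ⟨?_, ru⟩
    have xf := c.cen x hx xu
    have h1 : x * σ * x⁻¹ * k = k * (x * σ * x⁻¹) := by
      calc _ = x * (σ * (x⁻¹ * k * x⁻¹⁻¹)) * x⁻¹ := by group
        _ = _ := by rw [cz σk (r.nk _ (inv_mem hx) k (mem_zpowers k))]; group
    have h2 : x * σ * x⁻¹ * f * (x * σ * x⁻¹)⁻¹ = z * f := by
      calc _ = x * (σ * (x⁻¹ * (f * x)) * σ⁻¹) * x⁻¹ := by group
        _ = x * z * f * x⁻¹ := by rw [← xf, inv_mul_cancel_left, σf, ← mul_assoc x]
        _ = z * f := by rw [c.zc x hx, mul_assoc z, xf]; group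
    have h3 : u * (x * σ * x⁻¹) * (u * (x * σ * x⁻¹)) = z := by
      have : u * (x * σ * x⁻¹) = x * (u * σ) * x⁻¹ := by rw [← mul_assoc, ← mul_assoc, ← xu]; group
      rw [this, conj_mul, uσ2, c.zc x hx, mul_inv_cancel_right]
    have h0 : x * σ * x⁻¹ ∈ S := mul_mem (mul_mem hx hσ) (inv_mem hx)
    generalize x * σ * x⁻¹ = τ at h0 h1 h2 h3 ⊢
    have σf' : σ⁻¹ * f * σ = z * f := by
      rw [← mul_right_inj z, ← mul_assoc z z, c.zz, one_mul, ← mul_assoc, ← mul_assoc, ← c.zc _ (inv_mem hσ),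
        mul_assoc σ⁻¹, ← σf]; group
    obtain ⟨a, ha, au⟩ := r.dec (mul_mem h0 (inv_mem hσ)) (mul_inv_eq_iff_eq_mul.1 (by
      calc τ * σ⁻¹ * f * (τ * σ⁻¹)⁻¹ = τ * (σ⁻¹ * f * σ) * τ⁻¹ := by group
        _ = z * (τ * f * τ⁻¹) := by rw [σf', ← mul_assoc, c.zc τ h0]; group
        _ = f := by rw [h2, ← mul_assoc, c.zz, one_mul]))
    have ak : a * (τ * σ⁻¹) * k = k * (a * (τ * σ⁻¹)) :=
      (Commute.mul_left (zcomm ha (mem_zpowers k)) (Commute.mul_left h1 (Commute.inv_left σk))).eq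
    have bad : ∀ b ∈ zpowers k, τ ≠ b * f * σ := fun b hb e1 => c.z1 (by
      rw [← h3, e1]
      calc u * (b * f * σ) * (u * (b * f * σ)) = (u * b * u⁻¹) * (u * f * u⁻¹) * (u * σ * u⁻¹) * (u * u)
            * b * f * σ := by group
        _ = b⁻¹ * f * z * (σ⁻¹ * b) * f * σ := by
          rw [r.uinv hb, ← fu c, mul_inv_cancel_right, uσ, c.uu]; group
        _ = b⁻¹ * (f * z * b) * (σ⁻¹ * f * σ) := by rw [cz (Commute.inv_left σk).eq hb]; group
        _ = 1 := by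
          rw [σf', mul_assoc f, ← c.zc b (r.kle hb), ← mul_assoc f, r.fa hb]
          calc _ = f * (z * z) * f := by group
            _ = 1 := by rw [c.zz, mul_one, c.ff])
    have e0 : τ = a⁻¹ * (a * (τ * σ⁻¹)) * σ := by group
    rcases r.memK (mul_mem (r.kle ha) (mul_mem h0 (inv_mem hσ))) au ak with h | h | h | h <;> rw [h] at e0
    · exact e0 ▸ l (mul_mem (mul_mem (inv_mem (kM ha)) (one_mem _)) mσ)
    · exact e0 ▸ l (mul_mem (mul_mem (inv_mem (kM ha)) zM) mσ)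
    · exact absurd e0 (bad _ (inv_mem ha))
    · exact absurd (e0.trans (by group)) (bad _ (mul_mem (inv_mem ha) r.zK))
  -- covering
  have cov : ∀ N : Subgroup G, zpowers σ ⊔ zpowers u ≤ N → S ⊓ Cx u ≤ N → S ≤ N := fun N h1 h2 => by
    have : ∀ s ∈ S, s * f = f * s → s ∈ N := fun s hs sf => by
      obtain ⟨a, ha, au⟩ := r.dec hs sf
      simpa using mul_mem (inv_mem (h1 (l (kM ha)))) (h2 ⟨mul_mem (r.kle ha) hs, mem_Cx.2 au⟩)
    intro s hs
    rcases r.conjf hs with h | h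
    · exact this s hs (mul_inv_eq_iff_eq_mul.1 h)
    · have h3 := this _ (mul_mem hs hσ) (mul_inv_eq_iff_eq_mul.1 (by
        calc s * σ * f * (s * σ)⁻¹ = s * (σ * f * σ⁻¹) * s⁻¹ := by group
          _ = z * (s * f * s⁻¹) := by rw [σf, ← mul_assoc, c.zc s hs]; group
          _ = f := by rw [h, ← mul_assoc, c.zz, one_mul]))
      simpa using mul_mem h3 (inv_mem (h1 (l mσ)))
  obtain ⟨x, hx, hcov⟩ := cyc (R := S ⊓ Cx u ⊓ Cx i) (c.syl.pgroup.to_le (inf_le_left.trans inf_le_left)) r.pk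
    ((inf_le_left.trans inf_le_left).trans r.nS) r.iK (r.ii ▸ c.z1) inf_le_right
  obtain ⟨p, hp, fp, xp⟩ : ∃ p ∈ S, f ∈ zpowers p ∧ x ∈ zpowers σ ⊔ zpowers u ⊔ zpowers p := by
    by_cases xk : x ∈ Cx k
    · refine ⟨f, c.fS, mem_zpowers f, ?_⟩
      rcases r.memK hx.1.1 (mem_Cx.1 hx.1.2) (mem_Cx.1 xk) with h | h | h | h <;> rw [h]
      exacts [one_mem _, mem_sup_left (l zM), mem_sup_right (mem_zpowers f),
        mul_mem (mem_sup_left (l zM)) (mem_sup_right (mem_zpowers f))]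
    · obtain ⟨n, hn⟩ := two_el c.syl.pgroup hx.1.1
      obtain ⟨m, h1, h2⟩ := exists_step hn xk
      have hy := pow_mem hx (2 ^ m)
      refine ⟨x, hx.1.1, ?_, mem_sup_right (mem_zpowers x)⟩
      rw [← r.root hy.1.1 (mem_Cx.1 hy.1.2) (mem_Cx.1 hy.2) (fun h => h1 (mem_Cx.2 h)) (mem_Cx.1 h2)]
      exact mul_mem (pow_mem (mem_zpowers x) _) (pow_mem (mem_zpowers x) _)
  refine fin c idx MS (cov _ le_normalizer fun x hx => nR x hx.1 (mem_Cx.1 hx.2)) hp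
    (cov _ le_sup_left fun y hy => ?_) fun a ha aa a1 => ?_
  · have key : ∀ y ∈ S ⊓ Cx u ⊓ Cx i, y ∈ zpowers σ ⊔ zpowers u ⊔ zpowers p := fun y hy => by
      obtain ⟨m, hm⟩ := hcov y hy
      have h1 := mul_mem hy (inv_mem (pow_mem hx m))
      have h2 : y * (x ^ m)⁻¹ ∈ zpowers σ ⊔ zpowers u ⊔ zpowers p := by
        rcases r.memK h1.1.1 (mem_Cx.1 h1.1.2) (mem_Cx.1 hm) with h | h | h | h <;> rw [h]
        exacts [one_mem _, mem_sup_left (l zM), mem_sup_right fp, mul_mem (mem_sup_left (l zM)) (mem_sup_right fp)]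
      simpa using mul_mem h2 (pow_mem xp m)
    rcases r.covi hy.1 with h | h
    · exact key y ⟨hy, mem_Cx.2 h⟩
    · simpa using mul_mem (key _ ⟨mul_mem hy ⟨c.uS, mem_Cx.2 rfl⟩, mem_Cx.2 h⟩) (inv_mem (mem_sup_left ru))
  · rcases (mem_sup_inv c.uu un).1 ha with h | h
    · obtain ⟨n, hn⟩ := two_el c.syl.pgroup hσ
      rcases lin hn h zM with h1 | h1
      · rw [(zp2 c.zz h1).resolve_left a1]
      · rw [(zp2 aa h1).resolve_left c.z1]
    · obtain ⟨m, hm⟩ := h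
      have hm : σ ^ m = a * u := hm
      have ea : a = σ ^ m * u := by rw [hm, mul_assoc, c.uu, mul_one]
      rcases Int.even_or_odd' m with ⟨j, h | h⟩
      · rw [ea, h, zpow_mul]
        refine r.invD (zpow_mem ?_ j)
        rw [zpow_ofNat, sq, show σ * σ = z * k⁻¹ by rw [← σσ]; group]
        exact mul_mem r.zK (inv_mem (mem_zpowers k))
      · refine absurd ?_ c.z1
        have e1 : u * σ ^ m * u⁻¹ = z * (σ ^ m)⁻¹ := by
          rw [← conj_zpow, uσ, (Commute.inv_right zσ.symm).mul_zpow, inv_zpow, h, zpow_add, zpow_mul, zpow_ofNat,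
            sq, c.zz]
          simp
        rw [← aa, ea]
        calc z = σ ^ m * (z * (σ ^ m)⁻¹) := by rw [← mul_assoc, c.zc _ (zpow_mem hσ m), mul_inv_cancel_right]
          _ = _ := by rw [← e1, r.ui]; group

/-- step (4) -/
theorem case4 (idx : ∀ M : Subgroup G, M.index ≠ 2) (h : ∀ s ∈ S, s * k = k * s → s * f = f * s) : False := by
  have c := r.c
  have l : ∀ {a}, a ∈ zpowers k → a ∈ zpowers k ⊔ zpowers u := fun ha => mem_sup_left ha
  have ru : u ∈ zpowers k ⊔ zpowers u := mem_sup_right (mem_zpowers u)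
  have Ck : ∀ s ∈ S, s * k = k * s → s ∈ zpowers k ∨ s * f ∈ zpowers k := fun s hs sk => by
    obtain ⟨a, ha, au⟩ := r.dec hs (h s hs sk)
    have e0 : s = a⁻¹ * (a * s) := by group
    rcases r.memK (mul_mem (r.kle ha) hs) au (Commute.mul_left (zcomm ha (mem_zpowers k)) sk).eq
      with h | h | h | h <;> rw [h] at e0
    · exact .inl (e0 ▸ mul_mem (inv_mem ha) (one_mem _))
    · exact .inl (e0 ▸ mul_mem (inv_mem ha) r.zK)
    · exact .inr (by rw [e0, mul_assoc, c.ff, mul_one]; exact inv_mem ha)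
    · exact .inr (by rw [e0, mul_assoc, mul_assoc, c.ff, mul_one]; exact mul_mem (inv_mem ha) r.zK)
  obtain ⟨p, hp, hcov⟩ := cyc (R := S ⊓ Cx i) (c.syl.pgroup.to_le inf_le_left) r.pk
    (inf_le_left.trans r.nS) r.iK (r.ii ▸ c.z1) inf_le_right
  have cov : ∀ N : Subgroup G, k ∈ N → u ∈ N → f ∈ N → p ∈ N → S ≤ N := fun N h1 h2 h3 h4 => by
    have key : ∀ y ∈ S ⊓ Cx i, y ∈ N := fun y hy => by
      obtain ⟨m, hm⟩ := hcov y hy
      have h5 : y * (p ^ m)⁻¹ ∈ N := by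
        rcases Ck _ (mul_mem hy.1 (inv_mem (pow_mem hp.1 m))) (mem_Cx.1 hm) with h | h
        · exact zpowers_le.2 h1 h
        · simpa using mul_mem (zpowers_le.2 h1 h) (inv_mem h3)
      simpa using mul_mem h5 (pow_mem h4 m)
    intro y hy
    rcases r.covi hy with h | h
    · exact key y ⟨hy, mem_Cx.2 h⟩
    · simpa using mul_mem (key _ ⟨mul_mem hy c.uS, mem_Cx.2 h⟩) (inv_mem h2)
  have pf : p ∉ Cx f := fun pf => fz c (c.uq f c.fS c.ff (f1 c)
    (cov _ (mem_Cx.2 r.fk.symm) (mem_Cx.2 (fu c).symm) (mem_Cx.2 rfl) pf))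
  have pf' := (r.conjf hp.1).resolve_left fun h => pf (mem_Cx'.2 h)
  have pk : p ∉ Cx k := fun pk => pf (mem_Cx.2 (h p hp.1 (mem_Cx.1 pk)))
  have rp : p ∈ zpowers k ⊔ zpowers u ⊔ zpowers p := mem_sup_right (mem_zpowers p)
  have fM : f ∈ zpowers k ⊔ zpowers u ⊔ zpowers p := by
    obtain ⟨n, hn⟩ := two_el c.syl.pgroup hp.1
    obtain ⟨m, h1, h2⟩ := exists_step hn pk
    rcases m with _ | m
    · rw [pow_zero, pow_one] at h2
      rcases Ck _ (mul_mem hp.1 hp.1) (mem_Cx.1 h2) with h3 | h3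
      swap
      · have := mul_mem (inv_mem (mul_mem rp rp)) (mem_sup_left (l h3))
        rwa [inv_mul_cancel_left] at this
      exfalso
      have pk' := (r.tw hp.1 (mem_Cx.1 hp.2) (mem_Cx.1 h2)).resolve_left fun h => pk (mem_Cx'.2 h)
      have act : ∀ m : ℤ, p * k ^ m * p⁻¹ = z ^ m * k ^ m := fun m => by
        rw [← conj_zpow, pk', (Commute.symm (c.zc k r.kS)).mul_zpow]
      have zo : ∀ m : ℤ, z ^ (2 * m + 1) = z := fun m => by
        rw [zpow_add, zpow_mul, zpow_ofNat, sq, c.zz]; simp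
      obtain ⟨a, ha⟩ := h3
      have ha : k ^ a = p * p := ha
      obtain ⟨b, hb⟩ := (r.Y _).1 ⟨p, hp.1, rfl⟩
      have hb : k ^ b = u * (p * u * p⁻¹) := hb
      have e1 : p * u * p⁻¹ = u * k ^ b := by rw [hb, ← mul_assoc, c.uu, one_mul]
      obtain ⟨a, rfl | rfl⟩ := Int.even_or_odd' a
      swap
      · have := act (2 * a + 1)
        rw [zo, ha, show p * (p * p) * p⁻¹ = p * p by group] at this
        exact c.z1 (mul_eq_right.1 this.symm)
      obtain ⟨b, rfl | rfl⟩ := Int.even_or_odd' b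
      · refine pf (mem_Cx.2 (r.evf hp.1 (zpow_mem (mem_zpowers k) b) ?_))
        calc _ = k ^ b * (p * u * p⁻¹) * (k ^ b)⁻¹ := by group
          _ = k ^ b * u * (k ^ b)⁻¹ * k ^ (2 * b) := by rw [e1]; group
          _ = u := by rw [r.cu (zpow_mem (mem_zpowers k) b)]; group
      have e2 : p * p * u * (p * p)⁻¹ = u * (k ^ (2 * b + 1) * (z * k ^ (2 * b + 1))) := by
        calc _ = p * (p * u * p⁻¹) * p⁻¹ := by group
          _ = p * u * p⁻¹ * (p * k ^ (2 * b + 1) * p⁻¹) := by rw [conj_mul, e1]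
          _ = _ := by rw [e1, act, zo, mul_assoc]
      rw [← ha, r.cu (zpow_mem (mem_zpowers k) _), mul_right_inj, ← mul_assoc,
        c.zc _ (zpow_mem r.kS _)] at e2
      have e3 : k ^ (2 * (a + b) + 1) * k ^ (2 * (a + b) + 1) = z := by
        rw [← mul_right_inj z, c.zz]
        calc _ = z * k ^ (2 * b + 1) * k ^ (2 * b + 1) * (k ^ (2 * a) * k ^ (2 * a)) := by group
          _ = 1 := by rw [← e2]; group
      have e4 := act (2 * (a + b) + 1)
      rw [zo] at e4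
      refine c.z1 (mul_eq_right.1 (e4.symm.trans (mul_inv_eq_iff_eq_mul.2 ?_)))
      rcases r.sqz (zpow_mem (mem_zpowers k) _) e3 with h4 | h4 <;> rw [h4]
      · exact mem_Cx.1 hp.2
      · rw [← mul_assoc, c.zc p hp.1, mul_assoc, mem_Cx.1 hp.2, mul_assoc]
    · have p2 : p * p ∈ Cx f := mem_Cx'.2 (by
        calc p * p * f * (p * p)⁻¹ = p * (p * f * p⁻¹) * p⁻¹ := by group
          _ = p * (z * f) * p⁻¹ := by rw [pf']
          _ = z * (p * f * p⁻¹) := by rw [← mul_assoc, c.zc p hp.1]; group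
          _ = f := by rw [pf', ← mul_assoc, c.zz, one_mul])
      have yf : p ^ 2 ^ (m + 1) ∈ Cx f := by
        rw [pow_succ', pow_mul, sq]; exact pow_mem p2 _
      have hy := pow_mem hp (2 ^ (m + 1))
      have yp := pow_mem rp (2 ^ (m + 1))
      generalize p ^ 2 ^ (m + 1) = y at h1 h2 yf hy yp
      obtain ⟨a, ha, au⟩ := r.dec hy.1 (mem_Cx.1 yf)
      have ak : a ∈ Cx k := mem_Cx.2 (zcomm ha (mem_zpowers k))
      have e1 : a * y * (a * y) = a * (y * a * y⁻¹) * (y * y) := by group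
      rw [← r.root (mul_mem (r.kle ha) hy.1) au
        (mem_Cx.1 (mul_mem (mem_Cx.2 (zcomm ha r.iK)) hy.2)) (fun h => h1 (by
          simpa using mul_mem (inv_mem ak) (mem_Cx.2 h)))
        (mem_Cx.1 (e1 ▸ mul_mem (mul_mem ak (mem_Cx.2 (zcomm (r.nk y hy.1 a ha) (mem_zpowers k)))) h2))]
      exact mul_mem (mul_mem (mem_sup_left (l ha)) yp) (mul_mem (mem_sup_left (l ha)) yp)
  refine fin c idx (sup_le (zpowers_le.2 r.kS) (zpowers_le.2 c.uS)) (fun s hs => mem_normalizer_of_cj_le ?_) hp.1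
    (cov _ (mem_sup_left (l (mem_zpowers k))) (mem_sup_left ru) fM rp) fun a ha aa a1 => ?_
  · rw [cj_sup, cj_zpowers, cj_zpowers, sup_le_iff, zpowers_le, zpowers_le]
    refine ⟨l (r.nk s hs k (mem_zpowers k)), ?_⟩
    have := mul_mem ru (l ((r.Y _).1 ⟨s, hs, rfl⟩))
    rwa [← mul_assoc, c.uu, one_mul] at this
  · rcases (mem_sup_inv c.uu (r.nk u c.uS)).1 ha with h | h
    · rw [(r.inv1 h aa).resolve_left a1]
    · have := r.invD h
      rwa [mul_assoc, c.uu, mul_one] at this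

end Fr

end Cf3

open Cf3 in
theorem CD.false (idx : ∀ M : Subgroup G, M.index ≠ 2) {f : G} (k : CD S z u f) : False := by
  obtain ⟨w, i, r⟩ := exists_fr k
  refine r.case4 idx fun s hs sk => ?_
  obtain ⟨a, ha, h | h⟩ := r.par hs
  · exact r.evf hs ha h
  exfalso
  have h0 := mul_mem (r.kle ha) hs
  have h1 : a * s * w = w * (a * s) := (Commute.mul_left (zcomm ha (mem_zpowers w)) sk).eq
  generalize a * s = σ at h h0 h1
  have σf := r.oddf h0 h
  have fx : σ * (σ * σ * w) * σ⁻¹ = σ * σ * w := by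
    rw [mul_inv_eq_iff_eq_mul, mul_assoc (σ * σ), ← h1]; group
  rcases r.memK (a := σ * σ * w) (mul_mem (mul_mem h0 h0) r.kS) (mul_inv_eq_iff_eq_mul.1 (by
      calc σ * σ * w * u * (σ * σ * w)⁻¹ = σ * (σ * (w * u * w⁻¹) * σ⁻¹) * σ⁻¹ := by group
        _ = σ * (σ * u * σ⁻¹ * (σ * (w⁻¹ * w⁻¹) * σ⁻¹)) * σ⁻¹ := by rw [r.cu (mem_zpowers w), conj_mul]
        _ = σ * (u * w⁻¹) * σ⁻¹ := by
          rw [h, cz h1 (mul_mem (inv_mem (mem_zpowers w)) (inv_mem (mem_zpowers w)))]; group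
        _ = σ * u * σ⁻¹ * (σ * w⁻¹ * σ⁻¹) := by group
        _ = u := by rw [h, cz h1 (inv_mem (mem_zpowers w))]; group))
      (Commute.mul_left (Commute.mul_left h1 h1) (Commute.refl w)).eq with e | e | e | e
  · refine r.case3 idx (mul_mem h0 k.fS) (Commute.mul_left h1 r.fk).eq (by
      rw [← h, mul_assoc σ, fu k]; group) ?_
    have e1 : σ * σ = w⁻¹ := eq_inv_of_mul_eq_one_left e
    calc σ * f * (σ * f) * w = σ * f * σ⁻¹ * (σ * σ) * (f * w) := by group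
      _ = z * (f * f) := by rw [σf, e1, r.fk]; group
      _ = z := by rw [k.ff, mul_one]
  · exact r.case3 idx h0 h1 h e
  · rw [e, σf] at fx; exact r.zf_ne fx
  · rw [e, ← mul_assoc, k.zc σ h0, mul_assoc, mul_assoc, ← mul_assoc σ, σf, mul_right_inj] at fx
    exact r.zf_ne fx

end CfsgLib.Rk3B
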