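import Cfsg.Agent.Lib.Rk3B.Cf2
import Cfsg.Agent.Lib.Rk3B.Cf3

/-!
The basic configuration  (plans/RK3B.md, package CF1)
-/

set_option autoImplicit false

namespace CfsgLib.Rk3B

open Subgroup Cfsg CfsgLib.Tech CfsgLib.W2 CfsgLib.Rk3

variable {G : Type*} [Group G] [Finite G] {S : Subgroup G} {z u g e : G}

theorem cf1_normal {R : Subgroup G} (c : MX R z u) (h : Hy G) (hS : IsSylowIn 2 S ⊤) (Sz : S ≤ Cx z) (RS : R ≤ S)
    (uq : ∀ a ∈ S, a * a = 1 → a ≠ 1 → S ≤ Cx a → a = z)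
    (hP : IsSylowIn 2 (S ⊓ normalizer (R : Set G)) (normalizer (R : Set G)))
    (h2 : R.relIndex (S ⊓ normalizer (R : Set G)) = 2) {n : G} (hn : n ∈ normalizer (R : Set G))
    (nz : n * z * n⁻¹ ≠ z) : S ≤ normalizer (R : Set G) := by
  by_contra hlt
  have hR := c.eq_inf hS.pgroup RS Sz
  generalize hPd : S ⊓ normalizer (R : Set G) = P at hP h2
  have PS : P ≤ S := hPd ▸ inf_le_left
  have RP : R ≤ P := hPd ▸ le_inf RS le_normalizer
  obtain ⟨s, sS, sP, sN, ss⟩ : ∃ s ∈ S, s ∉ P ∧ s ∈ normalizer (P : Set G) ∧ s * s ∈ P := by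
    classical
    obtain ⟨s, sS, sP, sN⟩ := exists_mem_normalizer_of_lt hS.pgroup
      (PS.lt_of_ne fun e => hlt (e.ge.trans hP.le))
    obtain ⟨k, hk⟩ := isPGroup_iff_mem.1 hS.pgroup s sS
    have ex : ∃ k, s ^ 2 ^ k ∈ P := ⟨k, hk ▸ one_mem P⟩
    obtain e | ⟨j, e⟩ := (Nat.find ex).eq_zero_or_eq_succ_pred.imp_right fun e => (⟨_, e⟩ : ∃ n, _ = n + 1)
    · exact absurd (by simpa [e] using Nat.find_spec ex) sP
    · exact ⟨s ^ 2 ^ j, pow_mem sS _, Nat.find_min ex (by omega), pow_mem sN _, by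
        rw [← pow_two, ← pow_mul, ← pow_succ, ← e]; exact Nat.find_spec ex⟩
  have sR : s ∉ normalizer (R : Set G) := fun e => sP (hPd ▸ ⟨sS, e⟩)
  have five : ∀ {A : Subgroup G}, El A → z ∈ A → P ≤ normalizer (A : Set G) → s ∈ normalizer (A : Set G) →
      n ∉ normalizer (A : Set G) := fun el zA h3 h4 h5 => by
    have h6 : P ⊔ zpowers s ≤ S := sup_le PS (zpowers_le.2 sS)
    refine nz (c.five h.rk el zA (hS.pgroup.to_le h6) (h6.trans Sz) (sup_le h3 (zpowers_le.2 h4)) ?_ h5)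
    have h7 := card_mul_relIndex' RP
    have h8 := card_mul_relIndex' (le_sup_left : P ≤ P ⊔ zpowers s)
    have h9 : P.relIndex (P ⊔ zpowers s) ≠ 1 := fun e => sP (relIndex_eq_one.1 e (mem_sup_right (mem_zpowers s)))
    have h0 : P.relIndex (P ⊔ zpowers s) ≠ 0 := index_ne_zero_of_finite
    rw [h2] at h7
    rw [← h8, ← h7]
    nlinarith [show 2 ≤ P.relIndex (P ⊔ zpowers s) by omega]
  have two : ∀ {a b : G}, a ∈ P → b ∈ P → a ∉ R → b ∉ R → a * b ∈ R := fun ha hb h3 h4 =>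
    (idx2_mul h2 ha hb).2 (iff_of_false h3 h4)
  have cP : ∀ {x}, x ∈ P → s * x * s⁻¹ ∈ P := conj_mem_of_mem_normalizer sN
  have cP' : ∀ {x}, x ∈ P → s⁻¹ * x * s ∈ P := conj_mem_of_mem_normalizer' sN
  obtain ⟨y, hy, yY⟩ : ∃ y ∈ Zc R, s * y * s⁻¹ ∉ Zc R := by
    by_contra! e
    exact five (el_Zc R) c.zY (hP.le.trans (norm_Zc R)) (mem_normalizer_of_forall e) (norm_Zc R hn)
  have yy : s * y * s⁻¹ * (s * y * s⁻¹) = 1 := by rw [conj_mul, hy.2.1]; simp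
  by_cases yR : s * y * s⁻¹ ∈ R
  · have yc := fun a (ha : a ∈ Zc R) => Zc_comm yR ha
    have yn : ∀ a ∈ Zc R, s * y * s⁻¹ * a * (s * y * s⁻¹)⁻¹ ∈ Zc R := fun a ha => by
      rwa [yc a ha, mul_inv_cancel_right]
    have elA := (el_Zc R).sup_inv yy yc
    have h8 := elA.card_le h.rk
    have cA := card_sup_inv yy yn yY
    have sz := mem_Cx'.1 (Sz sS)
    have y1 : y ≠ 1 := fun e => yY (by simp [e])
    have yz : y ≠ z := fun e => yY (by rw [e, sz]; exact c.zY)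
    have hY := (el_Zc R).eq_V2 (by omega) c.zY hy c.z1 y1 yz
    have h3 : ∀ x ∈ P, Cz z x (s * y * s⁻¹) := fun x hx => by
      have e : x * (s * y * s⁻¹) * x⁻¹ = s * (s⁻¹ * x * s * y * (s⁻¹ * x * s)⁻¹) * s⁻¹ := by group
      rcases (el_Zc R).four (by omega) c.zY hy c.z1 y1 yz (Zc_conj (hP.le (cP' hx)) hy) with e' | e' | e' | e'
      · exact absurd (conj_eq_one_iff.1 e') y1
      · exact absurd ((MulAut.conj _).injective (e'.trans (mem_Cx'.1 (Sz (PS (cP' hx)))).symm)) yz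
      · exact Or.inl (by rw [e, e'])
      · exact Or.inr (by rw [e, e', ← conj_mul, sz])
    have AR : Zc R ⊔ zpowers (s * y * s⁻¹) ≤ R := sup_le (Zc_le R) (zpowers_le.2 yR)
    have h4 : ∀ x ∈ R, ∀ a ∈ Zc R ⊔ zpowers (s * y * s⁻¹), Cz z a x := fun x hx a ha => by
      rcases (mem_sup_inv yy yn).1 ha with e | e
      · exact Or.inl (by rw [← Zc_comm hx e, mul_inv_cancel_right])
      · rw [← mul_one a, ← yy, ← mul_assoc]
        exact Cz.mul c.zz (mem_Cx.1 (c.Rz e.1)) (Or.inl (by rw [← Zc_comm hx e, mul_inv_cancel_right]))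
          ((h3 x (RP hx)).symm c.zz (mem_Cx.1 (c.Rz yR)))
    refine five elA (mem_sup_left c.zY) (fun x hx => mem_normalizer_of_cj_le ?_) (mem_normalizer_of_cj_le ?_)
      (mem_normalizer_of_forall fun a ha => elA.mem_of_comm h.rk (by
        rw [cA, hY, card_V2 c.zz hy.2.1 (Zc_comm c.zY.1 hy) c.z1 y1 yz])
        (by rw [conj_mul, elA a ha]; simp) fun b hb => ?_)
    · rw [cj_sup, cj_zpowers, mem_normalizer_iff_cj.1 (norm_Zc R (hP.le hx))]
      refine sup_le le_sup_left (zpowers_le.2 ?_)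
      rcases h3 x hx with e | e <;> rw [e]
      exacts [mem_sup_right (mem_zpowers _), mul_mem_sup c.zY (mem_zpowers _)]
    · rw [cj_sup, cj_zpowers]
      refine sup_le ?_ (zpowers_le.2 (mem_sup_left ?_))
      · conv_lhs => rw [hY, cj_V2, sz]
        exact V2_le.2 ⟨mem_sup_left c.zY, mem_sup_right (mem_zpowers _)⟩
      · convert Zc_conj (hP.le ss) hy using 1; group
    · have h5 := conj_mem_of_mem_normalizer hn (AR ha)
      rcases (h4 _ h5 b hb).symm c.zz (mem_Cx.1 (c.Rz h5)) with e | e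
      · exact mul_inv_eq_iff_eq_mul.1 e
      · rcases h4 _ (conj_mem_of_mem_normalizer' hn (AR hb)) a ha with e' | e' <;>
          replace e' := congrArg (MulAut.conj n) e'
        · exact absurd (mul_eq_right.1 (e.symm.trans (by simpa [mul_assoc] using e'))) c.z1
        · exact absurd (mul_right_cancel (e.symm.trans (by simpa [mul_assoc] using e'))).symm nz
  subst hPd
  have cb : CB S R z u n s y := ⟨c, hS, Sz, RS, uq, h2, hn, nz, sS, sR, sN, ss.2, hy, yR⟩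
  obtain ⟨f, hf⟩ := cb.cd h
  exact hf.false h.idx

theorem Hy.exists_cfg (h : Hy G) (ev : Even (Nat.card G))
    (hu : ∀ S : Subgroup G, IsSylowIn 2 S ⊤ → ∀ a ∈ S, ∀ b ∈ S, a * a = 1 → b * b = 1 → a ≠ 1 →
      b ≠ 1 → S ≤ Cx a → S ≤ Cx b → a = b) :
    ∃ (S : Subgroup G) (z u g : G), Cfg S z u g := by
  obtain ⟨R, z, u, c⟩ : ∃ (R : Subgroup G) (z u : G), MX R z u := by
    obtain ⟨S, hS⟩ := exists_isSylowIn 2 (⊤ : Subgroup G)
    obtain ⟨z, -, h1, h2⟩ := exists_mem_center_of_normalized hS.pgroup le_rfl le_normalizer fun e =>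
      hS.not_dvd (by rw [e, relIndex_bot_left, card_top]; exact ev.two_dvd)
    obtain ⟨g, h3, h4⟩ : ∃ g, Commute z (g * z * g⁻¹) ∧ g * z * g⁻¹ ≠ z := by
      by_contra! e
      exact h.zst z ⟨h1, e⟩
    obtain ⟨R, ⟨h5, a, b, ha, hb, ab, e, h6, h7⟩, mx⟩ := Set.exists_max_image {X : Subgroup G | IsPGroup 2 X ∧
      ∃ a b, IsConj z a ∧ IsConj z b ∧ a ≠ b ∧ a * b = b * a ∧ X ≤ Cx a ∧ X ≤ Cx b} (fun X => Nat.card X)
      (Set.toFinite _) ⟨⊥, IsPGroup.of_bot, z, _, IsConj.refl z, isConj_iff.2 ⟨g, rfl⟩, h4.symm, h3, bot_le, bot_le⟩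
    obtain ⟨k, rfl⟩ := isConj_iff.1 ha
    exact ⟨R, _, b, by rw [conj_mul, sq_of_ord h1]; simp, mt conj_eq_one_iff.1 (ne_one_of_ord h1), ha.symm.trans hb,
      ab.symm, e, h5, h6, h7, ⟨_, hS.cj_of_mem (mem_top k), cj_Cx k z ▸ cj_mono k fun s hs => mem_Cx.2 (h2 s hs)⟩,
      fun X hX a b h8 h9 ab e h10 h11 => mx X ⟨hX, a, b, ha.trans h8, ha.trans h9, ab, e, h10, h11⟩⟩
  obtain ⟨n, hn, nz⟩ : ∃ n ∈ normalizer (R : Set G), n * z * n⁻¹ ≠ z := by
    obtain ⟨T, hT, RT⟩ := exists_isSylowIn_ge c.pg c.Ru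
    obtain ⟨n, h1, h2⟩ := SetLike.exists_of_lt (c.symm.lt hu hT RT)
    exact ⟨n, h1.2, fun e => h2 ((c.symm.eq_inf hT.pgroup RT hT.le).le ⟨h1.1, mem_Cx'.2 e⟩)⟩
  obtain ⟨P, hP, RP⟩ := exists_isSylowIn_ge c.pg (le_inf le_normalizer c.Rz)
  obtain ⟨S, hS, PS⟩ := exists_isSylowIn_ge hP.pgroup (hP.le.trans inf_le_right)
  have RS := RP.trans PS
  obtain rfl : S ⊓ normalizer (R : Set G) = P := hP.eq_of_le (hS.pgroup.to_le inf_le_left)
    (le_inf PS (hP.le.trans inf_le_left)) (le_inf inf_le_right (inf_le_left.trans hS.le))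
  have lt := c.lt hu hS RS
  have hP' : IsSylowIn 2 (S ⊓ normalizer (R : Set G)) (normalizer (R : Set G)) :=
    isSylowIn_of_isSylowIn_normalizer inf_le_right (hP.of_le (le_inf inf_le_right le_normalizer)
      (inf_le_inf_left _ fun x hx => mem_Cx'.2 (by_contra fun e => by
        have h1 : S ⊓ normalizer (R : Set G) ≤ Cx (x * z * x⁻¹) := by
          rw [← cj_Cx, ← mem_normalizer_iff_cj.1 hx]; exact cj_mono x (PS.trans hS.le)
        exact lt.not_ge (c.le hP.pgroup RP (IsConj.refl z) (isConj_iff.2 ⟨x, rfl⟩) (Ne.symm e)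
          (mem_Cx.1 (h1 (RP c.zY.1))) (PS.trans hS.le) h1))))
  have h2 : R.relIndex (S ⊓ normalizer (R : Set G)) = 2 := by
    have h1 := card_mul_relIndex' RP
    have h3 := mt (fun e => c.five h.rk (el_Zc R) c.zY hP.pgroup (PS.trans hS.le) (hP'.le.trans (norm_Zc R)) e
      (norm_Zc R hn)) nz
    obtain ⟨k, hk⟩ := hP.pgroup.exists_card_eq
    obtain ⟨j, -, hj⟩ := (Nat.dvd_prime_pow Nat.prime_two).1 (hk ▸ Dvd.intro_left _ h1)
    have h4 : j ≠ 0 := fun e => lt.not_ge (relIndex_eq_one.1 (by rw [hj, e, pow_zero]))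
    have h5 : j < 2 := (Nat.pow_lt_pow_iff_right (a := 2) (by norm_num)).1 (hj ▸ by
      by_contra! e
      exact h3 (by rw [← h1, mul_comm]; exact Nat.mul_le_mul_left _ e))
    rw [hj, show j = 1 by omega, pow_one]
  have hS' := c.syl hS
  have SN := cf1_normal c h hS' hS.le RS (fun a ha aa a1 Sa =>
    hu S hS' a ha z (RS c.zY.1) aa c.zz a1 c.z1 Sa hS.le) hP' h2 hn nz
  rw [inf_eq_left.2 SN] at h2 lt
  have hR := c.eq_inf hS.pgroup RS hS.le
  obtain ⟨s, sS, sR⟩ := SetLike.exists_of_lt lt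
  have fx : ∀ y ∈ Zc R, s * y * s⁻¹ = y → y = 1 ∨ y = z := fun y hy e => or_iff_not_imp_left.2 fun y1 =>
    hu S hS' y (RS hy.1) z (RS c.zY.1) hy.2.1 c.zz y1 c.z1 (fun x hx => by
      by_cases hx' : x ∈ R
      · exact hy.2.2 hx'
      · exact (mul_mem_cancel_right (mem_Cx'.2 e)).1 (hy.2.2 ((idx2_mul h2 hx sS).2 (iff_of_false hx' sR)))) hS.le
  have mv : ∀ y ∈ Zc R, y ≠ 1 → y ≠ z → s * y * s⁻¹ = z * y := fun y hy y1 yz => by
    have h1 := Zc_conj (SN sS) hy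
    rcases fx _ (mul_mem h1 hy) (by
      rw [← conj_mul, (el_Zc R).comm h1 hy, show s * (s * y * s⁻¹) * s⁻¹ = s * s * y * (s * s)⁻¹ by group,
        Zc_comm ((idx2_mul h2 sS sS).2 Iff.rfl) hy, mul_inv_cancel_right]) with e | e
    · exact ((fx y hy ((eq_inv_of_mul_eq_one_left e).trans (inv_eq_of_mul_eq_one_right hy.2.1))).elim y1 yz).elim
    · rw [← e, mul_assoc _ y y, hy.2.1, mul_one]
  have su := mv u c.uY c.u1 c.uz
  have sz := mem_Cx'.1 (hS.le sS)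
  have memY : ∀ y ∈ Zc R, y = 1 ∨ y = z ∨ y = u ∨ y = z * u := fun y hy =>
    or_iff_not_imp_left.2 fun y1 => or_iff_not_imp_left.2 fun yz => (fx _ (mul_mem hy c.uY) (by
      rw [← conj_mul, mv y hy y1 yz, su, mul_assoc, ← mul_assoc y, Zc_comm hy.1 c.zY, ← mul_assoc, ← mul_assoc, c.zz,
        one_mul])).imp (fun e => (eq_inv_of_mul_eq_one_left e).trans (inv_eq_of_mul_eq_one_right c.uu))
      fun e => by rw [← e, mul_assoc, c.uu, mul_one]
  obtain ⟨n, hn, nz⟩ : ∃ n ∈ normalizer (R : Set G), n * z * n⁻¹ = u := by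
    rcases memY _ (Zc_conj hn c.zY) with e | e | e | e
    · exact absurd (conj_eq_one_iff.1 e) c.z1
    · exact absurd e nz
    · exact ⟨n, hn, e⟩
    · refine ⟨s * n, mul_mem (SN sS) hn, ?_⟩
      rw [show s * n * z * (s * n)⁻¹ = s * (n * z * n⁻¹) * s⁻¹ by group, e, ← conj_mul, sz, su, ← mul_assoc, c.zz,
        one_mul]
  obtain ⟨g, hg, gz, gu⟩ : ∃ g ∈ normalizer (R : Set G), g * z * g⁻¹ = u ∧ g * u * g⁻¹ = z * u := by
    rcases memY _ (Zc_conj hn c.uY) with e | e | e | e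
    · exact absurd (conj_eq_one_iff.1 e) c.u1
    · refine ⟨n * s, mul_mem hn (SN sS), ?_, ?_⟩
      · rw [show n * s * z * (n * s)⁻¹ = n * (s * z * s⁻¹) * n⁻¹ by group, sz, nz]
      · rw [show n * s * u * (n * s)⁻¹ = n * (s * u * s⁻¹) * n⁻¹ by group, su, ← conj_mul, nz, e, c.zu]
    · exact absurd ((MulAut.conj n).injective (e.trans nz.symm)) c.uz
    · exact ⟨n, hn, nz, e⟩
  refine ⟨S, z, u, g, hS', c.zz, c.uu, c.z1, c.u1, c.uz, RS c.zY.1, RS c.uY.1, fun s hs => mem_Cx.1 (hS.le hs),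
    fun x hx => or_iff_not_imp_left.2 fun e => ?_, ⟨s, sS, su⟩, by
      rw [hR]
      exact fun y hy yy e => (mem_V2 c.zz c.uu c.zu).2 (memY y ⟨hy, yy, fun t ht => mem_Cx.2 (e t ht)⟩),
    hR ▸ hg, gz, gu⟩
  have h1 := (idx2_mul h2 hx (inv_mem sS)).2 (iff_of_false (fun e' => e (Zc_comm e' c.uY)) (mt inv_mem_iff.1 sR))
  rw [show x * u * x⁻¹ = x * s⁻¹ * (s * u * s⁻¹) * (x * s⁻¹)⁻¹ by group, su, Zc_comm h1 (mul_mem c.zY c.uY),
    mul_inv_cancel_right]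

end CfsgLib.Rk3B
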