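import Cfsg.Agent.Lib.Rk3B.Od
import Cfsg.Agent.Lib.ONStd.Main

/-!
Identification of the O'Nan group  (plans/RK3B.md, package FIN)
-/

set_option autoImplicit false

namespace CfsgLib.Rk3B

open Subgroup Cfsg CfsgLib.Tech CfsgLib.W2 CfsgLib.Rk3

variable {G : Type*} [Group G] [Finite G] {S : Subgroup G} {z u g e : G}

namespace FIN

omit [Finite G] in
theorem ord4 {i z : G} (ii : i * i = z) (zz : z * z = 1) (z1 : z ≠ 1) : orderOf i = 4 :=
  orderOf_eq_prime_pow (p := 2) (n := 1) (by rwa [pow_one, sq, ii])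
    (by rw [show 2 ^ (1 + 1) = 2 * 2 by rfl, pow_mul, sq i, ii, sq, zz])

theorem uniq {i z x : G} (ii : i * i = z) (zz : z * z = 1) (z1 : z ≠ 1) (hx : x ∈ zpowers i)
    (xx : x * x = 1) (x1 : x ≠ 1) : x = z := by
  classical
  have o4 := ord4 ii zz z1
  obtain ⟨n, hn, rfl⟩ : ∃ n < 4, i ^ n = x := by
    simpa [o4] using mem_zpowers_iff_mem_range_orderOf.1 hx
  have := orderOf_dvd_of_pow_eq_one (show i ^ (n + n) = 1 by rw [pow_add, xx])
  rw [o4] at this
  obtain rfl | rfl : n = 0 ∨ n = 2 := by omega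
  · exact absurd (pow_zero i) x1
  · rw [sq, ii]

theorem std {i z : G} {L : Subgroup G} (ii : i * i = z) (zz : z * z = 1) (z1 : z ≠ 1)
    (hz : ∀ k ∈ Cx z, k * i * k⁻¹ = i ∨ k * i * k⁻¹ = i⁻¹)
    (hq : IsQuasisimple L) (hC : centralizer (L : Set G) = zpowers i)
    (hN : normalizer (Cx i : Set G) ≤ normalizer (L : Set G)) : IsStandardSubgroup L := by
  have n0 : ∀ H : Subgroup G, normalizer (H : Set G) ≤ normalizer (centralizer (H : Set G) : Set G) :=
    fun H k hk => mem_normalizer_iff_cj.2 (by rw [cj_centralizer, mem_normalizer_iff_cj.1 hk])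
  have n1 : ∀ k ∈ Cx z, k ∈ normalizer (zpowers i : Set G) := fun k hk => mem_normalizer_iff_cj.2 (by
    rw [cj_zpowers]
    rcases hz k hk with h | h <;> rw [h]
    exact zpowers_inv)
  refine ⟨hq, hC ▸ ⟨?_, fun k hk => ?_⟩, fun k _ h => ?_, le_antisymm (n0 L) ?_⟩
  · rw [Nat.card_zpowers, ord4 ii zz z1]; decide
  · rw [← Nat.not_even_iff_odd]
    intro h
    obtain ⟨⟨x, x0⟩, hx⟩ := exists_prime_orderOf_dvd_card' 2 h.two_dvd
    rw [orderOf_mk, orderOf_eq_prime_iff, sq] at hx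
    obtain ⟨x1, x2⟩ := mem_inf.1 x0
    obtain rfl := uniq ii zz z1 x1 hx.1 hx.2
    have e := uniq ii zz z1 (mem_cj.1 x2) (by
      calc _ = k⁻¹ * (x * x) * k := by group
        _ = 1 := by rw [zz]; group) fun e => z1 (by
      calc _ = k * (k⁻¹ * x * k) * k⁻¹ := by group
        _ = 1 := by rw [e]; group)
    exact hk (by simpa using inv_mem (n1 k⁻¹ (mem_Cx'.2 (by rwa [inv_inv]))))
  · rw [commutator_comm, commutator_eq_bot_iff_le_centralizer, hC] at h
    haveI := Comp.qs_nontrivial hq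
    have h1 : _root_.commutator L = ⊥ := by
      rw [commutator_eq_bot_iff_center_eq_top, eq_top_iff]
      intro x _
      refine mem_center_iff.2 fun y => Subtype.ext ?_
      obtain ⟨m, hm⟩ := h (conj_mem_cj.2 x.2 : k * x * k⁻¹ ∈ cj k L)
      obtain ⟨n, hn⟩ := h (conj_mem_cj.2 y.2 : k * y * k⁻¹ ∈ cj k L)
      have : k * y * k⁻¹ * (k * x * k⁻¹) = k * x * k⁻¹ * (k * y * k⁻¹) := by
        rw [← hm, ← hn]; exact zpow_mul_comm _ _ _
      rw [conj_mul, conj_mul] at this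
      simpa using this
    exact bot_ne_top (h1.symm.trans hq.1.commutator_eq_top)
  · rw [hC]
    refine le_trans ?_ hN
    have := n0 (zpowers i)
    rwa [Core.centralizer_zpowers] at this

end FIN

theorem ONG.isoON [IsSimpleGroup G] (hG : ¬ IsMulCommutative G) (rk : PRankLE 2 3 G)
    {w : ZMod 4 → ZMod 4 → ZMod 4 → G} {t s r ρ : G} (o : ONG S z u g e w t s r ρ) (hO : PComp.opOf 2 (Cx z) = ⊥) :
    Cfsg.Spor.IsoON G := by
  have c := o.q.c
  obtain ⟨w', t', s', ρ', σ', hw, -, -, k⟩ := o.onk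
  have ii : w 0 1 2 * w 0 1 2 = z := by rw [o.wr.mul, ← o.ez]; rfl
  have hO' : pPrimeCore 2 (Cx (w 0 1 2)) = ⊥ := by
    rw [← PComp.opOf_subgroupOf, eq_bot_iff.2 ((o.oK rk).trans hO.le), bot_subgroupOf]
  obtain ⟨L', hL'⟩ : ∃ L', L' = pElementClosure 2 (⊤ : Subgroup (Cx (w 0 1 2))) := ⟨_, rfl⟩
  obtain ⟨q1, q2, q3, F, _, _, hF, ⟨ε⟩⟩ := k.fn hO' hL'
  obtain ⟨L, hL⟩ : ∃ L, L = L'.map (Cx (w 0 1 2)).subtype := ⟨_, rfl⟩
  have φ : L' ≃* L := hL ▸ L'.equivMapOfInjective _ (subtype_injective _)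
  have iL : w 0 1 2 ∈ L := hL ▸ ⟨_, q3, hw 0 1 2⟩
  have hC : centralizer (L : Set G) = zpowers (w 0 1 2) := by
    apply le_antisymm
    · intro x hx
      have xK : x ∈ Cx (w 0 1 2) := mem_Cx.2 (hx _ iL).symm
      have : (⟨x, xK⟩ : Cx _) ∈ centralizer (L' : Set (Cx (w 0 1 2))) :=
        fun y hy => Subtype.ext (hx _ (hL ▸ ⟨y, hy, rfl⟩))
      rw [q2] at this
      obtain ⟨n, hn⟩ := this
      exact ⟨n, by rw [← hw]; exact congrArg Subtype.val hn⟩
    · rw [zpowers_le, hL]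
      rintro _ ⟨y, -, rfl⟩
      exact mem_Cx.1 y.2
  have hP : L = pElementClosure 2 (Cx (w 0 1 2)) := by
    rw [hL, hL']
    exact le_antisymm ((PComp.map_pec_le _ _).trans (PComp.pec_mono (map_subtype_le _)))
      (PComp.pec_le_iff.2 fun x hx k hk => ⟨⟨x, hx⟩, PComp.mem_pec trivial (by rwa [orderOf_mk]), rfl⟩)
  have hS := FIN.std ii c.zz c.z1 (fun k hk => by
    obtain ⟨d, hd, h⟩ := o.zs rk hk
    rw [hO, mem_bot] at hd
    simpa only [hd, one_mul] using h) (Comp.qs_of_mulEquiv q1 φ) hC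
    (hP ▸ PComp.normalizer_le_normalizer_pec _)
  have hZ : center L = zpowers ⟨_, iL⟩ := by
    apply le_antisymm
    · intro x hx
      obtain ⟨n, hn⟩ : (x : G) ∈ zpowers (w 0 1 2) :=
        hC ▸ fun y hy => congrArg Subtype.val (mem_center_iff.1 hx ⟨y, hy⟩)
      exact ⟨n, Subtype.ext hn⟩
    · rw [zpowers_le]
      exact mem_center_iff.2 fun y => Subtype.ext ((hC ▸ mem_zpowers _ :
        w 0 1 2 ∈ centralizer (L : Set G)) y y.2)
  exact ONStd.recog_std hG hS (hZ ▸ inferInstance)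
    (by rw [hZ, Nat.card_zpowers, orderOf_mk, FIN.ord4 ii c.zz c.z1]) hF
    ((Classical.centerQuotEquiv φ.symm).trans ε)

end CfsgLib.Rk3B
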