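import Cfsg.Agent.Lib.Rk3B.G3
import Cfsg.Agent.Lib.Rk3.B0

/-!
An invariant normal subgroup of order eight  (plans/RK3B.md, package GI)
-/

set_option autoImplicit false

namespace CfsgLib.Rk3B

open Subgroup Cfsg CfsgLib.Tech CfsgLib.W2 CfsgLib.Rk3

variable {G : Type*} [Group G] [Finite G] {S : Subgroup G} {z u g e : G}

theorem gi_core (rk : PRankLE 2 3 G) {T U : Subgroup G} [hT : T.Normal] [U.Normal] (pT : IsPGroup 2 T) {s : G}
    (zz : z * z = 1) (uu : u * u = 1) (z1 : z ≠ 1) (u1 : u ≠ 1) (uz : u ≠ z) (hU : U = V2 z u) (UT : U ≤ T)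
    (cU : ∀ t ∈ T, ∀ y ∈ U, t * y = y * t) (gz : g * z * g⁻¹ = u) (gu : g * u * g⁻¹ = z * u) {k : ℕ}
    (hk : g ^ 3 ^ k = 1) (n : N0 T U e) (se : s * e * s⁻¹ * e ∈ U) (sg : s * g * s⁻¹ * g ∈ T) :
    ∃ f, N0 T U f ∧ g * f * g⁻¹ * f ∈ U ∧ s * f * s⁻¹ * f ∈ U := by
  have zU : z ∈ U := hU ▸ l_V2 z u
  have uU : u ∈ U := hU ▸ r_V2 z u
  have zu := cU z (UT zU) u uU
  have elU : El U := hU ▸ el_V2 zz uu zu
  obtain ⟨π, hπ⟩ : ∃ π : G →* G ⧸ U, ∀ x, π x = 1 ↔ x ∈ U := ⟨QuotientGroup.mk' U, QuotientGroup.eq_one_iff⟩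
  have cjN : ∀ x v, N0 T U v → N0 T U (x * v * x⁻¹) := fun x v h =>
    ⟨hT.conj_mem _ h.eT x, by rw [conj_mul, h.ee]; simp, fun h1 => h.nU (by
      simpa [mul_assoc] using Normal.conj_mem inferInstance _ h1 x⁻¹), fun t ht => by
      have := Normal.conj_mem inferInstance _ (h.nm _ (hT.conj_mem _ ht x⁻¹)) x
      rwa [Rk3.cm_conj, show x * (x⁻¹ * t * x⁻¹⁻¹) * x⁻¹ = t by group] at this⟩
  have sqN : ∀ {v}, N0 T U v → π v * π v = 1 := fun h => by rw [← map_mul, h.ee, map_one]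
  have eqN : ∀ {v w}, N0 T U v → (w * v ∈ U ↔ π w = π v) := fun h => by
    rw [← hπ, map_mul, mul_eq_one_iff_eq_inv, inv_eq_of_mul_eq_one_right (sqN h)]
  have cN : ∀ {v t}, N0 T U v → t ∈ T → Commute (π t) (π v) := fun h ht => by
    have := (eqN h).1 (h.nm _ ht)
    rwa [map_mul, map_mul, map_inv, mul_inv_eq_iff_eq_mul] at this
  have two : ∀ {v w}, N0 T U v → N0 T U w → w * v = v * w → π w = π v := fun h h' e => (eqN h).1 (hU ▸
    (e16 rk zz uu h.ee h'.ee zu (cU _ h.eT z zU) (cU _ h.eT u uU) (cU _ h'.eT z zU) (cU _ h'.eT u uU) e z1 u1 uz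
      (hU ▸ h.nU)).resolve_left (hU ▸ h'.nU))
  have prod : ∀ {a b c}, N0 T U a → N0 T U b → N0 T U c → π (a * b * c) = 1 → b * a = a * b := fun {a b c} ha hb hc h => by
    have h1 := (hπ _).1 h
    have h2 := elU _ h1
    nth_rw 1 [show a * b * c = a * b * c * (a * b) * (a * b)⁻¹ by group] at h2
    rw [← cU _ (mul_mem ha.eT hb.eT) _ h1] at h2
    have h3 : a * b * (a * b) = 1 := by
      rw [← h2, show a * b * (a * b * c) * (a * b)⁻¹ * (a * b * c) = a * b * (a * b) * (c * c) by group, hc.ee, mul_one]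
    rw [eq_inv_of_mul_eq_one_left h3, mul_inv_rev, inv_eq_of_mul_eq_one_right ha.ee, inv_eq_of_mul_eq_one_right hb.ee]
  have step : ∀ (m : ℕ) (θ : G), θ ∈ zpowers (g ^ 3) → θ ^ 3 ^ m = 1 → ∀ v, N0 T U v → π (θ * v * θ⁻¹) = π v := by
    intro m
    induction m with
    | zero => intro θ _ h v _; rw [pow_zero, pow_one] at h; simp [h]
    | succ m ih =>
      intro θ hθ h v hv
      have h3 := ih (θ ^ 3) (pow_mem hθ 3) (by rwa [← pow_mul, ← pow_succ'])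
      have θg : g * θ = θ * g := by
        obtain ⟨j, rfl⟩ := hθ
        exact ((Commute.self_pow g 3).zpow_right j).eq
      let W : G → Prop := fun x => x ∈ T ∧ π x * π x = 1 ∧ ∀ t ∈ T, Commute (π t) (π x)
      have cW : ∀ x y, W y → W (x * y * x⁻¹) := fun x y h => ⟨hT.conj_mem _ h.1 x, by
        rw [← map_mul, conj_mul, map_mul, map_mul, map_mul, h.2.1]; simp, fun t ht => by
        have := (h.2.2 _ (hT.conj_mem _ ht x⁻¹)).map (MulAut.conj (π x))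
        simpa [mul_assoc] using this⟩
      have mW : ∀ {x y}, W x → W y → W (x * y) := fun hx hy => ⟨mul_mem hx.1 hy.1, by
        rw [map_mul, (hx.2.2 _ hy.1).mul_mul_mul_comm, hx.2.1, hy.2.1, mul_one], fun t ht => by
        rw [map_mul]; exact (hx.2.2 t ht).mul_right (hy.2.2 t ht)⟩
      have iW : ∀ {x}, W x → π x⁻¹ = π x := fun h => by rw [map_inv, inv_eq_of_mul_eq_one_right h.2.1]
      have nW : ∀ {x}, N0 T U x → W x := fun h => ⟨h.eT, sqN h, fun t ht => cN h ht⟩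
      let K : Subgroup G :=
        { carrier := {x | W x ∧ π x * π (θ * x * θ⁻¹) * π (θ * (θ * x * θ⁻¹) * θ⁻¹) = 1}
          one_mem' := ⟨⟨one_mem _, by simp, fun t _ => by simp⟩, by simp⟩
          mul_mem' := fun {x y} hx hy => ⟨mW hx.1 hy.1, by
            rw [← conj_mul, ← conj_mul, map_mul π x, map_mul π (θ * x * θ⁻¹), map_mul π (θ * (θ * x * θ⁻¹) * θ⁻¹),
              ((cW θ x hx.1).2.2 _ hy.1.1).mul_mul_mul_comm, ← map_mul π y,
              ((cW θ _ (cW θ x hx.1)).2.2 _ (mul_mem hy.1.1 (cW θ y hy.1).1)).mul_mul_mul_comm, hx.2, map_mul π y,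
              hy.2, mul_one]⟩
          inv_mem' := fun {x} hx => ⟨⟨inv_mem hx.1.1, by rw [iW hx.1]; exact hx.1.2.1, fun t ht => by
            rw [iW hx.1]; exact hx.1.2.2 t ht⟩, by
            rw [← conj_inv, ← conj_inv, iW hx.1, iW (cW θ x hx.1), iW (cW θ _ (cW θ x hx.1))]; exact hx.2⟩ }
      have UK : U ≤ K := fun y hy => by
        have h1 := (hπ y).2 hy
        exact ⟨⟨UT hy, by rw [h1, mul_one], fun t _ => by rw [h1]; exact Commute.one_right _⟩, by simp [h1]⟩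
      have KT : K ≤ T := fun x hx => hx.1.1
      have three : ∀ {x}, x ∈ K → π (θ * x * θ⁻¹) = π x → x ∈ U := fun {x} hx h1 => by
        have h2 := hx.2
        have h4 : π (θ * (θ * x * θ⁻¹) * θ⁻¹) = π x := by
          rw [map_mul _ (θ * (θ * x * θ⁻¹)), map_mul _ θ (θ * x * θ⁻¹), h1, ← map_mul, ← map_mul, h1]
        rwa [h4, h1, hx.1.2.1, one_mul, hπ] at h2
      have hl := l9 (pT.to_le KT) (UK zU) (UK uU) zz uu z1 u1 uz (fun a ha => mem_Cx.2 (cU a (KT ha) z zU))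
        (fun a ha => mem_Cx.2 (cU a (KT ha) u uU)) (fun a ha aa => hU ▸ by_contra fun h1 => by
          have na : N0 T U a := ⟨ha.1.1, aa, h1, fun t ht => (hπ _).1 (by
            rw [map_mul, map_mul, map_mul, (ha.1.2.2 t ht).eq, map_inv, mul_inv_cancel_right, ha.1.2.1])⟩
          exact h1 (three ha (two na (cjN θ a na) (prod na (cjN θ a na) (cjN θ _ (cjN θ a na))
            (by rw [map_mul, map_mul]; exact ha.2)))))
        (mem_normalizer_of_forall fun x hx => ⟨cW g x hx.1, by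
          have e1 : ∀ y, θ * (g * y * g⁻¹) * θ⁻¹ = g * (θ * y * θ⁻¹) * g⁻¹ := fun y => by
            calc _ = θ * g * y * (θ * g)⁻¹ := by group
              _ = _ := by rw [← θg]; group
          rw [e1, e1, ← map_mul, ← map_mul, conj_mul, conj_mul, map_mul, map_mul, map_mul, map_mul, hx.2]
          simp⟩) gz gu hk
      have v1 := cjN θ v hv
      have xK : θ * v * θ⁻¹ * v ∈ K := ⟨mW (nW v1) (nW hv), by
        have h4 := h3 v hv
        rw [show θ ^ 3 * v * (θ ^ 3)⁻¹ = θ * (θ * (θ * v * θ⁻¹) * θ⁻¹) * θ⁻¹ by simp [pow_succ, mul_assoc]] at h4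
        have v2 := cjN θ _ v1
        have e1 : θ * (θ * v * θ⁻¹ * v) * θ⁻¹ = θ * (θ * v * θ⁻¹) * θ⁻¹ * (θ * v * θ⁻¹) := conj_mul.symm
        have e2 : θ * (θ * (θ * v * θ⁻¹) * θ⁻¹ * (θ * v * θ⁻¹)) * θ⁻¹ =
          θ * (θ * (θ * v * θ⁻¹) * θ⁻¹) * θ⁻¹ * (θ * (θ * v * θ⁻¹) * θ⁻¹) := conj_mul.symm
        rw [e1, e2]
        generalize θ * (θ * (θ * v * θ⁻¹) * θ⁻¹) * θ⁻¹ = v3 at h4 ⊢
        generalize θ * (θ * v * θ⁻¹) * θ⁻¹ = b at v2 ⊢
        generalize θ * v * θ⁻¹ = a at v1 ⊢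
        rw [map_mul, map_mul, map_mul, h4, (cN hv v1.eT).eq, ← (cN v2 v1.eT).eq, mul_assoc (π v), ← mul_assoc (π a),
          sqN v1, one_mul, (cN v2 hv.eT).eq, mul_assoc, ← mul_assoc (π v), (cN v2 hv.eT).eq, mul_assoc,
          sqN hv, mul_one, sqN v2]⟩
      refine (eqN hv).1 (three xK ?_)
      obtain ⟨j, rfl⟩ := hθ
      rw [(Commute.zpow_left (hl _ xK) j).eq, mul_inv_cancel_right]
  have n1 := cjN g e n
  have n2 := cjN g _ n1
  by_cases h1 : π (g * e * g⁻¹) = π e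
  · exact ⟨e, n, (eqN n).2 h1, se⟩
  have h3 := step k (g ^ 3) (mem_zpowers _) (by rw [← pow_mul, mul_comm, pow_mul, hk, one_pow]) e n
  rw [show g ^ 3 * e * (g ^ 3)⁻¹ = g * (g * (g * e * g⁻¹) * g⁻¹) * g⁻¹ by simp [pow_succ, mul_assoc]] at h3
  obtain ⟨a, ha⟩ : ∃ a, a = g * e * g⁻¹ := ⟨_, rfl⟩
  obtain ⟨b, hb⟩ : ∃ b, b = g * a * g⁻¹ := ⟨_, rfl⟩
  rw [← ha] at n1 n2 h1 h3
  rw [← hb] at n2 h3
  have c0 : cm a e ≠ 1 := fun h => h1 (two n n1 ((cm_eq_one n.ee).1 h))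
  have c1 : cm b a = g * cm a e * g⁻¹ := by rw [Rk3.cm_conj, ← ha, ← hb]
  have c2 : cm e b = g * (g * cm a e * g⁻¹) * g⁻¹ := by
    have n3 := cjN g _ n2
    have h4 := (eqN n).2 h3
    have h5 := cm_adj (elU _ h4) (cU _ n2.eT _ h4) (cU _ n.eT _ h4)
    rw [mul_assoc _ e e, n.ee, mul_one] at h5
    rw [← c1, Rk3.cm_conj, ← hb, ← cm_inv n3.ee n2.ee, h5, cm_inv n.ee n2.ee]
  have c3 : cm a e * cm b a * cm e b = 1 := by
    have gzu : g * (z * u) * g⁻¹ = z := by rw [← conj_mul, gz, gu, zu, ← mul_assoc, uu, one_mul]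
    rw [c1, c2]
    rcases (mem_V2 zz uu zu).1 (hU ▸ n.nm a n1.eT) with h | h | h | h
    · exact absurd h c0
    · rw [h, gz, gu, elU _ (mul_mem zU uU)]
    · rw [h, gu, gzu, zu, ← mul_assoc, uu, one_mul, zz]
    · rw [h, gzu, gz, mul_assoc, elU _ (mul_mem zU uU)]
  have ff : e * a * b * (e * a * b) = 1 := by
    have k1 := conj_of_cm n.ee (rfl : cm a e = _)
    have k2 := conj_of_cm n1.ee (rfl : cm b a = _)
    have k3 := conj_of_cm n2.ee (rfl : cm e b = _)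
    have m1 := n.nm a n1.eT
    have m2 := n1.nm b n2.eT
    have m3 := n2.nm e n.eT
    generalize cm a e = x at *
    generalize cm b a = y at *
    generalize cm e b = w at *
    calc _ = e * a * (e * e) * b * e * a * b := by rw [n.ee]; group
      _ = e * (a * e * a⁻¹) * a * (e⁻¹ * e) * (e * b * e⁻¹) * (e * e) * (b * b) * a * b := by rw [n2.ee]; group
      _ = e * x * e * a * w * (b * a * b⁻¹) * (b * b) := by rw [k1, k3, n.ee]; nth_rw 1 [n2.ee]; group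
      _ = x * (e * e) * (a * w) * y * a := by rw [k2, cU _ n.eT _ m1, n2.ee]; group
      _ = x * (w * y) * (a * a) := by rw [n.ee, cU _ n1.eT _ m3, mul_assoc _ (w * a), mul_assoc w, cU _ n1.eT _ m2]; group
      _ = 1 := by rw [n1.ee, elU.comm m3 m2, mul_one, ← mul_assoc, c3]
  have nf : N0 T U (e * a * b) := ⟨mul_mem (mul_mem n.eT n1.eT) n2.eT, ff,
    fun h => h1 (two n n1 (prod n n1 n2 ((hπ _).2 h))), fun t ht => (hπ _).1 (by
      have := ((cN n ht).mul_right (cN n1 ht)).mul_right (cN n2 ht)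
      rw [← map_mul, ← map_mul] at this
      rw [map_mul, map_mul, map_mul, this.eq, map_inv, mul_inv_cancel_right, ← map_mul, ff, map_one])⟩
  refine ⟨_, nf, (eqN nf).2 ?_, (eqN nf).2 ?_⟩
  · rw [← conj_mul, ← conj_mul, ← ha, ← hb, map_mul, h3, map_mul, ← (((cN n n1.eT).mul_left (cN n n2.eT)).symm).eq,
      map_mul, map_mul, mul_assoc]
  · have e0 := (eqN n).1 se
    have hs : ∀ v, N0 T U v → π (s * (g * v * g⁻¹) * s⁻¹) = (π g)⁻¹ * π (s * v * s⁻¹) * π g := fun v hv => by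
      have h4 := cN (cjN g⁻¹ _ (cjN s v hv)) sg
      rw [show s * (g * v * g⁻¹) * s⁻¹ = s * g * s⁻¹ * g * (g⁻¹ * (s * v * s⁻¹) * g⁻¹⁻¹) * (s * g * s⁻¹ * g)⁻¹ by group,
        map_mul, map_mul, h4.eq, map_inv, mul_inv_cancel_right]
      simp
    have e1 : π (s * a * s⁻¹) = π b := by rw [ha, hs e n, e0, ← h3]; simp [mul_assoc]
    have e2 : π (s * b * s⁻¹) = π a := by rw [hb, hs a n1, e1, hb]; simp [mul_assoc]
    rw [← conj_mul, ← conj_mul, map_mul, map_mul, e0, e1, e2, mul_assoc, (cN n1 n2.eT).eq, map_mul, map_mul, mul_assoc]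

theorem exists_Q (rk : PRankLE 2 3 G) (c : Cfg S z u g) (n : NE S z u e) : ∃ g' e', Q S z u g' e' := by
  obtain ⟨s, sS, su⟩ := c.out
  obtain ⟨h1, h2, h3⟩ := cfg_delta c sS su
  obtain ⟨m, k, hk⟩ := exists_three (s * (g * s * g⁻¹))
  have c' := cfg_three c h1 h2 h3 m
  have SN : S ≤ normalizer ((S ⊓ Cx u : Subgroup G) : Set G) := fun x hx => mem_normalizer_of_forall fun _ => c.conj_T hx
  obtain ⟨N, hN⟩ : ∃ N, N = normalizer ((S ⊓ Cx u : Subgroup G) : Set G) := ⟨_, rfl⟩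
  rw [← hN] at h1 SN
  have gN : g ∈ N := hN ▸ c.gT
  have hT : ((S ⊓ Cx u).subgroupOf N).Normal := ⟨fun x hx y =>
    conj_mem_of_mem_normalizer (g := (y : G)) (x := (x : G)) (hN.le y.2) hx⟩
  have hU : ((V2 z u).subgroupOf N).Normal := ⟨fun x hx y => by
    have h4 := conj_mem_of_mem_normalizer (hN.le y.2) (c.U_le hx)
    refine c.om _ h4 (conj_mul.trans (by rw [c.elU x hx]; simp)) fun t ht => ?_
    have := congrArg (MulAut.conj (y : G)) (c.cU (conj_mem_of_mem_normalizer' (hN.le y.2) ht) hx)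
    simpa [mul_assoc] using this⟩
  have sg : (⟨s, SN sS⟩ * ⟨_, h1⟩ ^ (3 * m + 1) * ⟨s, SN sS⟩⁻¹ * ⟨_, h1⟩ ^ (3 * m + 1) : N) ∈ (S ⊓ Cx u).subgroupOf N := by
    have ss : (⟨s, SN sS⟩ * ⟨s, SN sS⟩ : N) ∈ (S ⊓ Cx u).subgroupOf N := c.mul_mem_T sS sS su su
    have h4 := hT.conj_mem _ ss ⟨g, gN⟩
    rw [show (⟨_, h1⟩ : N) = ⟨s, SN sS⟩ * (⟨g, gN⟩ * ⟨s, SN sS⟩ * ⟨g, gN⟩⁻¹) from rfl]
    rw [← conj_mul] at h4
    rw [← QuotientGroup.eq_one_iff] at ss h4 ⊢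
    simp only [QuotientGroup.mk_mul, QuotientGroup.mk_inv, QuotientGroup.mk_pow] at ss h4 ⊢
    rw [← conj_pow, ← mul_assoc _ _ (_ * _ * _), ss, one_mul, ← inv_eq_of_mul_eq_one_right h4, ← mul_inv_rev,
      inv_eq_of_mul_eq_one_right h4, inv_pow, inv_mul_cancel]
  obtain ⟨f, nf, h4, h5⟩ := gi_core (G := N) (T := (S ⊓ Cx u).subgroupOf N) (U := (V2 z u).subgroupOf N)
    (z := ⟨z, SN c.zS⟩) (u := ⟨u, SN c.uS⟩) (g := ⟨_, h1⟩ ^ (3 * m + 1)) (e := ⟨e, SN n.eS⟩) (s := ⟨s, SN sS⟩) (k := k)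
    (fun A hA h2 => by
      rw [← card_map_of_injective N.subtype_injective]
      exact El.card_le rk (by rintro _ ⟨a, ha, rfl⟩; exact congrArg Subtype.val ((sq a).symm.trans (h2 a ha))))
    ((c.syl.pgroup.to_le inf_le_left).comap_subtype) (Subtype.ext c.zz) (Subtype.ext c.uu)
    (fun h => c.z1 (congrArg Subtype.val h)) (fun h => c.u1 (congrArg Subtype.val h))
    (fun h => c.uz (congrArg Subtype.val h)) (by
      ext x
      rw [mem_subgroupOf, c.mem_U, mem_V2 (Subtype.ext c.zz) (Subtype.ext c.uu) (Subtype.ext c.zu)]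
      simp only [Subtype.ext_iff, coe_mul, coe_one])
    (fun x hx => c.U_le hx) (fun t ht y hy => Subtype.ext (c.cU ht hy)) (Subtype.ext c'.gz) (Subtype.ext c'.gu)
    (Subtype.ext hk) ⟨n.eT, Subtype.ext n.ee, n.nU, fun t ht => n.nm t ht.1⟩ (n.nm s sS) sg
  have nf' : NE S z u f := ⟨nf.eT.1, congrArg Subtype.val nf.ee, mem_Cx.1 nf.eT.2, nf.nU, fun x hx => by
    rcases c.su x hx with h | h
    · exact nf.nm ⟨x, SN hx⟩ ⟨hx, mem_Cx.2 h⟩
    · have h6 := c.mul_mem_T (inv_mem sS) hx (by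
        rw [inv_inv, mul_assoc, inv_mul_eq_iff_eq_mul, ← mul_assoc, c.zc s sS, mul_assoc z,
          mul_inv_eq_iff_eq_mul.1 su, ← mul_assoc, ← mul_assoc, c.zz, one_mul]) h
      have : s * (s⁻¹ * x * f * (s⁻¹ * x)⁻¹ * f) * s⁻¹ * (s * f * s⁻¹ * f) ∈ V2 z u :=
        mul_mem (c.conj_U sS (nf.nm ⟨_, SN h6.1⟩ h6)) h5
      have ff : (f : G) * f = 1 := congrArg Subtype.val nf.ee
      convert this using 1
      rw [show s * (s⁻¹ * x * f * (s⁻¹ * x)⁻¹ * f) * s⁻¹ * (s * f * s⁻¹ * f) =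
        x * f * x⁻¹ * s * (f * f) * s⁻¹ * f by group, ff]
      group⟩
  obtain ⟨e', -, q, -⟩ := exists_q rk c' nf' h4 hk
  exact ⟨_, _, q⟩

end CfsgLib.Rk3B
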