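import Cfsg.Agent.Lib.Rk3B.C1

/-!
The case `C = A`  (plans/RK3B.md, package INV)
-/

set_option autoImplicit false
set_option linter.unusedSectionVars false

namespace CfsgLib.Rk3B

open Subgroup Cfsg CfsgLib.Tech CfsgLib.W2 CfsgLib.Rk3

variable {G : Type*} [Group G] [Finite G] {S : Subgroup G} {z u g e : G}

namespace InvP

/-- the abelian subgroup `J` of index two in `T` inverted by `e` -/
structure JD (S : Subgroup G) (z u e : G) (J : Subgroup G) (x : G) : Prop where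
  le : J ≤ S ⊓ Cx u
  ab : ∀ a ∈ J, ∀ b ∈ J, a * b = b * a
  inv : ∀ a ∈ J, e * a * e = a⁻¹
  U : V2 z u ≤ J
  cov : ∀ t ∈ S ⊓ Cx u, t ∈ J ∨ t * e ∈ J
  xJ : x ∈ J
  xx : x * x = u
  nm : ∀ s ∈ S, ∀ a ∈ J, s * a * s⁻¹ ∈ J

variable (q : Q S z u g e)
include q

theorem memA (hC : ¬ Bg S z u e) {t : G} (ht : t ∈ S ⊓ Cx u) (h : cm t e = 1) : t ∈ V3 z u e := by
  by_contra hA
  exact hC ⟨t, ⟨ht, mem_Cx.2 ((cm_eq_one q.n.ee).1 h)⟩, hA⟩

theorem cm_inv' {t : G} (ht : t ∈ S ⊓ Cx u) : cm t⁻¹ e = cm t e := by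
  have h1 := q.n.cm_mul q.c (inv_mem ht) ht
  rw [inv_mul_cancel, (cm_eq_one q.n.ee).2 (by simp)] at h1
  rw [eq_inv_of_mul_eq_one_left h1.symm, inv_eq_of_mul_eq_one_right (q.c.elU _ (q.n.nm t ht.1))]

theorem cm_U {y : G} (hy : y ∈ V2 z u) : cm y e = 1 :=
  (cm_eq_one q.n.ee).2 (q.c.cU q.n.eT hy).symm

theorem exists_t (h : Hy G) (hC : ¬ Bg S z u e) (hT : ∀ s ∈ S, s * s = 1 → s * u = u * s) :
    ∃ t ∈ S ⊓ Cx u, t * t = 1 ∧ cm t e = u := by
  obtain ⟨t, ht, tt, t1⟩ : ∃ t ∈ S ⊓ Cx u, t * t = 1 ∧ cm t e ≠ 1 := by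
    by_contra hn
    push Not at hn
    refine h.gold S (V3 z u e) q.c.syl (fun e1 => q.c.z1 (mem_bot.1 (e1 ▸ V2_le_V3 z u e (l_V2 _ _))))
      (q.n.elE q.c) ⟨fun a ha => (q.A_le ha).1.1, fun a ha x hx => ?_⟩
    have aa : x * a * x⁻¹ * (x * a * x⁻¹) = 1 := by rw [conj_mul, q.n.elE q.c a ha]; simp
    have hT' : x * a * x⁻¹ ∈ S ⊓ Cx u := ⟨hx, mem_Cx.2 (hT _ hx aa)⟩
    exact memA q hC hT' (hn _ hT' aa)
  have nx : ∀ t ∈ S ⊓ Cx u, t * t = 1 → g * t * g⁻¹ ∈ S ⊓ Cx u ∧ g * t * g⁻¹ * (g * t * g⁻¹) = 1 :=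
    fun t ht tt => ⟨conj_mem_of_mem_normalizer q.c.gT ht, by rw [conj_mul, tt]; simp⟩
  obtain ⟨h1, h2⟩ := nx t ht tt
  obtain ⟨h3, h4⟩ := nx _ h1 h2
  rcases q.c.mem_U.1 (q.n.nm t ht.1) with e1 | e1 | e1 | e1
  · exact absurd e1 t1
  · exact ⟨_, h1, h2, by rw [q.cm_g, show cm t e = z from e1, q.c.gz]⟩
  · exact ⟨t, ht, tt, e1⟩
  · exact ⟨_, h3, h4, by rw [q.cm_g, q.cm_g, show cm t e = z * u from e1, q.c.gzu, q.c.gz]⟩

theorem exists_J (h : Hy G) (hC : ¬ Bg S z u e) (hT : ∀ s ∈ S, s * s = 1 → s * u = u * s) :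
    ∃ J x, JD S z u e J x := by
  obtain ⟨t1, h1, t11, c1⟩ := exists_t q h hC hT
  have c := q.c
  have n := q.n
  obtain ⟨t2, ht2⟩ : ∃ t, t = g * t1 * g⁻¹ := ⟨_, rfl⟩
  obtain ⟨t0, ht0⟩ : ∃ t, t = g * t2 * g⁻¹ := ⟨_, rfl⟩
  have h2 : t2 ∈ S ⊓ Cx u := ht2 ▸ conj_mem_of_mem_normalizer c.gT h1
  have h0 : t0 ∈ S ⊓ Cx u := ht0 ▸ conj_mem_of_mem_normalizer c.gT h2
  have t22 : t2 * t2 = 1 := by rw [ht2, conj_mul, t11]; simp
  have t00 : t0 * t0 = 1 := by rw [ht0, conj_mul, t22]; simp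
  have c2 : cm t2 e = z * u := by rw [ht2, q.cm_g, c1, c.gu]
  have c0 : cm t0 e = z := by rw [ht0, q.cm_g, c2, c.gzu]
  have uzu : u * (z * u) = z := by rw [← mul_assoc, ← c.zu, mul_assoc, c.uu, mul_one]
  have c12 : cm (t1 * t2) e = z := by rw [n.cm_mul c h1 h2, c1, c2, uzu]
  have i0 : t0⁻¹ = t0 := inv_eq_of_mul_eq_one_right t00
  have i1 : t1⁻¹ = t1 := inv_eq_of_mul_eq_one_right t11
  have i2 : t2⁻¹ = t2 := inv_eq_of_mul_eq_one_right t22
  have ie : e⁻¹ = e := inv_eq_of_mul_eq_one_right n.ee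
  -- `(t1 t2)² = z`
  have sq : t1 * t2 * (t1 * t2) = z := by
    have hA : t0 * (t1 * t2) ∈ V3 z u e := memA q hC (mul_mem h0 (mul_mem h1 h2)) (by
      rw [n.cm_mul c h0 (mul_mem h1 h2), c0, c12, c.zz])
    obtain ⟨a, ha⟩ : ∃ a, t0 * (t1 * t2) = a := ⟨_, rfl⟩
    rw [ha] at hA
    have e1 : t1 * t2 = t0 * a := by rw [← ha, ← mul_assoc, t00, one_mul]
    rcases (n.mem_E c).1 hA with h3 | h3
    · exfalso
      have e2 : t1 * t2 * (t1 * t2) = 1 := by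
        rw [e1, mul_assoc, ← mul_assoc a, ← c.cU h0 h3, ← mul_assoc, ← mul_assoc, t00, one_mul, c.elU a h3]
      have e3 : t2 * t1 = t1 * t2 := by
        rw [eq_inv_of_mul_eq_one_left e2, mul_inv_rev, i1, i2]
      rcases e16 h.rk c.zz c.uu t11 t22 c.zu (c.zc _ h1.1) (mem_Cx.1 h1.2) (c.zc _ h2.1) (mem_Cx.1 h2.2) e3
        c.z1 c.u1 c.uz (fun h4 => c.u1 (by rw [← c1, cm_U q h4])) with h4 | h4
      · exact c.zu_ne_one (by rw [← c2, cm_U q h4])
      · exact c.z1 (by rw [← c12, ← e3, cm_U q h4])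
    · rw [← c0, ← n.cm_of_mem c h0 h3, e1]
      simp only [cm, i0, mul_assoc]
  have s12 : t1 * t2 = z * (t2 * t1) := by
    rw [← sq, mul_assoc, mul_assoc t1 t2 (t2 * t1), ← mul_assoc t2, t22, one_mul, t11, mul_one]
  have x1 : t1 * e * (t1 * e) = u := by rw [← c1]; simp only [cm, i1, mul_assoc]
  have x2 : t2 * e * (t2 * e) = z * u := by rw [← c2]; simp only [cm, i2, mul_assoc]
  have m1 : t1 * e ∈ S ⊓ Cx u := mul_mem h1 n.eT
  have m2 : t2 * e ∈ S ⊓ Cx u := mul_mem h2 n.eT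
  have x12 : t1 * e * (t2 * e) = t2 * e * (t1 * e) := by
    have a1 : e * t2 * e = t2 * (z * u) := by rw [← x2]; simp only [← mul_assoc, t22, one_mul]
    have a2 : e * t1 * e = t1 * u := by rw [← x1]; simp only [← mul_assoc, t11, one_mul]
    calc t1 * e * (t2 * e) = t1 * (e * t2 * e) := by group
      _ = t1 * t2 * z * u := by rw [a1]; group
      _ = z * (t2 * t1 * z) * u := by rw [s12]; group
      _ = z * (z * (t2 * t1)) * u := by rw [c.zc _ (mul_mem h2.1 h1.1)]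
      _ = t2 * (t1 * u) := by rw [← mul_assoc z, c.zz]; group
      _ = t2 * e * (t1 * e) := by rw [← a2]; group
  set J : Subgroup G := closure {t1 * e, t2 * e} with hJ
  have j1 : t1 * e ∈ J := subset_closure (by simp)
  have j2 : t2 * e ∈ J := subset_closure (by simp)
  have JT : J ≤ S ⊓ Cx u := V2_le.2 ⟨m1, m2⟩
  have ab : ∀ a ∈ J, ∀ b ∈ J, a * b = b * a := fun a ha b hb =>
    (closure_le_centralizer_centralizer _ ha b ((closure_le (centralizer _)).2 (by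
      rintro x (rfl | rfl) y (rfl | rfl) <;> simp [x12]) hb)).symm
  have inv : ∀ a ∈ J, e * a * e = a⁻¹ := fun a ha => by
    induction ha using closure_induction with
    | mem x hx =>
      rcases hx with rfl | rfl
      · rw [mul_inv_rev, ie, i1, mul_assoc, mul_assoc, n.ee, mul_one]
      · rw [mul_inv_rev, ie, i2, mul_assoc, mul_assoc, n.ee, mul_one]
    | one => simpa using n.ee
    | mul x y hx hy a b =>
      rw [mul_inv_rev, ← ab _ (inv_mem hx) _ (inv_mem hy), ← a, ← b]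
      calc e * (x * y) * e = e * x * (e * e) * y * e := by rw [n.ee]; group
        _ = _ := by group
    | inv x hx a =>
      calc e * x⁻¹ * e = (e * x * e)⁻¹ := by rw [mul_inv_rev, mul_inv_rev, ie, mul_assoc]
        _ = _ := by rw [a]
  have uJ : u ∈ J := x1 ▸ mul_mem j1 j1
  have UJ : V2 z u ≤ J := V2_le.2 ⟨by
    have := mul_mem uJ (mul_mem j2 j2); rwa [x2, uzu] at this, uJ⟩
  have ce : cm e e = 1 := (cm_eq_one n.ee).2 rfl
  have d1 : cm (t1 * e) e = u := by rw [n.cm_mul c h1 n.eT, c1, ce, mul_one]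
  have d2 : cm (t2 * e) e = z * u := by rw [n.cm_mul c h2 n.eT, c2, ce, mul_one]
  have cov : ∀ t ∈ S ⊓ Cx u, t ∈ J ∨ t * e ∈ J := fun t ht => by
    obtain ⟨j, hj, e1⟩ : ∃ j ∈ J, cm j e = cm t e := by
      rcases c.mem_U.1 (n.nm t ht.1) with e1 | e1 | e1 | e1
      · exact ⟨1, one_mem _, by rw [show cm t e = 1 from e1]; exact (cm_eq_one n.ee).2 (by simp)⟩
      · exact ⟨_, mul_mem j1 j2, by rw [n.cm_mul c m1 m2, d1, d2, uzu]; exact e1.symm⟩
      · exact ⟨_, j1, d1.trans e1.symm⟩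
      · exact ⟨_, j2, d2.trans e1.symm⟩
    have hA := memA q hC (mul_mem (JT (inv_mem hj)) ht) (by
      rw [n.cm_mul c (JT (inv_mem hj)) ht, cm_inv' q (JT hj), e1]; exact c.elU _ (n.nm t ht.1))
    rcases (n.mem_E c).1 hA with h3 | h3
    · exact .inl (by simpa using mul_mem hj (UJ h3))
    · exact .inr (by simpa [mul_assoc] using mul_mem hj (UJ h3))
  have big : ∀ t ∈ S ⊓ Cx u, t * t ≠ 1 → t ∈ J := fun t ht tt => (cov t ht).resolve_right fun h3 => tt (by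
    have := inv _ h3
    rw [mul_assoc, mul_assoc, n.ee, mul_one, mul_inv_rev, ie] at this
    exact mul_eq_one_iff_eq_inv.2 (mul_left_cancel this))
  refine ⟨J, t1 * e, JT, ab, inv, UJ, cov, j1, x1, fun s hs => cj_le_iff.1 ?_⟩
  rw [hJ, show closure {t1 * e, t2 * e} = V2 (t1 * e) (t2 * e) from rfl, cj_V2, V2_le]
  constructor
  · refine big _ (c.conj_T hs m1) fun h3 => c.u1 ?_
    rw [conj_mul, x1] at h3; simpa using h3
  · refine big _ (c.conj_T hs m2) fun h3 => c.zu_ne_one ?_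
    rw [conj_mul, x2] at h3; simpa using h3

variable {J : Subgroup G} {x : G} (k : JD S z u e J x)
include k

theorem cm_J {a : G} (ha : a ∈ J) : cm a e = a * a := by
  have := k.inv _ (inv_mem ha)
  rw [inv_inv] at this
  simp only [cm, mul_assoc] at this ⊢
  rw [this]

theorem eJ : e ∉ J := fun h => q.c.u1 (by
  rw [← k.xx, ← cm_J q k k.xJ]; exact (cm_eq_one q.n.ee).2 (k.ab _ k.xJ _ h))

theorem omJ (hC : ¬ Bg S z u e) {a : G} (ha : a ∈ J) (aa : a * a = 1) : a ∈ V2 z u :=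
  ((q.n.mem_E q.c).1 (memA q hC (k.le ha) (by rw [cm_J q k ha, aa]))).resolve_right fun h =>
    eJ q k (by simpa using mul_mem (inv_mem ha) (k.U h))

theorem sqJ (hC : ¬ Bg S z u e) (hT : ∀ s ∈ S, s * s = 1 → s * u = u * s) {s : G} (hs : s ∈ S)
    (su : s * u * s⁻¹ = z * u) : s * s ∉ J := fun hj => by
  have c := q.c
  -- no `y ∈ J` has norm `s²`
  have key : ∀ y ∈ J, s * s ≠ y * (s * y * s⁻¹) := fun y hy e1 => by
    have h1 : s * y⁻¹ * (s * y⁻¹) = 1 := by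
      calc s * y⁻¹ * (s * y⁻¹) = (s * y * s⁻¹)⁻¹ * (s * s) * y⁻¹ := by group
        _ = (s * y * s⁻¹)⁻¹ * (s * y * s⁻¹ * y) * y⁻¹ := by rw [e1, k.ab _ hy _ (k.nm s hs y hy)]
        _ = 1 := by group
    have h2 := hT _ (mul_mem hs (inv_mem (k.le hy).1)) h1
    rw [mul_assoc, mem_Cx.1 (inv_mem (k.le hy).2), ← mul_assoc, ← mul_assoc] at h2
    exact c.zu_ne_u (by rw [← su, mul_right_cancel h2, mul_inv_cancel_right])
  have xs := k.nm s hs x k.xJ
  have fx : ∀ y ∈ J, s * (y * (s * y * s⁻¹)) * s⁻¹ = y * (s * y * s⁻¹) := fun y hy => by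
    calc s * (y * (s * y * s⁻¹)) * s⁻¹ = s * y * s⁻¹ * (s * s * y * (s * s)⁻¹) := by group
      _ = s * y * s⁻¹ * y := by rw [k.ab _ hj _ hy, mul_inv_cancel_right]
      _ = _ := (k.ab _ hy _ (k.nm s hs y hy)).symm
  have uzu : u * (z * u) = z := by rw [← mul_assoc, ← c.zu, mul_assoc, c.uu, mul_one]
  have nx : x * (s * x * s⁻¹) * (x * (s * x * s⁻¹)) = z := by
    rw [mul_assoc, ← mul_assoc _ x, ← k.ab _ k.xJ _ xs, mul_assoc, conj_mul, ← mul_assoc, k.xx, su, uzu]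
  have nu : u * (s * u * s⁻¹) = z := by rw [su, uzu]
  have uJ := k.U (r_V2 z u)
  have f2 : s * (s * s) * s⁻¹ = s * s := by group
  have h4 : s * s * (s * s) ∈ V2 z u := by rw [← cm_J q k hj]; exact q.n.nm _ (mul_mem hs hs)
  rcases q.fixU su hs h4 (by group) with h5 | h5
  · rcases q.fixU su hs (omJ q k hC hj h5) f2 with h6 | h6
    · exact key 1 (one_mem _) (by simpa using h6)
    · exact key u uJ (by rw [nu, h6])
  · set p := x * (s * x * s⁻¹) with hp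
    have pJ : p ∈ J := mul_mem k.xJ xs
    have h6 : p⁻¹ * (s * s) * (p⁻¹ * (s * s)) = 1 := by
      rw [mul_assoc, ← mul_assoc (s * s), k.ab _ hj _ (inv_mem pJ), mul_assoc, h5, ← mul_assoc,
        ← mul_inv_rev, nx, inv_mul_cancel]
    have h7 : s * (p⁻¹ * (s * s)) * s⁻¹ = p⁻¹ * (s * s) := by
      rw [← conj_mul, f2, ← conj_inv, fx x k.xJ]
    rcases q.fixU su hs (omJ q k hC (mul_mem (inv_mem pJ) hj) h6) h7 with h8 | h8
    · exact key x k.xJ (inv_mul_eq_one.1 h8).symm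
    · refine key (x * u) (mul_mem k.xJ uJ) ?_
      rw [← conj_mul, mul_assoc, ← mul_assoc u, k.ab _ uJ _ xs, mul_assoc, nu, ← mul_assoc, ← hp, ← h8]
      group

end InvP

open InvP in
theorem Q.fin (h : Hy G) (q : Q S z u g e) (hC : ¬ Bg S z u e) : Fin' S z u := by
  have c := q.c
  have n := q.n
  refine ⟨e, n, fun k hk ke => memA q hC hk ((cm_eq_one n.ee).2 ke), ?_⟩
  by_contra hn
  have hT : ∀ s ∈ S, s * s = 1 → s * u = u * s := fun s hs ss =>
    (c.su s hs).resolve_right fun su => hn ⟨s, hs, ss, su⟩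
  obtain ⟨J, x, k⟩ := exists_J q h hC hT
  have e1 : e ≠ 1 := fun h1 => n.nU (h1 ▸ one_mem _)
  obtain ⟨s, hs, su⟩ := c.out
  -- `e` is conjugate to `z`
  obtain ⟨y, hy⟩ : ∃ y : G, y * e * y⁻¹ = z := by
    have sT := c.mul_mem_T hs hs su su
    have hcov : S ≤ J ⊔ zpowers s := by
      have l : ∀ {a}, a ∈ J → a ∈ J ⊔ zpowers s := fun ha => mem_sup_left ha
      have r : s ∈ J ⊔ zpowers s := mem_sup_right (mem_zpowers s)
      have eM : e ∈ J ⊔ zpowers s := by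
        have := mul_mem (inv_mem (mul_mem r r)) (l ((k.cov _ sT).resolve_left (sqJ q k hC hT hs su)))
        rwa [inv_mul_cancel_left] at this
      have hTle : ∀ t ∈ S ⊓ Cx u, t ∈ J ⊔ zpowers s := fun t ht => by
        rcases k.cov t ht with h1 | h1
        · exact l h1
        · simpa using mul_mem (l h1) (inv_mem eM)
      intro a ha
      rcases c.su a ha with h1 | h1
      · exact hTle a ⟨ha, mem_Cx.2 h1⟩
      · simpa using mul_mem (hTle _ (c.mul_mem_T ha hs h1 su)) (inv_mem r)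
    obtain ⟨y, hy⟩ := thompson h.idx c.syl (fun a ha => (k.le ha).1)
      (fun a ha => mem_normalizer_of_forall (k.nm a ha)) hs hcov n.ee e1
    rcases c.mem_U.1 (omJ q k hC hy (by rw [conj_mul, n.ee]; simp)) with h1 | h1 | h1 | h1
    · exact absurd (by simpa using h1) e1
    · exact ⟨y, h1⟩
    · exact ⟨g⁻¹ * y, by rw [← (mul_right_inj g), ← (mul_left_inj g⁻¹), c.gz, ← h1]; group⟩
    · exact ⟨g * y, by rw [← c.gzu, ← h1]; group⟩
  -- `s₀ ∈ S \ T` with `s₀² = e`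
  obtain ⟨s0, h0, u0, ss0⟩ : ∃ s0 ∈ S, s0 * u * s0⁻¹ = z * u ∧ s0 * s0 = e := by
    obtain ⟨t, ht, te⟩ := q.conj_e h.rk (n.nm s hs)
    have h0 : t⁻¹ * s ∈ S := mul_mem (inv_mem ht.1) hs
    have u0 : t⁻¹ * s * u * (t⁻¹ * s)⁻¹ = z * u := by
      calc t⁻¹ * s * u * (t⁻¹ * s)⁻¹ = t⁻¹ * (s * u * s⁻¹) * t := by group
        _ = z * u := by
          rw [su, c.cU (inv_mem ht) (mul_mem (l_V2 _ _) (r_V2 _ _)), inv_mul_cancel_right]
    have e0 : t⁻¹ * s * e * (t⁻¹ * s)⁻¹ = e := by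
      calc t⁻¹ * s * e * (t⁻¹ * s)⁻¹ = t⁻¹ * (s * e * s⁻¹) * t := by group
        _ = e := by rw [← te]; group
    generalize t⁻¹ * s = p at h0 u0 e0
    have pe : p * e = e * p := mul_inv_eq_iff_eq_mul.1 e0
    have pT := c.mul_mem_T h0 h0 u0 u0
    have pA := memA q hC pT ((cm_eq_one n.ee).2 (by rw [mul_assoc, pe, ← mul_assoc, pe, mul_assoc]))
    have pU := ((n.mem_E c).1 pA).resolve_left fun h1 => sqJ q k hC hT h0 u0 (k.U h1)
    rcases q.fixU u0 h0 pU (by rw [← conj_mul, e0]; group) with h1 | h1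
    · exact ⟨p, h0, u0, by rw [eq_inv_of_mul_eq_one_left h1, inv_eq_of_mul_eq_one_right n.ee]⟩
    · refine ⟨p * u, mul_mem h0 c.uS, by rw [← u0]; group, ?_⟩
      have h2 : p * p = z * e := by rw [← h1, mul_assoc (p * p), n.ee, mul_one]
      calc p * u * (p * u) = p * u * p⁻¹ * (p * p) * u := by group
        _ = z * (u * z) * (e * u) := by rw [u0, h2]; group
        _ = e := by
          rw [← c.zu, n.eu, ← mul_assoc z, c.zz, one_mul, ← mul_assoc, c.uu, one_mul]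
  -- move `C_S(e)` into `S`
  obtain ⟨w, we, hw⟩ := exists_ext (K := ⊤) c.syl.pgroup le_top
    (isSylowIn_cent_of_central c.syl q.Sz) (mem_top y) hy |>.imp fun _ h => h.2
  have s0e : s0 * e = e * s0 := by rw [← ss0]; group
  have m0 := hw s0 h0 s0e
  have mu := hw u c.uS n.eu.symm
  have q0 : w * s0 * w⁻¹ * (w * s0 * w⁻¹) = z := by rw [conj_mul, ss0, we]
  have qu : w * u * w⁻¹ * (w * u * w⁻¹) = 1 := by rw [conj_mul, c.uu]; simp
  have T0 : w * s0 * w⁻¹ ∈ S ⊓ Cx u := ⟨m0, mem_Cx.2 ((c.su _ m0).resolve_right fun h1 =>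
    sqJ q k hC hT m0 h1 (q0 ▸ k.U (l_V2 _ _)))⟩
  have Tu : w * u * w⁻¹ ∈ S ⊓ Cx u := ⟨mu, mem_Cx.2 (hT _ mu qu)⟩
  have ie : e⁻¹ = e := inv_eq_of_mul_eq_one_right n.ee
  have invo : ∀ t, t * e ∈ J → t * t = 1 := fun t ht => by
    have := k.inv _ ht
    rw [mul_assoc, mul_assoc, n.ee, mul_one, mul_inv_rev, ie] at this
    exact mul_eq_one_iff_eq_inv.2 (mul_left_cancel this)
  have J0 : w * s0 * w⁻¹ ∈ J := (k.cov _ T0).resolve_right fun h1 => c.z1 (q0.symm.trans (invo _ h1))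
  rcases k.cov _ Tu with h1 | h1
  · have := k.ab _ J0 _ h1
    rw [conj_mul, conj_mul] at this
    exact c.zu_ne_u (by rw [← u0, mul_left_cancel (mul_right_cancel this), mul_inv_cancel_right])
  · have h2 := invo (w * s0 * w⁻¹ * (w * u * w⁻¹)) (by rw [mul_assoc]; exact mul_mem J0 h1)
    rw [conj_mul, conj_mul] at h2
    have h3 : s0 * u * (s0 * u) = 1 := by simpa using h2
    refine n.nU ?_
    have h4 : z * u * e * u = 1 := by rw [← u0, ← ss0, ← h3]; group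
    rw [mul_assoc, n.eu, ← mul_assoc, mul_assoc z, c.uu, mul_one] at h4
    rw [eq_inv_of_mul_eq_one_right h4]
    exact inv_mem (l_V2 _ _)

end CfsgLib.Rk3B
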