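import Cfsg.Agent.Lib.Rk3B.C1

/-!
`N(C)` induces `GL₃(2)` on `A`  (plans/RK3B.md, package GL)
-/

set_option autoImplicit false
set_option linter.unusedSectionVars false

namespace CfsgLib.Rk3B

open Subgroup Cfsg CfsgLib.Tech CfsgLib.W2 CfsgLib.Rk3

variable {G : Type*} [Group G] [Finite G] {S : Subgroup G} {z u g e : G}

namespace Gl

theorem cc (m t x : G) : m * t * x * (m * t)⁻¹ = m * (t * x * t⁻¹) * m⁻¹ := by group

theorem back {n x y : G} (h : n * x * n⁻¹ = y) : n⁻¹ * y * n⁻¹⁻¹ = x := by rw [← h]; group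

variable (q : Q S z u g e)
include q

theorem SA : S ≤ normalizer ((V3 z u e : Subgroup G) : Set G) :=
  fun _ hs => mem_normalizer_of_forall fun _ => q.conj_A hs

theorem l1 (rk : PRankLE 2 3 G) {m a b c : G} (hm : m ∈ normalizer ((V3 z u e : Subgroup G) : Set G))
    (mz : m * z * m⁻¹ = a) (mu : m * u * m⁻¹ = b) (hc : c ∈ V3 z u e) (cV : c ∉ V2 a b) :
    ∃ n ∈ normalizer ((V3 z u e : Subgroup G) : Set G),
      n * z * n⁻¹ = a ∧ n * u * n⁻¹ = b ∧ n * e * n⁻¹ = c := by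
  obtain ⟨t, ht, te⟩ := q.conj_e rk (((q.n.mem_E q.c).1 (conj_mem_of_mem_normalizer' hm hc)).resolve_left
    fun h => cV (by rw [← mz, ← mu, ← cj_V2]; exact mem_cj.2 h))
  refine ⟨m * t, mul_mem hm (SA q ht.1), ?_, ?_, ?_⟩
  · rw [cc, q.c.zc t ht.1, mul_inv_cancel_right, mz]
  · rw [cc, mem_Cx'.1 ht.2, mu]
  · rw [cc, te]; group

theorem l2a {a b : G} (ha : a ∈ V2 z u) (hb : b ∈ V2 z u) (a1 : a ≠ 1) (b1 : b ≠ 1) (ba : b ≠ a) :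
    ∃ m ∈ normalizer ((V3 z u e : Subgroup G) : Set G), m * z * m⁻¹ = a ∧ m * u * m⁻¹ = b := by
  obtain ⟨s, sS, su⟩ := q.c.out
  have sz : s * z * s⁻¹ = z := by rw [q.c.zc s sS, mul_inv_cancel_right]
  have sA := SA q sS
  have gA := q.gA
  rcases q.c.mem_U.1 ha with h | h | h | h <;> rcases q.c.mem_U.1 hb with k | k | k | k <;>
    first
      | exact absurd h a1
      | exact absurd k b1
      | exact absurd (k.trans h.symm) ba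
      | skip
  all_goals rw [h, k]
  · exact ⟨1, one_mem _, by simp, by simp⟩
  · exact ⟨s, sA, sz, su⟩
  · exact ⟨g * s, mul_mem gA sA, by rw [cc, sz, q.c.gz], by rw [cc, su, q.c.gzu]⟩
  · exact ⟨g, gA, q.c.gz, q.c.gu⟩
  · exact ⟨g * g, mul_mem gA gA, by rw [cc, q.c.gz, q.c.gu], by rw [cc, q.c.gu, q.c.gzu]⟩
  · exact ⟨g * (g * s), mul_mem gA (mul_mem gA sA), by rw [cc, cc, sz, q.c.gz, q.c.gu],
      by rw [cc, cc, su, q.c.gzu, q.c.gz]⟩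

theorem l3 (rk : PRankLE 2 3 G) {a c : G} (ha : a ∈ V2 z u) (a1 : a ≠ 1) (hc : c ∈ V3 z u e) (cU : c ∉ V2 z u) :
    ∃ n ∈ normalizer ((V3 z u e : Subgroup G) : Set G), n * z * n⁻¹ = a ∧ n * e * n⁻¹ = c := by
  obtain ⟨b, hb, b1, ba⟩ : ∃ b ∈ V2 z u, b ≠ 1 ∧ b ≠ a := by
    by_cases h : a = z
    · exact ⟨u, r_V2 _ _, q.c.u1, h ▸ q.c.uz⟩
    · exact ⟨z, l_V2 _ _, q.c.z1, Ne.symm h⟩
  obtain ⟨m, hm, mz, mu⟩ := l2a q ha hb a1 b1 ba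
  obtain ⟨n, hn, h1, -, h2⟩ := l1 q rk hm mz mu hc fun h => cU (V2_le.2 ⟨ha, hb⟩ h)
  exact ⟨n, hn, h1, h2⟩

theorem exists_x (rk : PRankLE 2 3 G) (big : Bg S z u e) (ze : IsConj z e) :
    ∃ x ∈ normalizer ((V3 z u e : Subgroup G) : Set G), x * e * x⁻¹ = z := by
  obtain ⟨k, hk⟩ := isConj_iff.1 ze.symm
  obtain ⟨m, hm, hle⟩ := (q.c.syl.of_le q.Sz le_top).exists_cj_le (Q := cj k (S ⊓ Cx e))
    (isPGroup_cj k (q.c.syl.pgroup.to_le inf_le_left)) (by rw [← hk, ← cj_Cx]; exact cj_mono k inf_le_right)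
  rw [← cj_mul] at hle
  have xe : m * k * e * (m * k)⁻¹ = z := by rw [cc, hk, mem_Cx'.1 hm]
  generalize m * k = x at hle xe
  have CS : ∀ c ∈ S ⊓ Cx u ⊓ Cx e, x * c * x⁻¹ ∈ S := fun c hc => cj_le_iff.1 hle c ⟨hc.1.1, hc.2⟩
  have key : ∀ f ∈ V2 z u, x * f * x⁻¹ ∈ V3 z u e := fun f hf => by
    obtain ⟨c, hc, cf⟩ := q.exists_in1 rk big hf
    have := (q.sq rk (E := cj x (V3 z u e)) (cj_le_iff.2 fun a ha => CS a (q.A_le ha)) ((q.n.elE q.c).cj x)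
      (by rw [card_cj, q.n.cardE q.c]) (CS c hc.1) (by
        rintro _ ⟨a, ha, rfl⟩
        change x * c * x⁻¹ * (x * a * x⁻¹) = x * a * x⁻¹ * (x * c * x⁻¹)
        rw [conj_mul, conj_mul, q.cA hc.1 ha]) (by
        rw [conj_mul, conj_mul, cf, q.c.elU f hf]; simp)).1
    rwa [conj_mul, cf] at this
  exact ⟨x, mem_normalizer_of_cj_le (by
    rw [cj_V3, V3_le, xe]
    exact ⟨key z (l_V2 _ _), key u (r_V2 _ _), V2_le_V3 _ _ _ (l_V2 _ _)⟩), xe⟩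

theorem toU (rk : PRankLE 2 3 G) (big : Bg S z u e) (ze : IsConj z e) {a c : G} (ha : a ∈ V2 z u) (a1 : a ≠ 1)
    (hc : c ∈ V3 z u e) (cU : c ∉ V2 z u) :
    ∃ y ∈ normalizer ((V3 z u e : Subgroup G) : Set G), y * a * y⁻¹ ∈ V2 z u ∧ y * c * y⁻¹ ∈ V2 z u := by
  obtain ⟨x, hx, xe⟩ := exists_x q rk big ze
  obtain ⟨w, hw, w1, xw⟩ : ∃ w ∈ V2 z u, w ≠ 1 ∧ x * w * x⁻¹ ∈ V2 z u := by
    have h0 : x * (x⁻¹ * u * x) * x⁻¹ = u := by group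
    rcases (q.n.mem_E q.c).1 (conj_mem_of_mem_normalizer' hx (V2_le_V3 z u e (r_V2 z u))) with h | h
    · exact ⟨_, h, fun k => q.c.u1 (by rw [← h0, k]; simp), by rw [h0]; exact r_V2 _ _⟩
    · have h1 : x * (x⁻¹ * u * x * e) * x⁻¹ = u * z := by rw [← conj_mul, h0, xe]
      exact ⟨_, h, fun k => q.c.zu_ne_one (by rw [q.c.zu, ← h1, k]; simp),
        by rw [h1]; exact mul_mem (r_V2 _ _) (l_V2 _ _)⟩
  obtain ⟨n, hn, nz, ne⟩ := l3 q rk ha a1 hc cU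
  obtain ⟨m, hm, mz, me⟩ := l3 q rk hw w1 (r_V3 z u e) q.n.nU
  refine ⟨x * (m * n⁻¹), mul_mem hx (mul_mem hm (inv_mem hn)), ?_, ?_⟩
  · rw [cc, cc, back nz, mz]; exact xw
  · rw [cc, cc, back ne, me, xe]; exact l_V2 _ _

theorem l2 (rk : PRankLE 2 3 G) (big : Bg S z u e) (ze : IsConj z e) {a b : G} (ha : a ∈ V3 z u e)
    (hb : b ∈ V3 z u e) (a1 : a ≠ 1) (b1 : b ≠ 1) (ba : b ≠ a) :
    ∃ m ∈ normalizer ((V3 z u e : Subgroup G) : Set G), m * z * m⁻¹ = a ∧ m * u * m⁻¹ = b := by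
  obtain ⟨y, hy, ya, yb⟩ : ∃ y ∈ normalizer ((V3 z u e : Subgroup G) : Set G),
      y * a * y⁻¹ ∈ V2 z u ∧ y * b * y⁻¹ ∈ V2 z u := by
    by_cases aU : a ∈ V2 z u <;> by_cases bU : b ∈ V2 z u
    · exact ⟨1, one_mem _, by simpa using aU, by simpa using bU⟩
    · exact toU q rk big ze aU a1 hb bU
    · obtain ⟨y, hy, h1, h2⟩ := toU q rk big ze bU b1 ha aU
      exact ⟨y, hy, h2, h1⟩
    · have el := q.n.elE q.c
      have h0 : b * a ∈ V2 z u := by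
        have := mul_mem (((q.n.mem_E q.c).1 hb).resolve_left bU) (((q.n.mem_E q.c).1 ha).resolve_left aU)
        rwa [mul_assoc, ← mul_assoc e, el.comm (r_V3 _ _ _) ha, mul_assoc, q.n.ee, mul_one] at this
      obtain ⟨y, hy, h1, h2⟩ := toU q rk big ze h0 (fun h => ba (by
        rw [eq_inv_of_mul_eq_one_left h, inv_eq_of_mul_eq_one_right (el a ha)])) ha aU
      refine ⟨y, hy, h2, ?_⟩
      have := mul_mem h1 h2
      rwa [conj_mul, mul_assoc b, el a ha, mul_one] at this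
  obtain ⟨m, hm, mz, mu⟩ := l2a q ya yb (mt conj_eq_one_iff.1 a1) (mt conj_eq_one_iff.1 b1)
    fun h => ba ((MulAut.conj y).injective h)
  exact ⟨y⁻¹ * m, mul_mem (inv_mem hy) hm, by rw [cc, mz]; group, by rw [cc, mu]; group⟩

end Gl

theorem Q.glp (rk : PRankLE 2 3 G) (q : Q S z u g e) (big : Bg S z u e) (ze : IsConj z e) : GLP S z u e := by
  intro a ha b hb c hc a1 b1 ba cV
  obtain ⟨m, hm, mz, mu⟩ := Gl.l2 q rk big ze ha hb a1 b1 ba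
  obtain ⟨n, hn, nz, nu, ne⟩ := Gl.l1 q rk hm mz mu hc cV
  obtain ⟨k, hk, kn⟩ := q.sylC.frattini (q.nA_le hn)
  have kA : ∀ y ∈ V3 z u e, k * y * k⁻¹ = y := fun y hy => mem_Cx'.1 (Cx_comm.1
    ((V3_le (M := Cx k)).2 ⟨Cx_comm.1 hk.1.1, Cx_comm.1 hk.1.2, Cx_comm.1 hk.2⟩ hy))
  exact ⟨k * n, kn, by rw [Gl.cc, nz, kA a ha], by rw [Gl.cc, nu, kA b hb], by rw [Gl.cc, ne, kA c hc]⟩

theorem Q.NC_le (rk : PRankLE 2 3 G) (q : Q S z u g e) :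
    normalizer ((S ⊓ Cx u ⊓ Cx e : Subgroup G) : Set G) ≤ normalizer ((V3 z u e : Subgroup G) : Set G) :=
  fun n hn => mem_normalizer_of_forall fun a ha => q.omC rk (conj_mem_of_mem_normalizer hn (q.A_le ha))
    (by rw [conj_mul, q.n.elE q.c a ha]; simp)

/-- elements inducing an involution on `A` are conjugate into `T` -/
theorem Q.red (rk : PRankLE 2 3 G) (q : Q S z u g e) (gl : GLP S z u e) {v : G} (vS : v ∈ S)
    (vC : v ∉ S ⊓ Cx u ⊓ Cx e) (vv : v * v ∈ S ⊓ Cx u ⊓ Cx e) :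
    ∃ n ∈ normalizer ((S ⊓ Cx u ⊓ Cx e : Subgroup G) : Set G), n * v * n⁻¹ ∈ S ⊓ Cx u ∧
      cm (n * v * n⁻¹) e = z ∧
      ((∀ a ∈ V3 z u e, v * a * v⁻¹ = a ∨ v * a * v⁻¹ = z * a) → n * z = z * n) := by
  have bU := q.n.nm v vS
  have el := q.n.elE q.c
  rcases q.c.su v vS with vu | vu
  · have vT : v ∈ S ⊓ Cx u := ⟨vS, mem_Cx.2 vu⟩
    have b1 : cm v e ≠ 1 := fun h => vC ⟨vT, mem_Cx.2 ((cm_eq_one q.n.ee).1 h)⟩
    have hz : (∀ a ∈ V3 z u e, v * a * v⁻¹ = a ∨ v * a * v⁻¹ = z * a) → cm v e = z := fun h => by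
      rcases h e (r_V3 _ _ _) with k | k
      · exact absurd (by rw [cm, k, q.n.ee]) b1
      · rw [cm, k, mul_assoc, q.n.ee, mul_one]
    rcases q.c.mem_U.1 bU with h | h | h | h
    · exact absurd h b1
    · exact ⟨1, one_mem _, by simpa using vT, by simpa using h, fun _ => by simp⟩
    · refine ⟨g * g, mul_mem q.gC q.gC, conj_mem_of_mem_normalizer (mul_mem q.c.gT q.c.gT) vT, ?_,
        fun k => absurd (h.symm.trans (hz k)) q.c.uz⟩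
      rw [Gl.cc, q.cm_g, q.cm_g, show cm v e = u from h, q.c.gu, q.c.gzu]
    · refine ⟨g, q.gC, conj_mem_of_mem_normalizer q.c.gT vT, ?_,
        fun k => absurd (h.symm.trans (hz k)) q.c.zu_ne_z⟩
      rw [q.cm_g, show cm v e = z * u from h, q.c.gzu]
  have vz : v * z * v⁻¹ = z := by rw [q.c.zc v vS, mul_inv_cancel_right]
  obtain ⟨e', hA, hU, ve⟩ : ∃ e' ∈ V3 z u e, e' ∉ V2 z u ∧ v * e' * v⁻¹ = e' := by
    rcases q.fixU vu vS bU (by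
      rw [← conj_mul, ← Gl.cc, mem_Cx'.1 vv.2, el.comm (r_V3 _ _ _) (q.conj_A vS (r_V3 _ _ _))]) with h | h
    · exact ⟨e, r_V3 _ _ _, q.n.nU, by rw [(cm_eq_one q.n.ee).1 h, mul_inv_cancel_right]⟩
    · refine ⟨u * e, mul_mem (V2_le_V3 _ _ _ (r_V2 _ _)) (r_V3 _ _ _),
        fun k => q.n.nU ((Subgroup.mul_mem_cancel_left _ (r_V2 z u)).1 k), ?_⟩
      have h4 : v * e * v⁻¹ = z * e := by rw [← h, mul_assoc _ e e, q.n.ee, mul_one]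
      rw [← conj_mul, vu, h4, q.c.zu, mul_assoc, ← mul_assoc z, q.c.zz, one_mul]
  have zA : z ∈ V3 z u e := V2_le_V3 _ _ _ (l_V2 _ _)
  have uA : u ∈ V3 z u e := V2_le_V3 _ _ _ (r_V2 _ _)
  obtain ⟨m, hm, mz, mu, me⟩ := gl z zA e' hA u uA q.c.z1 (fun h => hU (h ▸ one_mem _))
    (fun h => hU (h ▸ l_V2 _ _)) (fun h => by
      rcases (mem_V2 q.c.zz (el _ hA) (el.comm zA hA)).1 h with k | k | k | k
      · exact q.c.u1 k
      · exact q.c.uz k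
      · exact hU (k ▸ r_V2 _ _)
      · exact hU ((Subgroup.mul_mem_cancel_left _ (l_V2 z u)).1 (k ▸ r_V2 _ _)))
  have vN : v ∈ normalizer ((S ⊓ Cx u ⊓ Cx e : Subgroup G) : Set G) :=
    mem_normalizer_of_forall fun _ => q.conj_C vS
  obtain ⟨w, hw⟩ : ∃ w, w = m⁻¹ * v * m⁻¹⁻¹ := ⟨_, rfl⟩
  have cw : ∀ y, w * y * w⁻¹ = m⁻¹ * (v * (m * y * m⁻¹) * v⁻¹) * m⁻¹⁻¹ := fun y => by rw [hw]; group
  have wz : w * z * w⁻¹ = z := by rw [cw, mz, vz, Gl.back mz]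
  have wu : w * u * w⁻¹ = u := by rw [cw, mu, ve, Gl.back mu]
  have we : w * e * w⁻¹ = z * e := by rw [cw, me, vu, ← conj_mul, Gl.back mz, Gl.back me]
  have sy : IsSylowIn 2 (S ⊓ Cx u)
      (normalizer ((S ⊓ Cx u ⊓ Cx e : Subgroup G) : Set G) ⊓ (Cx z ⊓ Cx u)) :=
    q.sylT.of_le (le_inf (fun t ht => mem_normalizer_of_forall fun _ => q.conj_C ht.1) q.sylT.le) inf_le_right
  obtain ⟨k, hk, kw⟩ := sy.exists_conj_mem (x := w)
    (mem_inf.2 ⟨by rw [hw]; exact mul_mem (mul_mem (inv_mem hm) vN) (inv_mem (inv_mem hm)),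
      mem_inf.2 ⟨mem_Cx'.2 wz, mem_Cx'.2 wu⟩⟩)
    (by rw [hw, ← cj_zpowers]; exact isPGroup_cj _ (isPGroup_zpowers_of_mem q.c.syl.pgroup vS))
  have kz : k * z * k⁻¹ = z := mem_Cx'.1 hk.2.1
  have nv : k * m⁻¹ * v * (k * m⁻¹)⁻¹ = k * w * k⁻¹ := by rw [Gl.cc, hw]
  refine ⟨k * m⁻¹, mul_mem hk.1 (inv_mem hm), nv ▸ kw, ?_, fun _ => ?_⟩
  · have kU : cj k (V2 z u) = V2 z u := by rw [cj_V2, kz, mem_Cx'.1 hk.2.2]
    have h1 : k * e * k⁻¹ * e ∈ V2 z u :=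
      ((q.n.mem_E q.c).1 (conj_mem_of_mem_normalizer (q.NC_le rk hk.1) (r_V3 z u e))).resolve_left
        fun h => q.n.nU (conj_mem_cj.1 (kU ▸ h))
    rw [nv, ← q.n.cm_of_mem q.c kw h1, ← cm_conj, cm, we, mul_assoc z, q.n.ee, mul_one, kz]
  · rw [← mul_inv_eq_iff_eq_mul, Gl.cc, Gl.back mz, kz]

end CfsgLib.Rk3B
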