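import Cfsg.Agent.Lib.Rk3B.Defs
import Cfsg.Agent.Lib.Disc.Basic

/-!
Dihedral tools  (plans/RK3B.md, package TL)
-/

set_option autoImplicit false

namespace CfsgLib.Rk3B

open Subgroup Cfsg CfsgLib.Tech CfsgLib.W2 CfsgLib.Rk3

variable {G : Type*} [Group G] [Finite G] {S : Subgroup G} {z u g e : G}

namespace TL

theorem mz (hS : IsPGroup 2 S) {H : Set G} {g : G} (HS : ∀ h ∈ H, h ∈ S) (hg : g ∈ S)
    (hsq : ∀ h ∈ H, h * h ∈ H) (hmax : ∀ h ∈ H, orderOf h ≤ orderOf g)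
    (hr : ∀ h ∈ H, ∀ i : ℤ, h * h = g ^ i * g ^ i → h ∈ zpowers g) : ∀ h ∈ H, h ∈ zpowers g := by
  intro h hh
  obtain ⟨m, hm⟩ := Disc.mem_zpowers_of_max (P := S) hS (H := {x : S | (x : G) ∈ H}) (g := ⟨g, hg⟩)
    (fun x hx => hsq _ hx)
    (fun x hx => by rw [← orderOf_coe, ← orderOf_coe]; exact hmax _ hx)
    (fun x hx i e => by
      obtain ⟨m, hm⟩ := hr _ hx i (by simpa using congrArg Subtype.val e)
      exact ⟨m, Subtype.ext (by simpa using hm)⟩) ⟨h, HS h hh⟩ hh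
  exact ⟨m, by simpa using congrArg Subtype.val hm⟩

omit [Finite G] in
theorem invol (hS : IsPGroup 2 S) {w : G} (hw : w ∈ S) (w1 : w ≠ 1) :
    ∃ j : ℕ, w ^ 2 ^ j ≠ 1 ∧ w ^ 2 ^ j * w ^ 2 ^ j = 1 := by
  obtain ⟨j, h1, h2⟩ := Disc.exists_invol (P := S) hS (w := ⟨w, hw⟩) fun e => w1 (congrArg Subtype.val e)
  exact ⟨j, fun e => h1 (Subtype.ext (by simpa using e)), by simpa using congrArg Subtype.val h2⟩

omit [Finite G] in
theorem odd1 (hS : IsPGroup 2 S) {w : G} (hw : w ∈ S) {m : ℤ} (hm : Odd m) (h : w ^ m = 1) : w = 1 :=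
  congrArg Subtype.val (Disc.eq_one_of_odd (P := S) hS (w := ⟨w, hw⟩) hm (Subtype.ext (by simpa using h)))

omit [Finite G] in
theorem inv_zp {a k x : G} (h : a * k * a⁻¹ = k⁻¹) (hx : x ∈ zpowers k) : a * x * a⁻¹ = x⁻¹ := by
  obtain ⟨m, rfl⟩ := hx
  simp only
  rw [← conj_zpow, h, inv_zpow]

omit [Finite G] in
/-- a cyclic group has at most one involution -/
theorem uq_zp {k a b : G} (ha : a ∈ zpowers k) (hb : b ∈ zpowers k) (aa : a * a = 1) (bb : b * b = 1)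
    (a1 : a ≠ 1) (b1 : b ≠ 1) : a = b := by
  obtain ⟨i, rfl⟩ := ha
  obtain ⟨j, rfl⟩ := hb
  simp only at *
  rw [← zpow_add, ← orderOf_dvd_iff_zpow_eq_one] at aa bb
  rw [Ne, ← orderOf_dvd_iff_zpow_eq_one] at a1 b1
  obtain ⟨x, hx⟩ := aa
  obtain ⟨y, hy⟩ := bb
  rw [zpow_eq_zpow_iff_modEq, Int.modEq_iff_dvd]
  obtain ⟨x, rfl | rfl⟩ := Int.even_or_odd' x
  · exact absurd ⟨x, by linarith⟩ a1
  obtain ⟨y, rfl | rfl⟩ := Int.even_or_odd' y
  · exact absurd ⟨y, by linarith⟩ b1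
  exact ⟨y - x, by linarith⟩

omit [Finite G] in
theorem comm_zp {k a b : G} (ha : a ∈ zpowers k) (hb : b ∈ zpowers k) : a * b = b * a := by
  obtain ⟨i, rfl⟩ := ha
  obtain ⟨j, rfl⟩ := hb
  simp only
  rw [← zpow_add, ← zpow_add, add_comm]

end TL

/-- the central involution of a dihedral 2-group -/
theorem dcen (hS : IsPGroup 2 S) {a b : G} (ha : a ∈ S) (hb : b ∈ S) (aa : a * a = 1) (bb : b * b = 1)
    (ab : a * b ≠ b * a) : ∃ c ∈ zpowers (a * b), c * c = 1 ∧ c ≠ 1 ∧ c * a = a * c ∧ c * b = b * c ∧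
      (∃ d ∈ zpowers (a * b), d * a * d⁻¹ = c * a) ∧ ∃ d ∈ zpowers (a * b), d * b * d⁻¹ = c * b := by
  have ai : a⁻¹ = a := inv_eq_of_mul_eq_one_right aa
  have bi : b⁻¹ = b := inv_eq_of_mul_eq_one_right bb
  have h1 : a * (a * b) * a⁻¹ = (a * b)⁻¹ := by rw [← mul_assoc, aa, one_mul, mul_inv_rev, bi]
  have h2 : b * (a * b) * b⁻¹ = (a * b)⁻¹ := by
    rw [mul_assoc, mul_inv_cancel_right, mul_inv_rev, ai, bi]
  have k2 : a * b * (a * b) ≠ 1 := fun e => ab (by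
    rw [← inv_eq_of_mul_eq_one_right e, mul_inv_rev, ai, bi])
  obtain ⟨j, c1, cc⟩ := TL.invol hS (S.mul_mem (S.mul_mem ha hb) (S.mul_mem ha hb)) k2
  have hd : (a * b) ^ 2 ^ j ∈ zpowers (a * b) := pow_mem (mem_zpowers _) _
  have e : (a * b * (a * b)) ^ 2 ^ j = (a * b) ^ 2 ^ j * (a * b) ^ 2 ^ j := (Commute.refl _).mul_pow _
  rw [e] at c1 cc
  generalize (a * b) ^ 2 ^ j = d at hd c1 cc
  have key : ∀ x : G, x * (a * b) * x⁻¹ = (a * b)⁻¹ → d * d * x = x * (d * d) ∧ d * x * d⁻¹ = d * d * x := by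
    intro x hx
    constructor
    · have := TL.inv_zp hx (mul_mem hd hd)
      rw [inv_eq_of_mul_eq_one_right cc] at this
      exact (mul_inv_eq_iff_eq_mul.1 this).symm
    · have := TL.inv_zp hx (inv_mem hd)
      rw [inv_inv] at this
      rw [mul_assoc, mul_inv_eq_iff_eq_mul.1 this, mul_assoc]
  exact ⟨d * d, mul_mem hd hd, cc, c1, (key a h1).1, (key b h2).1, ⟨d, hd, (key a h1).2⟩,
    d, hd, (key b h2).2⟩

/-- an invariant set of involutions lies in one coset of a cyclic group -/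
theorem dih (hS : IsPGroup 2 S) {Y : Set G} {w b : G} (YS : ∀ y ∈ Y, y ∈ S) (yy : ∀ y ∈ Y, y * y = 1)
    (Yc : ∀ s ∈ S, ∀ y ∈ Y, s * y * s⁻¹ ∈ Y) (ww : w * w = 1) (w1 : w ≠ 1)
    (hw : ∀ y ∈ Y, ∀ y' ∈ Y, y ≠ y' → w ∈ zpowers (y * y')) (hb : b ∈ Y)
    (nsq : ∀ c ∈ S, c * b = b * c → c * c ≠ w) :
    ∃ k ∈ S, b * k * b⁻¹ = k⁻¹ ∧ S ≤ normalizer ((zpowers k : Subgroup G) : Set G) ∧
      ∀ y, y ∈ Y ↔ b * y ∈ zpowers k := by
  have bb := yy b hb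
  have bS := YS b hb
  have bi : b⁻¹ = b := inv_eq_of_mul_eq_one_right bb
  have bbx : ∀ x, b * (b * x) = x := fun x => by rw [← mul_assoc, bb, one_mul]
  set H : Set G := {h | b * h ∈ Y} with hH
  have HS : ∀ h ∈ H, h ∈ S := fun h hh => bbx h ▸ S.mul_mem bS (YS _ hh)
  have Hi : ∀ h ∈ H, b * h * b⁻¹ = h⁻¹ := fun h hh => by
    rw [bi, eq_inv_iff_mul_eq_one, mul_assoc]; exact yy _ hh
  have Hz : ∀ h ∈ H, ∀ x ∈ zpowers h, x ∈ H := by
    rintro h hh _ ⟨m, rfl⟩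
    have e : ∀ j : ℤ, (h ^ j)⁻¹ * b = b * h ^ j := fun j => by
      rw [← TL.inv_zp (Hi h hh) (zpow_mem (mem_zpowers h) j), inv_mul_cancel_right]
    obtain ⟨j, rfl | rfl⟩ := Int.even_or_odd' m
    · have := Yc _ (S.inv_mem (zpow_mem (HS h hh) j)) b hb
      rw [e, inv_inv, mul_assoc, ← zpow_add, ← two_mul] at this
      exact this
    · have := Yc _ (S.inv_mem (zpow_mem (HS h hh) j)) _ hh
      rw [← mul_assoc, e, inv_inv] at this
      have e2 : b * h ^ j * h * h ^ j = b * h ^ (2 * j + 1) := by group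
      rw [e2] at this
      exact this
  obtain ⟨k, hk, hmax⟩ := Set.exists_max_image H orderOf (Set.toFinite H) ⟨1, by simpa [hH] using hb⟩
  have main : ∀ h ∈ H, h ∈ zpowers k := by
    refine TL.mz hS HS (HS k hk) (fun h hh => Hz h hh _ (mul_mem (mem_zpowers h) (mem_zpowers h))) hmax ?_
    intro h hh i e
    by_cases k1 : k = 1
    · have := hmax h hh
      rw [k1, orderOf_one] at this
      rw [orderOf_eq_one_iff.1 (le_antisymm this (orderOf_pos h))]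
      exact one_mem _
    have wk : w ∈ zpowers k := by
      have := hw b hb _ hk (fun e => k1 (by simpa using e.symm))
      rwa [bbx] at this
    have ki : k ^ i ∈ zpowers k := zpow_mem (mem_zpowers k) i
    by_cases p1 : k ^ i = h
    · exact p1 ▸ ki
    have h1 := hw _ (Hz k hk _ ki) _ hh fun e => p1 (mul_left_cancel e)
    have h2 : b * k ^ i * (b * h) = (k ^ i)⁻¹ * h := by
      rw [← TL.inv_zp (Hi k hk) ki, bi, mul_assoc (b * k ^ i)]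
    rw [h2] at h1
    have pS : (k ^ i)⁻¹ * h ∈ S := S.mul_mem (S.inv_mem (zpow_mem (HS k hk) i)) (HS h hh)
    have pb : Commute ((k ^ i)⁻¹ * h) b := by
      have h3 : b * ((k ^ i)⁻¹ * h) * b⁻¹ = (k ^ i)⁻¹ * h := by
        calc b * ((k ^ i)⁻¹ * h) * b⁻¹ = (b * k ^ i * b⁻¹)⁻¹ * (b * h * b⁻¹) := by group
          _ = (k ^ i)⁻¹ * (k ^ i * k ^ i) * h⁻¹ := by
            rw [TL.inv_zp (Hi k hk) ki, Hi h hh]; group
          _ = (k ^ i)⁻¹ * h := by rw [← e]; group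
      exact (mul_inv_eq_iff_eq_mul.1 h3).symm
    have h4 : h = k ^ i * ((k ^ i)⁻¹ * h) := by group
    generalize (k ^ i)⁻¹ * h = p at h1 pS pb h4
    obtain ⟨m, hm⟩ := h1
    simp only at hm
    obtain ⟨l, rfl | rfl⟩ := Int.even_or_odd' m
    · exact absurd (by rw [← hm, two_mul, zpow_add]) (nsq _ (zpow_mem pS l) (pb.zpow_left l).eq)
    · have h5 : p * p = 1 := TL.odd1 hS (S.mul_mem pS pS) (m := 2 * l + 1) ⟨l, rfl⟩ (by
        rw [(Commute.refl p).mul_zpow, hm, ww])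
      have h6 : p = w := by
        rw [← hm, zpow_add, zpow_mul, zpow_one, zpow_two, h5, one_zpow, one_mul]
      rw [h4, h6]
      exact mul_mem ki wk
  have iff : ∀ y, y ∈ Y ↔ b * y ∈ zpowers k := fun y =>
    ⟨fun hy => main _ (by rw [hH, Set.mem_setOf_eq, bbx]; exact hy), fun hy => bbx y ▸ Hz k hk _ hy⟩
  refine ⟨k, HS k hk, Hi k hk, fun s hs => mem_normalizer_of_forall ?_, iff⟩
  rintro _ ⟨m, rfl⟩
  simp only
  rw [← conj_zpow]
  refine zpow_mem ?_ m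
  have h1 := (iff _).1 (Yc s hs b hb)
  have h2 := (iff _).1 (Yc s hs _ hk)
  convert mul_mem (inv_mem h1) h2 using 1
  group

/-- an abelian 2-group with at most one involution is cyclic -/
theorem cyc_of_uniq {R : Subgroup G} (hR : IsPGroup 2 R) (ab : ∀ a ∈ R, ∀ b ∈ R, a * b = b * a)
    (uq : ∀ a ∈ R, ∀ b ∈ R, a * a = 1 → b * b = 1 → a ≠ 1 → b ≠ 1 → a = b) : ∃ p ∈ R, R ≤ zpowers p := by
  obtain ⟨p, hp, hmax⟩ := Set.exists_max_image (R : Set G) orderOf (Set.toFinite _) ⟨1, R.one_mem⟩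
  refine ⟨p, hp, TL.mz hR (H := R) (fun _ h => h) hp (fun h hh => R.mul_mem hh hh) hmax ?_⟩
  intro h hh i e
  by_cases p1 : p = 1
  · have := hmax h hh
    rw [p1, orderOf_one] at this
    rw [orderOf_eq_one_iff.1 (le_antisymm this (orderOf_pos h))]
    exact one_mem _
  have pi : p ^ i ∈ R := zpow_mem hp i
  have h1 : h = h * (p ^ i)⁻¹ * p ^ i := by group
  by_cases q1 : h * (p ^ i)⁻¹ = 1
  · rw [h1, q1, one_mul]; exact zpow_mem (mem_zpowers p) i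
  obtain ⟨j, v1, vv⟩ := TL.invol hR hp p1
  have h2 : h * (p ^ i)⁻¹ * (h * (p ^ i)⁻¹) = 1 := by
    calc h * (p ^ i)⁻¹ * (h * (p ^ i)⁻¹) = h * ((p ^ i)⁻¹ * h) * (p ^ i)⁻¹ := by group
      _ = h * h * (p ^ i * p ^ i)⁻¹ := by rw [← ab h hh _ (R.inv_mem pi)]; group
      _ = 1 := by rw [e, mul_inv_cancel]
  rw [h1, uq _ (R.mul_mem hh (R.inv_mem pi)) _ (pow_mem hp _) h2 vv q1 v1]
  exact mul_mem (pow_mem (mem_zpowers p) _) (zpow_mem (mem_zpowers p) i)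

/-- a 2-group of automorphisms of a cyclic 2-group fixing an element of order at least four is cyclic -/
theorem cyc {R : Subgroup G} (hR : IsPGroup 2 R) {k j : G} (hk : IsPGroup 2 (zpowers k))
    (hn : R ≤ normalizer ((zpowers k : Subgroup G) : Set G)) (hj : j ∈ zpowers k) (j2 : j * j ≠ 1)
    (hc : R ≤ Cx j) : ∃ ρ ∈ R, ∀ r ∈ R, ∃ m : ℕ, r * (ρ ^ m)⁻¹ ∈ Cx k := by
  let φ : R →* MulAut (zpowers k) := (zpowers k).normalizerMonoidHom.comp (inclusion hn)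
  have φv : ∀ (r : R) (x : zpowers k), (φ r x : G) = r * x * (r : G)⁻¹ := fun r x => rfl
  let κ : zpowers k := ⟨k, mem_zpowers k⟩
  have hκ : ∀ x : zpowers k, ∃ m : ℤ, κ ^ m = x := fun ⟨_, m, e⟩ => ⟨m, Subtype.ext e⟩
  have ext : ∀ α β : MulAut (zpowers k), α κ = β κ → α = β := fun α β h => by
    ext x
    obtain ⟨m, rfl⟩ := hκ x
    rw [map_zpow, map_zpow, h]
  have cm : ∀ x y : zpowers k, x * y = y * x := fun x y => Subtype.ext (TL.comm_zp x.2 y.2)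
  have uz : ∀ x y : zpowers k, x * x = 1 → y * y = 1 → x ≠ 1 → y ≠ 1 → x = y := fun x y h1 h2 h3 h4 =>
    Subtype.ext (TL.uq_zp x.2 y.2 (congrArg Subtype.val h1) (congrArg Subtype.val h2)
      (fun e => h3 (Subtype.ext e)) fun e => h4 (Subtype.ext e))
  have key : ∀ α ∈ φ.range, α * α = 1 → κ⁻¹ * α κ * (κ⁻¹ * α κ) = 1 := by
    rintro _ ⟨r, rfl⟩ h
    by_contra hx
    have hj' : φ r ⟨j, hj⟩ = ⟨j, hj⟩ := Subtype.ext (mem_Cx'.1 (hc r.2))
    have j2' : (⟨j, hj⟩ : zpowers k) * ⟨j, hj⟩ ≠ 1 := fun e => j2 (congrArg Subtype.val e)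
    have hx' : φ r (κ⁻¹ * φ r κ) = (κ⁻¹ * φ r κ)⁻¹ := by
      rw [map_mul, map_inv, ← MulAut.mul_apply, h, MulAut.one_apply, mul_inv_rev, inv_inv]
    generalize κ⁻¹ * φ r κ = x at hx hx'
    generalize (⟨j, hj⟩ : zpowers k) = y at hj' j2'
    generalize φ r = α at hx' hj'
    obtain ⟨a, a1, a2⟩ := Disc.exists_invol hk hx
    obtain ⟨b, b1, b2⟩ := Disc.exists_invol hk j2'
    rw [(Commute.refl x).mul_pow] at a1 a2
    rw [(Commute.refl y).mul_pow] at b1 b2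
    have hd : α (x ^ 2 ^ a) = (x ^ 2 ^ a)⁻¹ := by rw [map_pow, hx', inv_pow]
    have hd' : α (y ^ 2 ^ b) = y ^ 2 ^ b := by rw [map_pow, hj']
    generalize x ^ 2 ^ a = d at a1 a2 hd
    generalize y ^ 2 ^ b = d' at b1 b2 hd'
    have e1 : d * d = d' * d' := uz _ _ a2 b2 a1 b1
    have e2 : d⁻¹ * d' * (d⁻¹ * d') = 1 := by
      calc d⁻¹ * d' * (d⁻¹ * d') = d⁻¹ * (d' * d⁻¹) * d' := by group
        _ = (d * d)⁻¹ * (d' * d') := by rw [cm d' d⁻¹]; group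
        _ = 1 := by rw [e1, inv_mul_cancel]
    have e3 : α (d⁻¹ * d') = d⁻¹ * d' := by
      by_cases e4 : d⁻¹ * d' = 1
      · rw [e4, map_one]
      · rw [uz _ _ e2 b2 e4 b1, map_mul, hd']
    rw [map_mul, map_inv, hd, hd', inv_inv] at e3
    exact a1 (by
      have := mul_right_cancel e3
      rw [eq_inv_iff_mul_eq_one] at this
      exact this)
  obtain ⟨_, ⟨ρ, rfl⟩, h⟩ := cyc_of_uniq (R := φ.range) (hR.of_surjective φ.rangeRestrict
    φ.rangeRestrict_surjective)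
    (fun α _ β _ => ext _ _ (by
      obtain ⟨a, ha⟩ := hκ (α κ)
      obtain ⟨b, hb⟩ := hκ (β κ)
      rw [MulAut.mul_apply, MulAut.mul_apply, ← ha, ← hb, map_zpow, map_zpow, ← ha, ← hb, ← zpow_mul,
        ← zpow_mul, mul_comm]))
    (fun α hα β hβ h1 h2 h3 h4 => ext _ _ (mul_left_cancel (a := κ⁻¹)
      (uz _ _ (key α hα h1) (key β hβ h2)
        (fun e => h3 (ext _ _ (inv_mul_eq_one.1 e).symm))
        fun e => h4 (ext _ _ (inv_mul_eq_one.1 e).symm))))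
  refine ⟨ρ, ρ.2, fun r hr => ?_⟩
  obtain ⟨m, hm⟩ := (mem_powers_iff_mem_zpowers.2 (h ⟨⟨r, hr⟩, rfl⟩))
  refine ⟨m, mem_Cx'.2 ?_⟩
  have h1 : φ (⟨r, hr⟩ * (ρ ^ m)⁻¹) = 1 := by
    simp only at hm
    rw [map_mul, map_inv, map_pow, hm, mul_inv_cancel]
  have h2 := φv (⟨r, hr⟩ * (ρ ^ m)⁻¹) κ
  rw [h1] at h2
  exact h2.symm

end CfsgLib.Rk3B
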