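import Cfsg.Agent.Lib.Rk3B.C1
import Cfsg.Agent.Lib.Rk3B.Tl
import Cfsg.Agent.Lib.Rk3B.OndA

/-!
Coordinates on the abelian group `C`  (plans/RK3B.md, package OND)
-/

set_option autoImplicit false

namespace CfsgLib.Rk3B.OND

open Subgroup Cfsg CfsgLib.Tech CfsgLib.W2 CfsgLib.Rk3

universe v

theorem model {G : Type v} [Group G] (C : Subgroup G) (ab : ∀ a ∈ C, ∀ b ∈ C, a * b = b * a) :
    ∃ (M : Type v) (_ : AddCommGroup M) (ι : M → G), Function.Injective ι ∧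
      (∀ x y, ι (x + y) = ι x * ι y) ∧ ι 0 = 1 ∧ (∀ x, ι (-x) = (ι x)⁻¹) ∧
      (∀ (k : ℤ) x, ι (k • x) = ι x ^ k) ∧ (∀ x, x ∈ C ↔ ∃ m, ι m = x) ∧
      ∀ n ∈ normalizer (C : Set G), ∃ φ : M →+ M, ∀ x, ι (φ x) = n * ι x * n⁻¹ := by
  letI : CommGroup C := { (inferInstance : Group C) with
    mul_comm := fun a b => Subtype.ext (ab _ a.2 _ b.2) }
  refine ⟨Additive C, inferInstance, fun x => (x.toMul : C), fun a b h => Subtype.ext h, fun _ _ => rfl,
    rfl, fun _ => rfl, fun k x => by simp, fun x => ⟨fun h => ⟨Additive.ofMul ⟨x, h⟩, rfl⟩, ?_⟩,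
    fun n hn => ⟨AddMonoidHom.mk' (fun x => Additive.ofMul ⟨n * (x.toMul : C) * n⁻¹,
      conj_mem_of_mem_normalizer hn x.toMul.2⟩) fun a b => ?_, fun _ => rfl⟩⟩
  · rintro ⟨m, rfl⟩
    exact m.toMul.2
  · exact Subtype.ext (conj_mul (a := (a.toMul : G)) (b := n) (c := (b.toMul : G))).symm

variable {G : Type*} [Group G] [Finite G] {S : Subgroup G} {z u g e : G}

omit [Finite G] in
theorem zev {v : G} (vv : v * v = 1) {i : ℤ} (hi : Even i) : v ^ i = 1 := by
  obtain ⟨k, rfl⟩ := hi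
  rw [← two_mul, zpow_mul, zpow_two, vv, one_zpow]

omit [Finite G] in
theorem zod {v : G} (vv : v * v = 1) {i : ℤ} (hi : Odd i) : v ^ i = v := by
  obtain ⟨k, rfl⟩ := hi
  rw [zpow_add, zpow_mul, zpow_two, vv, one_zpow, one_mul, zpow_one]

/-- `N(C)` is transitive on the involutions of `A` -/
theorem trans (q : Q S z u g e) (gl : GLP S z u e) {a : G} (ha : a ∈ V3 z u e) (a1 : a ≠ 1) :
    ∃ n ∈ normalizer ((S ⊓ Cx u ⊓ Cx e : Subgroup G) : Set G), n * z * n⁻¹ = a := by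
  have zA : z ∈ V3 z u e := V2_le_V3 _ _ _ (l_V2 _ _)
  by_cases az : a = z
  · exact ⟨1, one_mem _, by simp [az]⟩
  by_cases aU : a ∈ V2 z u
  · obtain ⟨n, hn, h, -⟩ := gl a ha z zA e (r_V3 _ _ _) a1 q.c.z1 (Ne.symm az)
      fun h => q.n.nU ((V2_le.2 ⟨aU, l_V2 _ _⟩ : V2 a z ≤ V2 z u) h)
    exact ⟨n, hn, h⟩
  · obtain ⟨n, hn, h, -⟩ := gl a ha z zA u (V2_le_V3 _ _ _ (r_V2 _ _)) a1 q.c.z1 (Ne.symm az) fun h => by
      rcases (mem_V2 (q.n.elE q.c a ha) q.c.zz ((q.n.elE q.c).comm ha zA)).1 h with h | h | h | h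
      · exact q.c.u1 h
      · exact aU (h ▸ r_V2 _ _)
      · exact q.c.uz h
      · exact aU (by
          have := mul_mem (r_V2 z u) (l_V2 z u)
          rwa [h, mul_assoc, q.c.zz, mul_one, ← h] at this)
    exact ⟨n, hn, h⟩

theorem exists_w (rk : PRankLE 2 3 G) {t s ρ r a : G} (b : BX S z u g e t s ρ) (gl : GLP S z u e)
    (ab : ∀ a ∈ S ⊓ Cx u ⊓ Cx e, ∀ b ∈ S ⊓ Cx u ⊓ Cx e, a * b = b * a) (hr : r = g * t * g⁻¹)
    (ha : a = t * r * (s * r * s)) (aC : a ∈ S ⊓ Cx u ⊓ Cx e) (ga : t * g * a = a * (t * g))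
    (sa : s * t * a * (s * t)⁻¹ = a⁻¹) (hh : ∃ h ∈ zpowers a, h * h = e * u) :
    ∃ w : ZMod 4 → ZMod 4 → ZMod 4 → G, Wr w t s ∧ w 0 2 0 = z ∧ w 0 0 2 = u ∧ w 2 0 0 = e ∧
      w 3 0 1 = a ∧ (∀ a b c, r * w a b c * r⁻¹ = w (-a) (-b) (a + c)) ∧
      ∀ x, x ∈ S ⊓ Cx u ⊓ Cx e ↔ ∃ a b c, w a b c = x := by
  have q := b.j.q
  have c := q.c
  obtain ⟨M, _, ι, inj, add, i0, neg, zs, mem, hom⟩ := model _ ab
  have tT := b.tJ.1
  have rJ : JJ S z u e r := hr ▸ q.jj_g b.tJ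
  have tt := (q.jj_sq b.tJ).1
  have rr := (q.jj_sq rJ).1
  have ti : t⁻¹ = t := inv_eq_of_mul_eq_one_right tt
  have ri : r⁻¹ = r := inv_eq_of_mul_eq_one_right rr
  have si : s⁻¹ = s := inv_eq_of_mul_eq_one_right b.ss
  have nS : ∀ x ∈ S, x ∈ normalizer ((S ⊓ Cx u ⊓ Cx e : Subgroup G) : Set G) := fun x hx =>
    mem_normalizer_of_forall fun y hy => q.conj_C hx hy
  obtain ⟨T, hT⟩ := hom t (nS t tT.1)
  obtain ⟨R, hR⟩ := hom r (nS r rJ.1.1)
  obtain ⟨S0, hS⟩ := hom s (nS s b.sS)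
  obtain ⟨Γ, hΓ⟩ := hom g q.gC
  obtain ⟨z0, hz⟩ := (mem z).1 (q.A_le (V2_le_V3 _ _ _ (l_V2 _ _)))
  obtain ⟨u0, hu⟩ := (mem u).1 (q.A_le (V2_le_V3 _ _ _ (r_V2 _ _)))
  obtain ⟨e0, he⟩ := (mem e).1 (q.A_le (r_V3 _ _ _))
  obtain ⟨a0, ha0⟩ := (mem a).1 aC
  have iC : ∀ x, ι x ∈ S ⊓ Cx u ⊓ Cx e := fun x => (mem _).2 ⟨x, rfl⟩
  have cong : ∀ {p p' k : G}, k ∈ S ⊓ Cx u ⊓ Cx e → p = p' * k → ∀ x, p * ι x * p⁻¹ = p' * ι x * p'⁻¹ := by
    rintro p p' k hk rfl x
    calc _ = p' * (k * ι x) * k⁻¹ * p'⁻¹ := by group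
      _ = _ := by rw [ab _ hk _ (iC x)]; group
  have t2 : s * r * s = g⁻¹ * t * g := by
    calc s * r * s = (s * g * s⁻¹) * (s * t) * s⁻¹ * (s * g * s⁻¹)⁻¹ * (s * s) := by rw [hr]; group
      _ = _ := by rw [b.sg, b.st, b.ss]; group
  have t2' : s * r * s = r * t * a := by
    rw [ha, mul_assoc r, ← mul_assoc t, ← mul_assoc t, tt, one_mul, ← mul_assoc, rr, one_mul]
  have tr : ∀ x, r * t * ι x * (r * t)⁻¹ = t * r * ι x * (t * r)⁻¹ :=
    cong (q.sqC (mul_mem rJ.1 tT)) (by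
      rw [← mul_assoc, mul_assoc t r, ← mul_assoc r, rr, one_mul, tt, one_mul])
  have re : cm r e = u := by rw [hr, q.cm_g, b.te, c.gz]
  have H : Ab T R S0 Γ z0 u0 e0 a0 :=
    { zz := inj (by rw [add, hz, i0, c.zz])
      uu := inj (by rw [add, hu, i0, c.uu])
      ee := inj (by rw [add, he, i0, q.n.ee])
      ind := fun i j k h => by
        have h := congrArg ι h
        rw [add, add, zs, zs, zs, hz, hu, he, i0] at h
        have hk : Even k := by
          refine (Int.even_or_odd k).resolve_right fun hk => q.n.nU ?_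
          rw [zod q.n.ee hk] at h
          rw [eq_inv_of_mul_eq_one_right h]
          exact inv_mem (mul_mem (zpow_mem (l_V2 _ _) _) (zpow_mem (r_V2 _ _) _))
        rw [zev q.n.ee hk, mul_one] at h
        rcases Int.even_or_odd i with hi | hi <;> rcases Int.even_or_odd j with hj | hj
        · exact ⟨hi, hj, hk⟩
        · rw [zev c.zz hi, zod c.uu hj, one_mul] at h
          exact absurd h c.u1
        · rw [zod c.zz hi, zev c.uu hj, mul_one] at h
          exact absurd h c.z1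
        · rw [zod c.zz hi, zod c.uu hj] at h
          exact absurd h c.zu_ne_one
      om := fun x hx => by
        have h := congrArg ι hx
        rw [add, i0] at h
        have key : ∀ y ∈ V2 z u, ∃ i j : ℤ, y = z ^ i * u ^ j := fun y hy => by
          rcases c.mem_U.1 hy with h | h | h | h
          exacts [⟨0, 0, by simp [h]⟩, ⟨1, 0, by simp [h]⟩, ⟨0, 1, by simp [h]⟩, ⟨1, 1, by simp [h]⟩]
        rcases (q.n.mem_E c).1 (q.omC rk (iC x) h) with h | h
        · obtain ⟨i, j, h⟩ := key _ h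
          exact ⟨i, j, 0, inj (by rw [add, add, zs, zs, zs, hz, hu, he, h]; simp)⟩
        · obtain ⟨i, j, h⟩ := key _ h
          exact ⟨i, j, 1, inj (by
            rw [add, add, zs, zs, zs, hz, hu, he, ← h, zpow_one, mul_assoc, q.n.ee, mul_one])⟩
      tz := inj (by rw [hT, hz, c.zc t tT.1, mul_inv_cancel_right])
      tu := inj (by rw [hT, hu, mem_Cx'.1 tT.2])
      te := inj (by rw [hT, add, hz, he, ← b.te, cm, mul_assoc _ e e, q.n.ee, mul_one])
      re := inj (by rw [hR, add, hu, he, ← re, cm, mul_assoc _ e e, q.n.ee, mul_one])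
      ru := inj (by rw [hR, hu, mem_Cx'.1 rJ.1.2])
      gz := inj (by rw [hΓ, hz, hu, c.gz])
      gu := inj (by rw [hΓ, add, hz, hu, c.gu])
      ge := inj (by rw [hΓ, he, q.ge])
      tt := fun x => inj (by
        rw [hT, hT, ti, ← mul_assoc, ← mul_assoc, tt, one_mul, mul_assoc, tt, mul_one])
      rr := fun x => inj (by
        rw [hR, hR, ri, ← mul_assoc, ← mul_assoc, rr, one_mul, mul_assoc, rr, mul_one])
      tr := fun x => inj (by
        rw [hR, hT, hT, hR]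
        convert tr x using 1 <;> group)
      st := fun x => inj (by
        rw [hS, hT, hT, hS]
        calc _ = s * t * ι x * (s * t)⁻¹ := by group
          _ = _ := by rw [b.st]; group)
      sr := fun x => inj (by
        have h1 := cong aC t2' (S0 x)
        rw [tr, hS] at h1
        rw [hS, hR, hT, hR, hS]
        calc _ = s * r * s * (s * s)⁻¹ * (s * ι x * s⁻¹) * (s * r * s * (s * s)⁻¹)⁻¹ := by group
          _ = _ := by rw [b.ss, inv_one, mul_one, h1]; group)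
      gt := fun x => inj (by rw [hΓ, hT, hR, hΓ, hr]; group)
      gr := fun x => inj (by
        have h1 := cong aC t2' (Γ x)
        rw [tr, hΓ, t2] at h1
        rw [hΓ, hR, hT, hR, hΓ]
        calc _ = g⁻¹ * (g ^ 3 * t) * (g ^ 3)⁻¹ * g * (g * ι x * g⁻¹) *
              (g⁻¹ * (g ^ 3 * t) * (g ^ 3)⁻¹ * g)⁻¹ := by rw [hr, pow_three]; group
          _ = _ := by rw [q.g3 t tT, mul_assoc g⁻¹, mul_inv_cancel_right, h1]; group)
      ggg := fun x => inj (by
        rw [hΓ, hΓ, hΓ]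
        calc _ = g ^ 3 * ι x * (g ^ 3)⁻¹ := by rw [pow_three]; group
          _ = _ := by rw [q.g3 _ (iC x).1, mul_inv_cancel_right])
      ga := inj (by
        rw [hT, hΓ, ha0]
        calc _ = t * g * a * (t * g)⁻¹ := by group
          _ = _ := by rw [ga, mul_inv_cancel_right])
      sa := inj (by rw [hS, hT, neg, ha0, ← sa]; group)
      ha := by
        obtain ⟨h, ⟨m, rfl⟩, hm⟩ := hh
        exact ⟨m, inj (by rw [add, add, zs, ha0, he, hu]; exact hm)⟩
      ys := fun y hy => by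
        have h := congrArg ι hy
        rw [hT, mul_inv_eq_iff_eq_mul] at h
        rcases b.ys _ (iC y) h.symm with h | h
        · exact Or.inl (inj (by rw [hS, h]))
        · exact Or.inr (inj (by rw [hS, h, add, hz]))
      big := fun x hx => by
        obtain ⟨j, h1, h2⟩ := TL.invol c.syl.pgroup (iC (x + x + (x + x))).1.1
          fun h => hx (inj (h.trans i0.symm))
        have vC := pow_mem (iC (x + x + (x + x))) (2 ^ j)
        obtain ⟨n, hn, en⟩ := trans q gl (q.omC rk vC h2) h1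
        obtain ⟨n', hn', en'⟩ := trans q gl
          (mul_mem (r_V3 z u e) (V2_le_V3 _ _ _ (r_V2 z u))) fun h => q.n.nU (by
            rw [eq_inv_of_mul_eq_one_left h]; exact inv_mem (r_V2 _ _))
        obtain ⟨φ, hφ⟩ := hom _ (mul_mem hn' (inv_mem hn))
        refine ⟨φ (((2 ^ j : ℕ) : ℤ) • x), inj ?_⟩
        rw [← map_add, ← map_add, ← smul_add, ← smul_add, hφ, zs, zpow_natCast, ← en, add, he, hu, ← en']
        group }
  obtain ⟨W, wa, w0, wt, ws, wr, wz, wu, we, wa', su⟩ := H.exists_W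
  have wn : ∀ a b c, W (-a) (-b) (-c) = -W a b c := fun a b c => by
    have h0 : W 0 0 0 = 0 := by simpa using wa 0 0 0 0 0 0
    rw [eq_neg_iff_add_eq_zero, wa, ← h0]
    simp
  refine ⟨fun a b c => ι (W a b c), ⟨fun a b c a' b' c' => by rw [← add, wa], fun {a b c a' b' c'} h => ?_,
    fun a b c => by rw [← hT, wt], fun a b c => by rw [← hS, ws], tt, b.ss, b.st⟩, (congrArg ι wz).trans hz,
    (congrArg ι wu).trans hu, (congrArg ι we).trans he, (congrArg ι wa').trans ha0,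
    fun a b c => by rw [← hR, wr], fun x => (mem x).trans ⟨?_, ?_⟩⟩
  · simpa [← sub_eq_add_neg, sub_eq_zero] using
      w0 (a + -a') (b + -b') (c + -c') (by rw [← wa, wn, inj h, add_neg_cancel])
  · rintro ⟨m, rfl⟩
    obtain ⟨a, b, c, rfl⟩ := su m
    exact ⟨a, b, c, rfl⟩
  · rintro ⟨a, b, c, rfl⟩
    exact ⟨_, rfl⟩

end CfsgLib.Rk3B.OND
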