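import Cfsg.Agent.Lib.Rk3B.Ka
import Cfsg.Agent.Lib.Rk3B.Gl
import Cfsg.Agent.Lib.Rk3B.OndB

/-!
The Sylow 2-subgroup is determined  (plans/RK3B.md, package OND)
-/

set_option autoImplicit false

namespace CfsgLib.Rk3B

open Subgroup Cfsg CfsgLib.Tech CfsgLib.W2 CfsgLib.Rk3

variable {G : Type*} [Group G] [Finite G] {S : Subgroup G} {z u g e : G}

namespace OND

variable {w : ZMod 4 → ZMod 4 → ZMod 4 → G} {t s : G}

omit [Finite G] in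
theorem comm (h : Wr w t s) (a b c a' b' c' : ZMod 4) : w a b c * w a' b' c' = w a' b' c' * w a b c := by
  rw [h.mul, h.mul, add_comm a, add_comm b, add_comm c]

omit [Finite G] in
theorem wt (h : Wr w t s) (a b c : ZMod 4) : w a b c * t * (w a b c)⁻¹ = w (2 * a) (-a) (2 * c) * t := by
  calc _ = w a b c * (t * (w a b c)⁻¹ * t⁻¹) * t := by group
    _ = _ := by rw [h.inv, h.tw, h.mul]; congr 2 <;> ring

omit [Finite G] in
theorem inX (h : Wr w t s) {a c : ZMod 4} (ha : 2 * a = 0) (b : ZMod 4) (hc : 2 * c = 0) :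
    w a b c ∈ X1 w t s := by
  have h0 : w 0 0 0 ∈ X1 w t s := h.one ▸ one_mem _
  have h1 : w 2 0 0 ∈ X1 w t s := subset_closure (by simp)
  have h2 : w 0 0 2 ∈ X1 w t s := subset_closure (by simp)
  have h3 : w 0 1 0 ∈ X1 w t s := by
    have := mul_mem (subset_closure (by simp) : w 0 1 2 ∈ X1 w t s) h2
    rwa [h.mul] at this
  have k : ∀ x : ZMod 4, 2 * x = 0 → x = 0 ∨ x = 2 := by decide
  have h4 : w a 0 0 ∈ X1 w t s := by rcases k a ha with rfl | rfl <;> assumption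
  have h5 : w 0 0 c ∈ X1 w t s := by rcases k c hc with rfl | rfl <;> assumption
  have h6 : w 0 b 0 ∈ X1 w t s := by
    have h7 := mul_mem h3 h3
    have h8 := inv_mem h3
    rw [h.mul] at h7
    rw [h.inv] at h8
    rcases (by decide : ∀ x : ZMod 4, x = 0 ∨ x = 1 ∨ x = 2 ∨ x = 3) b with rfl | rfl | rfl | rfl
    exacts [h0, h3, h7, h8]
  have := mul_mem (mul_mem h4 h6) h5
  rwa [h.mul, h.mul, add_zero, add_zero, zero_add, add_zero, zero_add, zero_add] at this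

omit [Finite G] in
theorem X1_le {M : Subgroup G} :
    X1 w t s ≤ M ↔ w 2 0 0 ∈ M ∧ w 0 0 2 ∈ M ∧ w 0 1 2 ∈ M ∧ t ∈ M ∧ s ∈ M := by
  simp [closure_le, Set.insert_subset_iff]

theorem j1 (h : Wr w t s) : w 0 0 1 ∈ normalizer ((X1 w t s : Subgroup G) : Set G) := by
  obtain ⟨h1, h2, h3, h4, h5⟩ := X1_le.1 (le_refl (X1 w t s))
  refine mem_normalizer_of_forall fun x hx =>
    (X1_le (M := (X1 w t s).comap (MulAut.conj (w 0 0 1)).toMonoidHom)).2 ⟨?_, ?_, ?_, ?_, ?_⟩ hx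
  · show w 0 0 1 * _ * (w 0 0 1)⁻¹ ∈ X1 w t s
    rwa [comm h, mul_inv_cancel_right]
  · show w 0 0 1 * _ * (w 0 0 1)⁻¹ ∈ X1 w t s
    rwa [comm h, mul_inv_cancel_right]
  · show w 0 0 1 * _ * (w 0 0 1)⁻¹ ∈ X1 w t s
    rwa [comm h, mul_inv_cancel_right]
  · show w 0 0 1 * _ * (w 0 0 1)⁻¹ ∈ X1 w t s
    rw [wt h]
    exact mul_mem (inX h (by decide) _ (by decide)) h4
  · show w 0 0 1 * _ * (w 0 0 1)⁻¹ ∈ X1 w t s
    rw [show w 0 0 1 * s * (w 0 0 1)⁻¹ = w 0 0 1 * (s * (w 0 0 1)⁻¹ * s⁻¹) * s by group, h.inv, h.sw, h.mul]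
    exact mul_mem (inX h (by decide) _ (by decide)) h5

omit [Finite G] in
theorem icen (h : Wr w t s) : X1 w t s ≤ Cx (w 0 1 2) :=
  X1_le.2 ⟨mem_Cx.2 (comm h ..), mem_Cx.2 (comm h ..), mem_Cx.2 rfl, mem_Cx'.2 (h.tw ..), mem_Cx'.2 (h.sw ..)⟩

end OND

open OND in
theorem BX.ong (rk : PRankLE 2 3 G) {t s ρ : G} (b : BX S z u g e t s ρ) (gl : GLP S z u e)
    (ab : ∀ a ∈ S ⊓ Cx u ⊓ Cx e, ∀ b ∈ S ⊓ Cx u ⊓ Cx e, a * b = b * a) :
    ∃ w r ρ', ONG S z u g e w t s r ρ' := by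
  have q := b.j.q
  have c := q.c
  obtain ⟨r, hr⟩ : ∃ r, r = g * t * g⁻¹ := ⟨_, rfl⟩
  have tT := b.tJ.1
  have rJ : JJ S z u e r := hr ▸ q.jj_g b.tJ
  have tt := (q.jj_sq b.tJ).1
  have rr := (q.jj_sq rJ).1
  have si : s⁻¹ = s := inv_eq_of_mul_eq_one_right b.ss
  have t2 : s * r * s = g⁻¹ * t * g := by
    calc s * r * s = (s * g * s⁻¹) * (s * t) * s⁻¹ * (s * g * s⁻¹)⁻¹ * (s * s) := by rw [hr]; group
      _ = _ := by rw [b.sg, b.st, b.ss]; group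
  obtain ⟨aC, ga, sa, hh⟩ := b.ka rk (a := t * r * (s * r * s)) (by rw [t2, hr])
  obtain ⟨w, h, ez, eu, ee, ea, rw', mC⟩ := exists_w rk b gl ab hr rfl aC ga sa hh
  have wC : ∀ a b c, w a b c ∈ S ⊓ Cx u ⊓ Cx e := fun a b c => (mC _).2 ⟨a, b, c, rfl⟩
  have re : cm r e = u := by rw [hr, q.cm_g, b.te, c.gz]
  have rs : r * s * r = t * s * w 3 1 1 := by
    calc _ = (t * t)⁻¹ * r * s * r * (s * s) := by rw [tt, b.ss]; group
      _ = t⁻¹ * s⁻¹ * (s * (t⁻¹ * r * (s * r * s)) * s) := by group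
      _ = _ := by
        rw [inv_eq_of_mul_eq_one_right tt, ← ea, si]
        exact congrArg _ ((congrArg _ si.symm).trans (h.sw 3 0 1))
  have rt : r * t * r = t * w 2 1 1 := by
    have h1 : w 3 0 1 * (r * (t * w 3 0 1 * t⁻¹) * r⁻¹) = w 2 1 1 := by
      rw [h.tw, rw', h.mul]; rfl
    have k : ∀ {v : G}, v * v = 1 → ∀ x, v * (v * x) = x := fun hv x => by rw [← mul_assoc, hv, one_mul]
    rw [← h1, ea, inv_eq_of_mul_eq_one_right tt, inv_eq_of_mul_eq_one_right rr]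
    simp only [mul_assoc, k tt, k rr, k b.ss]
  have mT : ∀ y ∈ S ⊓ Cx u, ∃ a b c, ∃ i k : Fin 2, w a b c * t ^ i.val * r ^ k.val = y := fun y hy => by
    have key : ∀ x ∈ S ⊓ Cx u, cm x e = 1 → ∃ a b c, w a b c = x := fun x hx h1 =>
      (mC x).1 ⟨hx, mem_Cx.2 ((cm_eq_one q.n.ee).1 h1)⟩
    rcases c.mem_U.1 (q.n.nm y hy.1) with h1 | h1 | h1 | h1
    · obtain ⟨a, b, c, h2⟩ := key y hy h1
      exact ⟨a, b, c, 0, 0, by simp [h2]⟩
    · obtain ⟨a, b, c, h2⟩ := key _ (mul_mem hy tT) (by rw [q.n.cm_mul c hy tT, b.te, cm, h1, c.zz])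
      exact ⟨a, b, c, 1, 0, by simp [h2, mul_assoc, tt]⟩
    · obtain ⟨a, b, c, h2⟩ := key _ (mul_mem hy rJ.1) (by rw [q.n.cm_mul c hy rJ.1, re, cm, h1, c.uu])
      exact ⟨a, b, c, 0, 1, by simp [h2, mul_assoc, rr]⟩
    · obtain ⟨a, b, c, h2⟩ := key _ (mul_mem (mul_mem hy rJ.1) tT) (by
        rw [q.n.cm_mul c (mul_mem hy rJ.1) tT, q.n.cm_mul c hy rJ.1, re, b.te, cm, h1, mul_assoc z, c.uu,
          mul_one, c.zz])
      exact ⟨a, b, c, 1, 1, by simp [h2, mul_assoc, rr, tt]⟩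
  have mS : ∀ x, x ∈ S ↔ ∃ a b c, ∃ i j k : Fin 2, w a b c * t ^ i.val * s ^ j.val * r ^ k.val = x :=
    fun x => ⟨fun hx => by
      rcases c.su x hx with h1 | h1
      · obtain ⟨a, b, c, i, k, h2⟩ := mT x ⟨hx, mem_Cx.2 h1⟩
        exact ⟨a, b, c, i, 0, k, by simpa using h2⟩
      · obtain ⟨a, b', c, i, k, h2⟩ := mT _ (c.mul_mem_T b.sS hx b.su h1)
        refine ⟨-a - 2 * c, c - b', c, i, 1, k, ?_⟩
        rw [← h.sw a b' c, Fin.val_one, pow_one, mul_assoc _ _ s, ← (Commute.pow_right b.st _).eq]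
        calc _ = s * (s * x) * (s * x)⁻¹ * (w a b' c * t ^ i.val * r ^ k.val) := by group
          _ = _ := by rw [h2, ← mul_assoc s, b.ss]; group, by
      rintro ⟨a, b', c, i, j, k, rfl⟩
      exact mul_mem (mul_mem (mul_mem (wC ..).1.1 (pow_mem tT.1 _)) (pow_mem b.sS _)) (pow_mem rJ.1.1 _)⟩
  have mV : ∀ {x}, x ∈ V2 z t ↔ x = 1 ∨ x = z ∨ x = t ∨ x = z * t := mem_V2 c.zz tt (c.zc t tT.1).symm
  have tC : t ∉ S ⊓ Cx u ⊓ Cx e := fun h => b.tJ.2.1 (mem_Cx.1 h.2)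
  have hV : ∀ a b c, w a b c * t ∈ V2 z t → a = 0 ∧ c = 0 := fun a b' c' h1 => by
    rcases mV.1 h1 with h1 | h1 | h1 | h1
    · exact absurd (eq_inv_of_mul_eq_one_right h1 ▸ inv_mem (wC ..)) tC
    · exact absurd (eq_inv_mul_of_mul_eq h1 ▸ mul_mem (inv_mem (wC ..)) (ez ▸ wC ..)) tC
    · have := h.inj ((mul_eq_right.1 h1).trans h.one.symm)
      exact ⟨this.1, this.2.2⟩
    · have := h.inj ((mul_right_cancel h1).trans ez.symm)
      exact ⟨this.1, this.2.2⟩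
  have nV : ∀ x ∈ S, x * t * x⁻¹ = t ∨ x * t * x⁻¹ = z * t →
      x ∈ S ⊓ normalizer ((V2 z t : Subgroup G) : Set G) := fun x hx h1 => ⟨hx, mem_normalizer_of_cj_le (by
    rw [cj_V2, c.zc x hx, mul_inv_cancel_right]
    exact V2_le.2 ⟨l_V2 _ _, mV.2 (Or.inr (Or.inr h1))⟩)⟩
  have le1 : X1 w t s ≤ S ⊓ normalizer ((V2 z t : Subgroup G) : Set G) :=
    X1_le.2 ⟨nV _ (wC ..).1.1 (Or.inr (by rw [wt h, ← ez]; rfl)),
      nV _ (wC ..).1.1 (Or.inl (by rw [wt h, mul_eq_right, ← h.one]; rfl)),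
      nV _ (wC ..).1.1 (Or.inl (by rw [wt h, mul_eq_right, ← h.one]; rfl)),
      nV _ tT.1 (Or.inl (by group)), nV _ b.sS (Or.inl (by rw [b.st, mul_inv_cancel_right]))⟩
  have eX : S ⊓ normalizer ((V2 z t : Subgroup G) : Set G) = X1 w t s := by
    refine le_antisymm (fun x hx => ?_) le1
    obtain ⟨a, b', c', i, j, k, rfl⟩ := (mS x).1 hx.1
    obtain ⟨-, -, -, h4, h5⟩ := X1_le.1 (le_refl (X1 w t s))
    have pX := mul_mem (pow_mem h4 i.val) (pow_mem h5 j.val)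
    obtain ⟨p, hp⟩ : ∃ p, p = t ^ i.val * s ^ j.val := ⟨_, rfl⟩
    rw [mul_assoc (w a b' c'), ← hp] at hx ⊢
    rw [← hp] at pX
    obtain ⟨a', b'', c'', h1⟩ := (mC _).1 (q.conj_C (inv_mem (le1 pX).1) (wC a b' c'))
    have h2 : w a b' c' * p * r ^ k.val = p * (w a' b'' c'' * r ^ k.val) := by rw [h1]; group
    rw [h2] at hx ⊢
    have h3 := conj_mem_of_mem_normalizer ((mul_mem_cancel_left (le1 pX)).1 hx).2 (r_V2 z t)
    refine mul_mem pX ?_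
    fin_cases k
    · simp only [pow_zero, mul_one] at h3 ⊢
      rw [wt h] at h3
      exact inX h (hV _ _ _ h3).1 _ (hV _ _ _ h3).2
    · exfalso
      simp only [pow_one] at h3
      rw [show w a' b'' c'' * r * t * (w a' b'' c'' * r)⁻¹ =
          w a' b'' c'' * (r * t * r * (r * r)⁻¹) * (w a' b'' c'')⁻¹ by group, rr, inv_one, mul_one, rt,
        show w a' b'' c'' * (t * w 2 1 1) * (w a' b'' c'')⁻¹ =
          w a' b'' c'' * (t * (w 2 1 1 * (w a' b'' c'')⁻¹) * t⁻¹) * t by group, h.inv, h.mul, h.tw,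
        h.mul] at h3
      exact (by decide : ∀ x : ZMod 4, x + -(1 + -x) ≠ 0) _ (hV _ _ _ h3).2
  have ρX := eX ▸ b.ρX
  obtain ⟨x1, x2, x3, -, -⟩ := X1_le.1 (le_refl (X1 w t s))
  refine ⟨w, r, ρ * w 0 0 1 * ρ⁻¹, q, gl, h, ez, eu, ee, rw', rr, rt, rs, mC, mS, b.tJ.2.2, ?_,
    mul_mem (mul_mem ρX (j1 h)) (inv_mem ρX), ?_⟩
  · have k : ∀ y ∈ X1 w t s, ρ⁻¹ * w 0 1 2 * ρ⁻¹⁻¹ ∈ Cx y := fun y hy => by
      have := conj_mem_Cx (g := ρ⁻¹).2 (Cx_comm.1 (icen h (conj_mem_of_mem_normalizer ρX hy)))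
      rwa [show ρ⁻¹ * (ρ * y * ρ⁻¹) * ρ⁻¹⁻¹ = y by group] at this
    obtain ⟨a, b', c', h1⟩ := (mC _).1
      ⟨⟨(le1 (conj_mem_of_mem_normalizer (inv_mem ρX) x3)).1, k _ (eu ▸ x2)⟩, k _ (ee ▸ x1)⟩
    calc _ = ρ * (w 0 0 1 * (ρ⁻¹ * w 0 1 2 * ρ⁻¹⁻¹)) * ρ⁻¹ := by group
      _ = _ := by rw [← h1, comm h, h1]; group
  · have uC : u ∈ S ⊓ Cx u ⊓ Cx e := eu ▸ wC ..
    have zC : z ∈ S ⊓ Cx u ⊓ Cx e := ez ▸ wC ..
    have ρz : ρ * z * ρ⁻¹ = z := by rw [b.ρz, mul_inv_cancel_right]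
    have ρu : ρ * u * ρ⁻¹ ∉ S ⊓ Cx u ⊓ Cx e := fun h1 => by
      rcases b.ρu with h2 | h2
      · exact tC (h2 ▸ h1)
      · exact tC ((mul_mem_cancel_left zC).1 (h2 ▸ h1))
    have hv := conj_mem_of_mem_normalizer (inv_mem b.ρE) (V2_le_V3 z u t (r_V2 z u))
    obtain ⟨v, ev⟩ : ∃ v, v = ρ⁻¹ * u * ρ⁻¹⁻¹ := ⟨_, rfl⟩
    have ev' : ρ * v * ρ⁻¹ = u := by rw [ev]; group
    rw [← ev, mem_V3 tt (c.zc t tT.1) (mem_Cx.1 tT.2)] at hv
    rcases hv with hv | hv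
    · exfalso
      rcases c.mem_U.1 hv with rfl | rfl | rfl | rfl
      · exact c.u1 (by rw [← ev']; group)
      · exact c.uz (ev'.symm.trans ρz)
      · exact ρu (ev'.symm ▸ uC)
      · rw [← conj_mul, ρz] at ev'
        exact ρu ((mul_mem_cancel_left zC).1 (ev'.symm ▸ uC))
    · have h1 : w 0 0 1 * v * (w 0 0 1)⁻¹ = u * v := by
        calc _ = w 0 0 1 * (v * t) * (t * t)⁻¹ * t * (w 0 0 1)⁻¹ := by group
          _ = v * t * (w 0 0 1 * t * (w 0 0 1)⁻¹) := by rw [tt, c.cU (wC ..).1 hv]; group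
          _ = v * t * u * t := by rw [wt h, ← eu, mul_assoc (v * t)]; rfl
          _ = _ := by rw [c.elU.comm hv (r_V2 _ _), mul_assoc, mul_assoc, tt, mul_one]
      have h2 : ρ * w 0 0 1 * ρ⁻¹ * u * (ρ * w 0 0 1 * ρ⁻¹)⁻¹ = ρ * u * ρ⁻¹ * u := by
        calc _ = ρ * (w 0 0 1 * v * (w 0 0 1)⁻¹) * ρ⁻¹ := by rw [ev]; group
          _ = _ := by rw [h1, ← conj_mul, ev']
      rw [h2]
      rcases b.ρu with h3 | h3
      · exact Or.inl (by rw [h3, mem_Cx.1 tT.2])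
      · exact Or.inr (by rw [h3, mul_assoc, mem_Cx.1 tT.2, mul_assoc])

end CfsgLib.Rk3B
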