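import Cfsg.Agent.Lib.Rk3B.Gl

/-!
`A` is weakly closed  (plans/RK3B.md, package WC)
-/

set_option autoImplicit false
set_option linter.unusedSectionVars false

namespace CfsgLib.Rk3B

open Subgroup Cfsg CfsgLib.Tech CfsgLib.W2 CfsgLib.Rk3

variable {G : Type*} [Group G] [Finite G] {S : Subgroup G} {z u g e : G}

namespace Wc

variable (q : Q S z u g e)
include q

theorem notV {a : G} (ha : a ∈ V3 z u e) (aU : a ∉ V2 z u) : u ∉ V2 z a := fun h => by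
  have c := q.c
  rcases (mem_V2 c.zz (q.n.elE c a ha) (c.zc a (q.A_le ha).1.1).symm).1 h with h | h | h | h
  · exact c.u1 h
  · exact c.uz h
  · exact aU (h ▸ r_V2 _ _)
  · refine aU ?_
    rw [show a = z * u by rw [h, ← mul_assoc, c.zz, one_mul]]
    exact mul_mem (l_V2 _ _) (r_V2 _ _)

theorem trans (gl : GLP S z u e) {a : G} (ha : a ∈ V3 z u e) (a1 : a ≠ 1) :
    ∃ n ∈ normalizer ((S ⊓ Cx u ⊓ Cx e : Subgroup G) : Set G), n * z * n⁻¹ = a := by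
  have c := q.c
  by_cases aU : a ∈ V2 z u
  · rcases c.mem_U.1 aU with h | h | h | h
    · exact absurd h a1
    · exact ⟨1, one_mem _, by simp [h]⟩
    · exact ⟨g, q.gC, h ▸ c.gz⟩
    · exact ⟨g * g, mul_mem q.gC q.gC, by rw [h, ← c.gu, ← c.gz]; group⟩
  · obtain ⟨n, hn, h, -⟩ := gl a ha z (V2_le_V3 _ _ _ (l_V2 _ _)) u (V2_le_V3 _ _ _ (r_V2 _ _)) a1 c.z1
      (fun h => aU (h ▸ l_V2 _ _)) (by rw [V2, Set.pair_comm]; exact notV q ha aU)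
    exact ⟨n, hn, h⟩

theorem isq (rk : PRankLE 2 3 G) (big : Bg S z u e) (gl : GLP S z u e) {a : G} (ha : a ∈ V3 z u e) :
    ∃ c ∈ S ⊓ Cx u ⊓ Cx e, c * c = a := by
  rcases eq_or_ne a 1 with rfl | a1
  · exact ⟨1, one_mem _, mul_one _⟩
  obtain ⟨n, hn, h⟩ := trans q gl ha a1
  obtain ⟨c, hc, cc⟩ := q.exists_in1 rk big (l_V2 z u)
  exact ⟨_, conj_mem_of_mem_normalizer hn hc.1, by rw [conj_mul, cc, h]⟩

/-- `T / C` acts on `C` -/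
theorem act (ab : ∀ a ∈ S ⊓ Cx u ⊓ Cx e, ∀ b ∈ S ⊓ Cx u ⊓ Cx e, a * b = b * a) {s t c : G}
    (hs : s ∈ S ⊓ Cx u) (ht : t ∈ S ⊓ Cx u) (h : cm s e = cm t e) (hc : c ∈ S ⊓ Cx u ⊓ Cx e) :
    s * c * s⁻¹ = t * c * t⁻¹ := by
  have h0 : t⁻¹ * s ∈ S ⊓ Cx u := mul_mem (inv_mem ht) hs
  have h1 : t⁻¹ * s ∈ S ⊓ Cx u ⊓ Cx e := ⟨h0, mem_Cx'.2 (by
    calc t⁻¹ * s * e * (t⁻¹ * s)⁻¹ = t⁻¹ * (s * e * s⁻¹) * t := by group
      _ = e := by rw [mul_right_cancel h]; group)⟩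
  calc s * c * s⁻¹ = t * (t⁻¹ * s * c) * s⁻¹ := by group
    _ = _ := by rw [ab _ h1 _ hc]; group

theorem exists_j (rk : PRankLE 2 3 G) (big : Bg S z u e) (gl : GLP S z u e)
    (ab : ∀ a ∈ S ⊓ Cx u ⊓ Cx e, ∀ b ∈ S ⊓ Cx u ⊓ Cx e, a * b = b * a) {t : G} (ht : t ∈ S ⊓ Cx u)
    (tt : t * t = 1) (te : cm t e = z) : ∃ j0 ∈ S ⊓ Cx u ⊓ Cx e, ∃ j1 ∈ S ⊓ Cx u ⊓ Cx e, ∃ t1 ∈ S ⊓ Cx u,
      cm t1 e = u ∧ j0 * j0 = z ∧ j1 * j1 = u ∧ t * j0 * t⁻¹ = j0 ∧ t * j1 * t⁻¹ = j1⁻¹ ∧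
        t1 * j0 * t1⁻¹ = j0⁻¹ := by
  have c := q.c
  have n := q.n
  obtain ⟨h, hh, h2⟩ := isq q rk big gl (r_V3 z u e)
  have gC : ∀ a ∈ S ⊓ Cx u ⊓ Cx e, g * a * g⁻¹ ∈ S ⊓ Cx u ⊓ Cx e := fun a ha =>
    conj_mem_of_mem_normalizer q.gC ha
  have g3 : ∀ a ∈ S ⊓ Cx u, g * (g * (g * a * g⁻¹) * g⁻¹) * g⁻¹ = a := fun a ha => by
    calc _ = g ^ 3 * a * (g ^ 3)⁻¹ := by simp only [pow_succ, pow_zero, one_mul, mul_inv_rev, mul_assoc]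
      _ = a := by rw [q.g3 a ha, mul_inv_cancel_right]
  have cab : ∀ {a b}, a ∈ S ⊓ Cx u ⊓ Cx e → b ∈ S ⊓ Cx u ⊓ Cx e → Commute a b := fun ha hb => ab _ ha _ hb
  obtain ⟨p, hp, pp, pg⟩ : ∃ p ∈ S ⊓ Cx u ⊓ Cx e, p * p = e ∧ g * p * g⁻¹ = p := by
    have h1 := gC h hh
    have h3 := gC _ h1
    refine ⟨h * (g * h * g⁻¹) * (g * (g * h * g⁻¹) * g⁻¹), mul_mem (mul_mem hh h1) h3, ?_, ?_⟩
    · rw [(cab h3 (mul_mem hh h1)).mul_mul_mul_comm, (cab h1 hh).mul_mul_mul_comm, conj_mul, conj_mul, conj_mul,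
        h2, q.ge, q.ge, n.ee, one_mul]
    · rw [← conj_mul, ← conj_mul, g3 h hh.1, ab _ (mul_mem h1 h3) _ hh, mul_assoc h]
  obtain ⟨t1, e1⟩ : ∃ x, x = g * t * g⁻¹ := ⟨_, rfl⟩
  obtain ⟨t2, e2⟩ : ∃ x, x = g * t1 * g⁻¹ := ⟨_, rfl⟩
  have e0 : g * t2 * g⁻¹ = t := by rw [e2, e1, g3 t ht]
  have h1 : t1 ∈ S ⊓ Cx u := e1 ▸ conj_mem_of_mem_normalizer c.gT ht
  have h2 : t2 ∈ S ⊓ Cx u := e2 ▸ conj_mem_of_mem_normalizer c.gT h1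
  have c1 : cm t1 e = u := by rw [e1, q.cm_g, te, c.gz]
  have c2 : cm t2 e = z * u := by rw [e2, q.cm_g, c1, c.gu]
  have t11 : t1 * t1 = 1 := by rw [e1, conj_mul, tt]; simp
  have p0 := q.conj_C ht.1 hp
  have p1 := q.conj_C h1.1 hp
  have p2 := q.conj_C h2.1 hp
  have a01 : t * (t1 * p * t1⁻¹) * t⁻¹ = t2 * p * t2⁻¹ := by
    rw [← act q ab (mul_mem ht h1) h2 (by rw [n.cm_mul c ht h1, te, c1, c2]) hp]; group
  have a10 : t1 * (t * p * t⁻¹) * t1⁻¹ = t2 * p * t2⁻¹ := by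
    rw [← act q ab (mul_mem h1 ht) h2 (by rw [n.cm_mul c h1 ht, te, c1, c2, c.zu]) hp]; group
  have inv2 : ∀ s a : G, s * s = 1 → s * (s * a * s⁻¹) * s⁻¹ = a := fun s a ss => by
    calc _ = s * s * a * (s * s)⁻¹ := by group
      _ = a := by rw [ss]; simp
  have gp : ∀ s : G, g * (s * p * s⁻¹) * g⁻¹ = g * s * g⁻¹ * p * (g * s * g⁻¹)⁻¹ := fun s => by
    calc _ = g * s * g⁻¹ * (g * p * g⁻¹) * (g * s * g⁻¹)⁻¹ := by group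
      _ = _ := by rw [pg]
  have sq : ∀ s ∈ S ⊓ Cx u, p * (s * p * s⁻¹) * (p * (s * p * s⁻¹)) = cm s e := fun s hs => by
    rw [(cab (q.conj_C hs.1 hp) hp).mul_mul_mul_comm, conj_mul, pp]
    exact ab _ ⟨n.eT, mem_Cx.2 rfl⟩ _ (q.conj_C hs.1 ⟨n.eT, mem_Cx.2 rfl⟩)
  have j0 := mul_mem hp p0
  have N : p * (t * p * t⁻¹) * (t1 * p * t1⁻¹ * (t2 * p * t2⁻¹)) = 1 := by
    have eN : p * (t * p * t⁻¹) * (t1 * p * t1⁻¹ * (t2 * p * t2⁻¹)) =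
        p * (t * p * t⁻¹) * (t1 * (p * (t * p * t⁻¹)) * t1⁻¹) := by rw [← conj_mul, a10]
    have NC := mul_mem j0 (mul_mem p1 p2)
    have NA := q.omC rk NC (by
      rw [eN, (cab (q.conj_C h1.1 j0) j0).mul_mul_mul_comm, conj_mul, sq t ht, te, c.zc t1 h1.1,
        mul_inv_cancel_right, c.zz])
    have Ng : g * (p * (t * p * t⁻¹) * (t1 * p * t1⁻¹ * (t2 * p * t2⁻¹))) * g⁻¹ =
        p * (t * p * t⁻¹) * (t1 * p * t1⁻¹ * (t2 * p * t2⁻¹)) := by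
      rw [← conj_mul, ← conj_mul (a := p), ← conj_mul (a := t1 * p * t1⁻¹), pg, gp, gp, gp, ← e1, ← e2, e0,
        mul_assoc p, mul_assoc p, ← mul_assoc (t1 * p * t1⁻¹), ab _ (mul_mem p1 p2) _ p0]
    have N1 : t1 * (p * (t * p * t⁻¹) * (t1 * p * t1⁻¹ * (t2 * p * t2⁻¹))) * t1⁻¹ =
        p * (t * p * t⁻¹) * (t1 * p * t1⁻¹ * (t2 * p * t2⁻¹)) := by
      rw [eN, ← conj_mul, inv2 t1 _ t11, ab _ (q.conj_C h1.1 j0) _ j0]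
    generalize p * (t * p * t⁻¹) * (t1 * p * t1⁻¹ * (t2 * p * t2⁻¹)) = N at NC NA Ng N1
    rcases (n.mem_E c).1 NA with h3 | h3
    · rcases c.mem_U.1 h3 with h4 | h4 | h4 | h4 <;> rw [h4] at Ng
      · exact h4
      · exact absurd (c.gz.symm.trans Ng) c.uz
      · exact absurd (c.gu.symm.trans Ng) c.zu_ne_u
      · exact absurd (Ng.symm.trans c.gzu) c.zu_ne_z
    · refine absurd ?_ c.u1
      rw [← c1, ← n.cm_of_mem c h1 h3]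
      exact (cm_eq_one (n.elE c _ NA)).2 (mul_inv_eq_iff_eq_mul.1 N1)
  refine ⟨_, j0, _, mul_mem hp p1, t1, h1, c1, by rw [sq t ht, te], by rw [sq t1 h1, c1], ?_, ?_, ?_⟩
  · rw [← conj_mul, inv2 t _ tt, ab _ p0 _ hp]
  · rw [← conj_mul, a01]
    refine eq_inv_of_mul_eq_one_right ?_
    rw [← N, (cab p1 p0).mul_mul_mul_comm]
  · rw [← conj_mul, a10]
    exact eq_inv_of_mul_eq_one_right N

theorem wc0 (rk : PRankLE 2 3 G) (big : Bg S z u e) (gl : GLP S z u e)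
    (ab : ∀ a ∈ S ⊓ Cx u ⊓ Cx e, ∀ b ∈ S ⊓ Cx u ⊓ Cx e, a * b = b * a) {t : G} (ht : JJ S z u e t)
    (te : cm t e = z) (x : G) : cj x (V3 z u t) ≠ V3 z u e := fun hx => by
  have c := q.c
  have n := q.n
  obtain ⟨tt, tU, -⟩ := q.jj_sq ht
  obtain ⟨j0, h0, j1, h1, t1, hT1, c1, s0, s1, a0, a1, b0⟩ := exists_j q rk big gl ab ht.1 tt te
  have mA : ∀ a ∈ V3 z u t, x * a * x⁻¹ ∈ V3 z u e := fun a ha => hx ▸ conj_mem_cj.2 ha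
  have pC : IsPGroup 2 ↥(S ⊓ Cx u ⊓ Cx e) := c.syl.pgroup.to_le (inf_le_left.trans inf_le_left)
  -- first step: `E ^ k₀ = A` with `k₀ ∈ C(U)`
  obtain ⟨k0, hk0, le0⟩ := q.sylT.exists_cj_le (isPGroup_cj x⁻¹ pC) (cj_le_iff.2 fun a ha => by
    have key : ∀ y ∈ V3 z u t, x⁻¹ * a * x⁻¹⁻¹ ∈ Cx y := fun y hy => by
      have := conj_mem_Cx (g := x⁻¹).2 (mem_Cx.2 (q.cA ha (mA y hy)))
      rwa [show x⁻¹ * (x * y * x⁻¹) * x⁻¹⁻¹ = y by group] at this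
    exact ⟨key z (V2_le_V3 _ _ _ (l_V2 _ _)), key u (V2_le_V3 _ _ _ (r_V2 _ _))⟩)
  have fixU : ∀ k ∈ Cx z ⊓ Cx u, cj k (V2 z u) = V2 z u := fun k hk => by
    rw [cj_V2, mem_Cx'.1 hk.1, mem_Cx'.1 hk.2]
  have tA : k0 * t * k0⁻¹ ∈ V3 z u e := by
    obtain ⟨d, hd, dd⟩ := isq q rk big gl (mA t (r_V3 _ _ _))
    have h2 := q.sqC (le0 (conj_mem_cj.2 (conj_mem_cj.2 hd)))
    rw [conj_mul, conj_mul, dd, show x⁻¹ * (x * t * x⁻¹) * x⁻¹⁻¹ = t by group] at h2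
    exact q.omC rk h2 (by rw [conj_mul, tt]; simp)
  have EA : ∀ k ∈ Cx z ⊓ Cx u, k * t * k⁻¹ ∈ V3 z u e → k * t * k⁻¹ * e ∈ V2 z u := fun k hk h =>
    ((n.mem_E c).1 h).resolve_left fun h1 => tU (by rwa [← fixU k hk, conj_mem_cj] at h1)
  have E0 : cj k0 (V3 z u t) = V3 z u e := by
    rw [cj_V3, mem_Cx'.1 hk0.1, mem_Cx'.1 hk0.2]
    refine le_antisymm (V3_le.2 ⟨V2_le_V3 _ _ _ (l_V2 _ _), V2_le_V3 _ _ _ (r_V2 _ _), tA⟩)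
      (V3_le.2 ⟨V2_le_V3 _ _ _ (l_V2 _ _), V2_le_V3 _ _ _ (r_V2 _ _), ?_⟩)
    have := mul_mem (inv_mem (r_V3 z u (k0 * t * k0⁻¹))) (V2_le_V3 _ _ _ (EA k0 hk0 tA))
    rwa [inv_mul_cancel_left] at this
  -- second step
  have syl : IsSylowIn 2 (S ⊓ Cx u) (Cx z ⊓ Cx u ⊓ normalizer ((V3 z u e : Subgroup G) : Set G)) :=
    q.sylT.of_le (le_inf q.sylT.le fun s hs => mem_normalizer_of_forall fun _ => q.conj_A hs.1) inf_le_left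
  obtain ⟨k1, hk1, le1⟩ := syl.exists_cj_le (Q := cj k0 (S ⊓ Cx u ⊓ normalizer ((V3 z u t : Subgroup G) : Set G)))
    (isPGroup_cj k0 (c.syl.pgroup.to_le (inf_le_left.trans inf_le_left))) (cj_le_iff.2 fun a ha =>
      mem_inf.2 ⟨mul_mem (mul_mem hk0 (q.sylT.le ha.1)) (inv_mem hk0), by
        rw [← E0, ← cj_normalizer]; exact conj_mem_cj.2 ha.2⟩)
  have hk : k1 * k0 ∈ Cx z ⊓ Cx u := mul_mem hk1.1 hk0
  have tk : k1 * k0 * t * (k1 * k0)⁻¹ ∈ V3 z u e := by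
    have := conj_mem_of_mem_normalizer hk1.2 tA
    convert this using 1; group
  have mv : ∀ a ∈ S ⊓ Cx u, a * t * a⁻¹ ∈ V3 z u t → k1 * k0 * a * (k1 * k0)⁻¹ ∈ S ⊓ Cx u := fun a ha h => by
    have := le1 (conj_mem_cj.2 (conj_mem_cj.2 (show a ∈ S ⊓ Cx u ⊓ normalizer ((V3 z u t : Subgroup G) : Set G) from
      ⟨ha, mem_normalizer_of_cj_le (by
        rw [cj_V3, c.zc a ha.1, mem_Cx.1 ha.2, mul_inv_cancel_right, mul_inv_cancel_right]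
        exact V3_le.2 ⟨V2_le_V3 _ _ _ (l_V2 _ _), V2_le_V3 _ _ _ (r_V2 _ _), h⟩)⟩)))
    convert this using 1; group
  have d0 : j0 * t * j0⁻¹ = t := by rw [← mul_inv_eq_iff_eq_mul.1 a0, mul_inv_cancel_right]
  have d1 : j1 * t * j1⁻¹ = u * t := by
    calc j1 * t * j1⁻¹ = j1 * (t * j1 * t⁻¹)⁻¹ * t := by group
      _ = u * t := by rw [a1, inv_inv, s1]
  have m0 := mv j0 h0.1 (d0.symm ▸ r_V3 _ _ _)
  have m1 := mv j1 h1.1 (d1.symm ▸ mul_mem (V2_le_V3 _ _ _ (r_V2 _ _)) (r_V3 _ _ _))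
  have tU' := EA _ hk tk
  generalize k1 * k0 = k at hk tk m0 m1 tU'
  have cmk : ∀ a, k * a * k⁻¹ ∈ S ⊓ Cx u → cm (k * a * k⁻¹) e = k * cm a t * k⁻¹ := fun a ha => by
    rw [← n.cm_of_mem c ha tU', Rk3.cm_conj]
  have C0 : k * j0 * k⁻¹ ∈ S ⊓ Cx u ⊓ Cx e := ⟨m0, mem_Cx.2 ((cm_eq_one n.ee).1 (by
    rw [cmk _ m0, cm, d0, tt]; simp))⟩
  have f1 : t1 * (k * j0 * k⁻¹) * t1⁻¹ = k * j0 * k⁻¹ := by
    rw [act q ab hT1 m1 (by rw [cmk _ m1, c1, cm, d1, mul_assoc u, tt, mul_one, mem_Cx'.1 hk.2]) C0,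
      conj_mul, ab _ h1 _ h0]
    group
  have sk : k * j0 * k⁻¹ * (k * j0 * k⁻¹) = z := by rw [conj_mul, s0, mem_Cx'.1 hk.1]
  generalize k * j0 * k⁻¹ = d at C0 f1 sk
  have aA := q.omC rk (mul_mem C0 (inv_mem h0)) (by
    rw [(show Commute j0⁻¹ d from ab _ (inv_mem h0) _ C0).mul_mul_mul_comm, sk, ← mul_inv_rev, s0, mul_inv_cancel])
  have cz : cm t1 (d * j0⁻¹) = z := by
    rw [cm, ← conj_mul, f1, ← conj_inv, b0, inv_inv, mul_assoc, ← mul_assoc j0, ← ab _ C0 _ h0, mul_assoc d j0,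
      mul_inv_cancel, mul_one, sk]
  rcases (n.mem_E c).1 aA with h3 | h3
  · exact c.z1 (cz.symm.trans ((cm_eq_one (c.elU _ h3)).2 (c.cU hT1 h3)))
  · exact c.uz (by rw [← c1, ← n.cm_of_mem c hT1 h3, cz])

end Wc

open Wc in
theorem Q.jh (h : Hy G) (q : Q S z u g e) (big : Bg S z u e) (gl : GLP S z u e)
    (ab : ∀ a ∈ S ⊓ Cx u ⊓ Cx e, ∀ b ∈ S ⊓ Cx u ⊓ Cx e, a * b = b * a) :
    JH S z u g e ∧ ∃ t, JJ S z u e t := by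
  have c := q.c
  have n := q.n
  refine ⟨⟨q, big, fun a ha aU za => ?_, fun t ht x hx => ?_⟩, ?_⟩
  · obtain ⟨m, -, h1, h2, -⟩ := gl z (V2_le_V3 _ _ _ (l_V2 _ _)) a ha u (V2_le_V3 _ _ _ (r_V2 _ _)) c.z1
      (fun h => aU (h ▸ one_mem _)) (fun h => aU (h ▸ l_V2 _ _)) (notV q ha aU)
    exact ⟨m⁻¹, by rw [← h1]; group; simp [mul_inv_eq_iff_eq_mul.1 h1, mul_assoc], by rw [← h2]; group⟩
  · have nx : ∀ t x, cj x (V3 z u t) = V3 z u e → cj (x * g⁻¹) (V3 z u (g * t * g⁻¹)) = V3 z u e :=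
      fun t x hx => by
        rw [← hx, cj_mul, V3_eq, V3_eq z u t, ← cj_zpowers, ← c.cj_g_U, ← cj_sup, c.cj_g_U, cj_inv_cj]
    rcases c.mem_U.1 (n.nm t ht.1.1) with e1 | e1 | e1 | e1
    · exact ht.2.1 ((cm_eq_one n.ee).1 e1)
    · exact wc0 q h.rk big gl ab ht e1 x hx
    · exact wc0 q h.rk big gl ab (q.jj_g (q.jj_g ht))
        (by rw [q.cm_g, q.cm_g, show cm t e = u from e1, c.gu, c.gzu]) _ (nx _ _ (nx _ _ hx))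
    · exact wc0 q h.rk big gl ab (q.jj_g ht) (by rw [q.cm_g, show cm t e = z * u from e1, c.gzu]) _ (nx _ _ hx)
  · by_contra hn
    refine h.gold S (V3 z u e) c.syl (fun e1 => c.z1 (mem_bot.1 (e1 ▸ V2_le_V3 z u e (l_V2 _ _))))
      (n.elE c) ⟨fun a ha => (q.A_le ha).1.1, fun a ha x hx => ?_⟩
    by_contra hA
    have aa : x * a * x⁻¹ * (x * a * x⁻¹) = 1 := by rw [conj_mul, n.elE c a ha]; simp
    obtain ⟨m, -, h1, h2, -⟩ := q.red h.rk gl hx (fun h1 => hA (q.omC h.rk h1 aa)) (aa ▸ one_mem _)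
    obtain ⟨w, -, hw⟩ := trans q gl ha fun h1 => hA (by simp [h1])
    exact hn ⟨_, h1, fun h3 => c.z1 (h2.symm.trans ((cm_eq_one n.ee).2 h3)),
      ((isConj_iff.2 ⟨w, hw⟩).trans (isConj_iff.2 ⟨x, rfl⟩)).trans (isConj_iff.2 ⟨m, rfl⟩)⟩

end CfsgLib.Rk3B
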