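import Cfsg.Agent.Lib.Rk3B.Defs

/-!
The groups `Ω₁Z(S)⟨v⟩`  (plans/RK3B.md, package ZU1)
-/

set_option autoImplicit false

namespace CfsgLib.Rk3B

open Subgroup Cfsg CfsgLib.Tech CfsgLib.W2 CfsgLib.Rk3

variable {G : Type*} [Group G] [Finite G] {S : Subgroup G} {z u g e : G}

namespace Zu1

omit [Finite G] in
theorem Zc_cj (k : G) (S : Subgroup G) : Zc (cj k S) = cj k (Zc S) := by
  have key : ∀ (k : G) (S : Subgroup G) (y : G), y ∈ Zc S → k * y * k⁻¹ ∈ Zc (cj k S) :=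
    fun k S y hy => ⟨conj_mem_cj.2 hy.1, by rw [conj_mul, hy.2.1]; simp,
      cj_Cx k y ▸ cj_mono k hy.2.2⟩
  refine le_antisymm (fun y hy => mem_cj.2 ?_) (cj_le_iff.2 (key k S))
  have := key k⁻¹ _ y hy
  rwa [cj_inv_cj, inv_inv] at this

/-- a 2-element which normalises `Ω₁Z(S)` centralises it -/
theorem cen_of_norm (hS : IsSylowIn 2 S ⊤) {s : G} (h2 : IsPGroup 2 (zpowers s))
    (hn : ∀ a ∈ Zc S, s * a * s⁻¹ ∈ Zc S) {a : G} (ha : a ∈ Zc S) : s * a = a * s := by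
  obtain ⟨n, hn', e2⟩ := (hS.of_le (le_normalizer.trans (norm_Zc S)) le_top).exists_conj_mem
    (mem_normalizer_of_forall hn) h2
  have e3 := congrArg (MulAut.conj n⁻¹) (Zc_comm e2 (conj_mem_of_mem_normalizer hn' ha))
  simpa [mul_assoc] using e3

theorem mem_E (rk : PRankLE 2 3 G) (h4 : Nat.card (Zc S) = 4) {v t : G} (vS : v ∈ S) (vv : v * v = 1)
    (vZ : v ∉ Zc S) (tt : t * t = 1) (h1 : ∀ a ∈ Zc S, t * a = a * t) (h2 : t * v = v * t) :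
    t ∈ Zc S ∨ t * v ∈ Zc S := by
  have tc := fun a (ha : a ∈ Zc S) => Zc_comm vS ha
  have tn : ∀ a ∈ Zc S, v * a * v⁻¹ ∈ Zc S := fun a ha => by
    rwa [tc a ha, mul_inv_cancel_right]
  refine (mem_sup_inv vv tn).1 (((el_Zc S).sup_inv vv tc).mem_of_comm rk
    (by rw [card_sup_inv vv tn vZ, h4]) tt fun a ha => ?_)
  exact (mem_Cx.1 ((sup_le (fun y hy => mem_Cx.2 (h1 y hy).symm)
    (zpowers_le.2 (mem_Cx.2 h2.symm)) : _ ≤ Cx t) ha)).symm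

theorem half (rk : PRankLE 2 3 G) {S' : Subgroup G} (hS : IsSylowIn 2 S ⊤) (hS' : IsSylowIn 2 S' ⊤)
    (h4 : Nat.card (Zc S) = 4) (h4' : Nat.card (Zc S') = 4) {f v : G} (fZ : f ∈ Zc S)
    (fZ' : f ∈ Zc S') (f1 : f ≠ 1) (vZ' : v ∈ Zc S') (vS : v ∈ S) (vZ : v ∉ Zc S) :
    ∃ w ∈ Zc S, w ≠ 1 ∧ w ≠ f ∧ (∃ s ∈ S, s * v * s⁻¹ = w * v) ∧
      ∀ t ∈ S, t * v * t⁻¹ * v ∈ Zc S → t * v * t⁻¹ = v ∨ t * v * t⁻¹ = w * v := by
  have vv : v * v = 1 := vZ'.2.1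
  have v1 : v ≠ 1 := fun e => vZ (e ▸ one_mem _)
  have vf : v ≠ f := fun e => vZ (e ▸ fZ)
  have e0 : ∀ {a c : G}, a * v = c → a = c * v := fun e => by rw [← e, mul_assoc, vv, mul_one]
  have h2 : ∀ s ∈ S, s * v * s⁻¹ ≠ f * v := fun s hs e => by
    have h := cen_of_norm hS' (isPGroup_zpowers_of_mem hS.pgroup hs) (fun a ha => by
      have sf : s * f * s⁻¹ = f := by rw [Zc_comm hs fZ, mul_inv_cancel_right]
      rcases (el_Zc S').four h4'.le fZ' vZ' f1 v1 vf ha with e' | e' | e' | e' <;> rw [e']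
      · simp
      · rwa [sf]
      · rw [e]; exact mul_mem fZ' vZ'
      · rw [← conj_mul, sf, e]; exact mul_mem fZ' (mul_mem fZ' vZ')) vZ'
    rw [h, mul_inv_cancel_right] at e
    exact f1 (by simpa using e.symm)
  obtain ⟨s, hs, sR, sN⟩ := exists_mem_normalizer_of_lt (Q := S ⊓ Cx v) hS.pgroup
    (lt_of_le_of_ne inf_le_left fun e => vZ ⟨vS, vv, e.ge.trans inf_le_right⟩)
  obtain ⟨h3, h5⟩ := conj_mem_of_mem_normalizer sN (x := v) ⟨vS, mem_Cx.2 rfl⟩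
  have hw : s * v * s⁻¹ * v ∈ Zc S :=
    (mem_E rk h4 vS vv vZ (by rw [conj_mul, vv]; simp) (fun a ha => Zc_comm h3 ha)
      (mem_Cx.1 h5)).resolve_left fun e =>
        vZ (by simpa [mul_assoc] using Zc_conj (le_normalizer (inv_mem hs)) e)
  have hs' : s * v * s⁻¹ = s * v * s⁻¹ * v * v := e0 rfl
  have w1 : s * v * s⁻¹ * v ≠ 1 := fun e => sR ⟨hs, mem_Cx'.2 (by rw [e0 e, one_mul])⟩
  have wf : s * v * s⁻¹ * v ≠ f := fun e => h2 s hs (e0 e)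
  generalize s * v * s⁻¹ * v = w at hw hs' w1 wf
  refine ⟨w, hw, w1, wf, ⟨s, hs, hs'⟩, fun t ht hc => ?_⟩
  rcases (el_Zc S).four h4.le fZ hw f1 w1 wf hc with e | e | e | e
  · exact Or.inl (by rw [e0 e, one_mul])
  · exact absurd (e0 e) (h2 t ht)
  · exact Or.inr (e0 e)
  · refine absurd ?_ (h2 (s * t) (mul_mem hs ht))
    rw [show s * t * v * (s * t)⁻¹ = s * (t * v * t⁻¹) * s⁻¹ by group, e0 e, ← conj_mul, hs',
      Zc_comm hs (mul_mem fZ hw), mul_inv_cancel_right, mul_assoc, ← mul_assoc w, hw.2.1, one_mul]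

end Zu1

theorem exists_zt (rk : PRankLE 2 3 G) (hS : IsSylowIn 2 S ⊤) (h4 : Nat.card (Zc S) = 4) {v x : G} (vS : v ∈ S)
    (vZ : v ∉ Zc S) (hx : x ∈ Zc S) (hc : IsConj x v) : ∃ w f y, ZT S w f y ∧ (v = y ∨ v = f * y) := by
  obtain ⟨k, rfl⟩ := isConj_iff.1 hc
  have tt : k * x * k⁻¹ * (k * x * k⁻¹) = 1 := by rw [conj_mul, hx.2.1]; simp
  have tc := fun a (ha : a ∈ Zc S) => Zc_comm vS ha
  have elA := (el_Zc S).sup_inv tt tc
  obtain ⟨c, hc, e1⟩ := ((hS.cj_of_mem (mem_top k)).of_le (cj_Cx k x ▸ cj_mono k hx.2.2) le_top).exists_cj_le elA.pg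
    fun a ha => mem_Cx.2 (elA.comm ha (mem_sup_right (mem_zpowers _)))
  have e2 : c⁻¹ * k * x * (c⁻¹ * k)⁻¹ = k * x * k⁻¹ := by
    rw [← mem_Cx'.1 (inv_mem hc)]; group
  have e3 : Zc S ⊔ zpowers (k * x * k⁻¹) ≤ cj (c⁻¹ * k) S := by
    rw [cj_mul, ← cj_le_cj_iff c, cj_cj_inv]; exact e1
  have hS' := hS.cj_of_mem (mem_top (c⁻¹ * k))
  have h4' : Nat.card (Zc (cj (c⁻¹ * k) S)) = 4 := by rw [Zu1.Zc_cj, card_cj, h4]
  have vZ' : k * x * k⁻¹ ∈ Zc (cj (c⁻¹ * k) S) := by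
    rw [Zu1.Zc_cj, ← e2]; exact conj_mem_cj.2 hx
  clear e1 hc e2 elA tc
  generalize k * x * k⁻¹ = v at *
  generalize cj (c⁻¹ * k) S = S' at *
  have ZS' : Zc S ≤ S' := le_sup_left.trans e3
  have v1 : v ≠ 1 := fun e => vZ (e ▸ one_mem _)
  obtain ⟨f, fZ, fZ', f1⟩ : ∃ f ∈ Zc S, f ∈ Zc S' ∧ f ≠ 1 := by
    obtain ⟨y, hy, y1, yv⟩ : ∃ y ∈ Zc S', y ≠ 1 ∧ y ≠ v := by
      by_contra! e
      have := card_le_of_le (show Zc S' ≤ ⊥ ⊔ zpowers v from fun y hy => (mem_sup_inv tt (by simp)).2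
        (or_iff_not_imp_left.2 fun e' => by rw [e y hy e']; exact tt))
      rw [card_sup_inv tt (by simp) fun e => v1 (mem_bot.1 e), card_bot] at this
      omega
    rcases Zu1.mem_E rk h4 vS tt vZ hy.2.1 (fun a ha => (Zc_comm (ZS' ha) hy).symm)
      ((el_Zc S').comm hy vZ') with e | e
    · exact ⟨y, e, hy, y1⟩
    · exact ⟨y * v, e, mul_mem hy vZ', fun e => yv ((eq_inv_of_mul_eq_one_left e).trans
        (inv_eq_of_mul_eq_one_right tt))⟩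
  have vf : v ≠ f := fun e => vZ (e ▸ fZ)
  obtain ⟨w, wZ, w1, wf, ⟨s, hs, sv⟩, hcm⟩ := Zu1.half rk hS hS' h4 h4' fZ fZ' f1 vZ' vS vZ
  have wZ' : w ∉ Zc S' := fun e => by
    rcases (el_Zc S').four h4'.le fZ' vZ' f1 v1 vf e with e' | e' | e' | e'
    · exact w1 e'
    · exact wf e'
    · exact vZ (e' ▸ wZ)
    · exact vZ ((mul_mem_cancel_left fZ).1 (e' ▸ wZ))
  obtain ⟨y, yZ', y1, yf, ⟨s', hs', sw⟩, -⟩ :=
    Zu1.half rk hS' hS h4' h4 fZ' fZ f1 wZ (ZS' wZ) wZ'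
  have hy : y = v ∨ y = f * v :=
    ((((el_Zc S').four h4'.le fZ' vZ' f1 v1 vf yZ').resolve_left y1).resolve_left yf)
  have cf : ∀ t ∈ S, t * (f * v) * t⁻¹ = f * (t * v * t⁻¹) := fun t ht => by
    rw [← conj_mul, Zc_comm ht fZ, mul_inv_cancel_right]
  have fw : ∀ a, f * (w * a) = w * (f * a) := fun a => by
    rw [← mul_assoc, (el_Zc S).comm fZ wZ, mul_assoc]
  have yS : y ∈ S := by
    rcases hy with e | e <;> rw [e]
    exacts [vS, mul_mem fZ.1 vS]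
  have yZ : y ∉ Zc S := by
    rcases hy with e | e <;> rw [e]
    exacts [vZ, fun e => vZ ((mul_mem_cancel_left fZ).1 e)]
  have sy : s * y * s⁻¹ = w * y := by
    rcases hy with e | e <;> rw [e]
    · exact sv
    · rw [cf s hs, sv, fw]
  refine ⟨w, f, y, ⟨h4, wZ, fZ, w1, f1, wf.symm, yS, yZ'.2.1, yZ, fun t ht h => ?_, ⟨s, hs, sy⟩,
    s * s', ?_, ?_, ?_⟩, hy.imp Eq.symm fun e => by rw [e, ← mul_assoc, fZ.2.1, one_mul]⟩
  · rcases hy with e | e <;> rw [e] at h ⊢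
    · exact hcm t ht h
    · rw [cf t ht] at h ⊢
      have h' : t * v * t⁻¹ * v ∈ Zc S := by
        have e' : f * (t * v * t⁻¹) * (f * v) = t * v * t⁻¹ * v := by
          rw [← Zc_comm (mul_mem (mul_mem ht vS) (inv_mem ht)) fZ, mul_assoc _ f, ← mul_assoc f,
            fZ.2.1, one_mul]
        rwa [e'] at h
      rcases hcm t ht h' with e' | e' <;> rw [e']
      · exact Or.inl rfl
      · exact Or.inr (fw v)
  · rw [show s * s' * f * (s * s')⁻¹ = s * (s' * f * s'⁻¹) * s⁻¹ by group, Zc_comm hs' fZ',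
      mul_inv_cancel_right, Zc_comm hs fZ, mul_inv_cancel_right]
  · rw [show s * s' * w * (s * s')⁻¹ = s * (s' * w * s'⁻¹) * s⁻¹ by group, sw, ← conj_mul, sy,
      Zc_comm hs wZ, mul_inv_cancel_right, mul_assoc, Zc_comm yS wZ, ← mul_assoc, wZ.2.1, one_mul]
  · rw [show s * s' * y * (s * s')⁻¹ = s * (s' * y * s'⁻¹) * s⁻¹ by group, Zc_comm hs' yZ',
      mul_inv_cancel_right, sy]

end CfsgLib.Rk3B
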