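import Cfsg.Agent.Lib.Rk3B.Tl
import Cfsg.Agent.Lib.Rk3B.Zu1

/-!
The involution `w` is global  (plans/RK3B.md, package ZU2)
-/

set_option autoImplicit false

namespace CfsgLib.Rk3B

open Subgroup Cfsg CfsgLib.Tech CfsgLib.W2 CfsgLib.Rk3

variable {G : Type*} [Group G] [Finite G] {S : Subgroup G} {z u g e : G}

namespace ZU2

variable {w f y w' f' y' : G}

theorem mem_Zy (rk : PRankLE 2 3 G) (c : ZT S w f y) {t : G} (tS : t ∈ S) (tt : t * t = 1)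
    (ty : t * y = y * t) : t ∈ Zc S ∨ t * y ∈ Zc S := by
  have tc := fun a (ha : a ∈ Zc S) => Zc_comm c.yS ha
  have tn : ∀ a ∈ Zc S, y * a * y⁻¹ ∈ Zc S := fun a ha => by rwa [tc a ha, mul_inv_cancel_right]
  refine (mem_sup_inv c.yy tn).1 (((el_Zc S).sup_inv c.yy tc).mem_of_comm rk
    (by rw [card_sup_inv c.yy tn c.yZ, c.four]) tt fun a ha => ?_)
  exact (mem_Cx.1 ((sup_le (fun b hb => mem_Cx.2 (Zc_comm tS hb).symm) (zpowers_le.2 (mem_Cx.2 ty.symm)) :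
    Zc S ⊔ zpowers y ≤ Cx t) ha)).symm

omit [Finite G] in
theorem eq_w (c : ZT S w f y) {s a : G} (sS : s ∈ S) (aZ : a ∈ Zc S) (a1 : a ≠ 1) (e : s * y * s⁻¹ = a * y) :
    a = w := by
  rcases c.cm s sS (by rwa [e, mul_assoc, c.yy, mul_one]) with h | h
  · exact absurd (mul_eq_right.1 (e.symm.trans h)) a1
  · exact mul_right_cancel (e.symm.trans h)

theorem cen_eq (rk : PRankLE 2 3 G) (c : ZT S w f y) {a d : G} (aS : a ∈ S) (aa : a * a = 1) (a1 : a ≠ 1)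
    (ay : a * y = y * a) (dS : d ∈ S) (e : d * y * d⁻¹ = a * y) : a = w :=
  eq_w c dS ((mem_Zy rk c aS aa ay).resolve_right fun h => c.yZ (by
    rw [← e] at h
    simpa [mul_assoc] using Zc_conj (le_normalizer (inv_mem dS)) h)) a1 e

theorem pair (rk : PRankLE 2 3 G) (hS : IsSylowIn 2 S ⊤) (c : ZT S w f y) (c' : ZT S w' f' y') :
    w' = w ∧ (y * y' ≠ y' * y → w ∈ zpowers (y * y')) := by
  by_cases h : y * y' = y' * y
  · refine ⟨?_, fun h' => absurd h h'⟩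
    have h1 := (mem_Zy rk c c'.yS c'.yy h.symm).resolve_left c'.yZ
    obtain ⟨s, sS, e⟩ := c'.ex
    obtain ⟨a, rfl⟩ : ∃ a, y' = a * y := ⟨y' * y, by rw [mul_assoc, c.yy, mul_one]⟩
    rw [mul_assoc, c.yy, mul_one] at h1
    refine eq_w c sS c'.wZ c'.w1 (mul_left_cancel (a := a) ?_)
    rw [← mul_assoc, ← mul_assoc, ← Zc_comm sS h1, mul_assoc s, e, ← mul_assoc, ← mul_assoc,
      (el_Zc S).comm h1 c'.wZ]
  obtain ⟨a, ha, aa, a1, h1, h2, ⟨d, hd, e⟩, d', hd', e'⟩ := dcen hS.pgroup c.yS c'.yS c.yy c'.yy h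
  have hz : zpowers (y * y') ≤ S := zpowers_le.2 (mul_mem c.yS c'.yS)
  have h3 := cen_eq rk c (hz ha) aa a1 h1 (hz hd) e
  exact ⟨(cen_eq rk c' (hz ha) aa a1 h2 (hz hd') e').symm.trans h3, fun _ => h3 ▸ ha⟩

theorem conj (c : ZT S w f y) {n : G} (hn : n ∈ normalizer (S : Set G)) :
    ZT S (n * w * n⁻¹) (n * f * n⁻¹) (n * y * n⁻¹) where
  four := c.four
  wZ := Zc_conj hn c.wZ
  fZ := Zc_conj hn c.fZ
  w1 := mt conj_eq_one_iff.1 c.w1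
  f1 := mt conj_eq_one_iff.1 c.f1
  fw e := c.fw (by simpa using e)
  yS := conj_mem_of_mem_normalizer hn c.yS
  yy := by rw [conj_mul, c.yy]; simp
  yZ e := c.yZ (by simpa [mul_assoc] using Zc_conj (inv_mem hn) e)
  cm s hs e := by
    refine (c.cm (n⁻¹ * s * n⁻¹⁻¹) (conj_mem_of_mem_normalizer (inv_mem hn) hs) (by
      convert Zc_conj (inv_mem hn) e using 1; group)).imp (fun h => ?_) fun h => ?_
    · conv_rhs => rw [← h]
      group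
    · rw [conj_mul, ← h]; group
  ex := by
    obtain ⟨s, hs, e⟩ := c.ex
    exact ⟨_, conj_mem_of_mem_normalizer hn hs, by rw [conj_mul (a := w), ← e]; group⟩
  rot := by
    obtain ⟨θ, e1, e2, e3⟩ := c.rot
    refine ⟨n * θ * n⁻¹, ?_, ?_, ?_⟩
    · conv_rhs => rw [← e1]
      group
    · rw [← e2]; group
    · rw [conj_mul (a := w), ← e3]; group

theorem nof (rk : PRankLE 2 3 G) (hS : IsSylowIn 2 S ⊤) (c : ZT S w f y) {a b : G} (ha : a ∈ Zc S)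
    (hb : b ∈ Zc S) (h : IsConj a b) : a = b := by
  obtain ⟨k, rfl⟩ := isConj_iff.1 h
  obtain ⟨n, -, hn, e⟩ := exists_normalizer_conj hS (mem_top k) ha.2.2 hb.2.2
  have h1 := (pair rk hS c (conj c hn)).1
  have h2 : n * f * n⁻¹ = f := by
    rcases (el_Zc S).four c.four.le c.wZ c.fZ c.w1 c.f1 c.fw (Zc_conj hn c.fZ) with h2 | h2 | h2 | h2
    · exact absurd h2 (conj c hn).f1
    · exact absurd (h2.trans h1.symm) (conj c hn).fw
    · exact h2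
    obtain ⟨j, m, hm, e1⟩ := Nat.exists_eq_two_pow_mul_odd (orderOf_pos n).ne'
    have h3 : n ^ m ∈ S := hS.le_of_normalizes (isPGroup_zpowers_of_pow (k := j) (by
      rw [← pow_mul, mul_comm, ← e1, pow_orderOf_eq_one])) le_top (zpowers_le.2 (pow_mem hn m)) (mem_zpowers _)
    have h4 : n * n ∈ Cx f := mem_Cx'.2 (by
      rw [show n * n * f * (n * n)⁻¹ = n * (n * f * n⁻¹) * n⁻¹ by group, h2, ← conj_mul, h1, h2, ← mul_assoc,
        c.wZ.2.1, one_mul])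
    obtain ⟨i, rfl⟩ := hm
    have h5 : n ^ (2 * i + 1) ∈ Cx f := c.fZ.2.2 h3
    rw [pow_succ, pow_mul, sq, mul_mem_cancel_left (pow_mem h4 i)] at h5
    exact mem_Cx'.1 h5
  have h3 : Zc S ≤ Cx n := ((el_Zc S).eq_V2 c.four.le c.wZ c.fZ c.w1 c.f1 c.fw).le.trans
    (V2_le.2 ⟨Cx_comm.1 (mem_Cx'.2 h1), Cx_comm.1 (mem_Cx'.2 h2)⟩)
  rw [← e, mem_Cx'.1 (Cx_comm.1 (h3 ha))]

omit [Finite G] in
theorem cls (c : ZT S w f y) : IsConj w y ∧ IsConj (f * w) (f * y) ∧ IsConj (f * w) (w * f * y) := by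
  obtain ⟨θ, e1, e2, e3⟩ := c.rot
  have h1 : IsConj (f * w) (f * y) := isConj_iff.2 ⟨θ, by rw [← conj_mul, e1, e2]⟩
  exact ⟨isConj_iff.2 ⟨θ, e2⟩, h1, h1.trans (isConj_iff.2 ⟨θ, by
    rw [← conj_mul, e1, e3, ← mul_assoc, (el_Zc S).comm c.fZ c.wZ]⟩)⟩

end ZU2

open ZU2 in
theorem Hy.exists_zw (h : Hy G) (hS : IsSylowIn 2 S ⊤) {a b : G} (ha : a ∈ Zc S) (hb : b ∈ Zc S) (a1 : a ≠ 1)
    (b1 : b ≠ 1) (ab : a ≠ b) : ∃ w, ZW S w := by
  obtain ⟨x, hx, k, tS, tZ⟩ : ∃ x ∈ Zc S, ∃ k, k * x * k⁻¹ ∈ S ∧ k * x * k⁻¹ ∉ Zc S := by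
    by_contra! e
    exact h.gold S _ hS (fun e => a1 (mem_bot.1 (e ▸ ha))) (el_Zc S) ⟨Zc_le S, e⟩
  have h4 : Nat.card (Zc S) = 4 := by
    have e := (el_Zc S).comm ha hb
    have c4 := card_V2 ha.2.1 hb.2.1 e a1 b1 (Ne.symm ab)
    rw [← c4, le_antisymm (V2_le.2 ⟨ha, hb⟩) fun y hy => by_contra fun hn => tZ
      ((el_Zc S).mem_of_comm h.rk (by
        rw [← card_V3 c4 hy.2.1 (Zc_comm hy.1 ha) (Zc_comm hy.1 hb) hn]
        exact card_le_of_le (V3_le.2 ⟨ha, hb, hy⟩)) (by rw [conj_mul, hx.2.1]; simp) fun _ => Zc_comm tS)]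
  obtain ⟨w, f₀, y₀, c, -⟩ := exists_zt h.rk hS h4 tS tZ hx (isConj_iff.2 ⟨k, rfl⟩)
  have nf : ∀ a ∈ Zc S, ∀ b ∈ Zc S, IsConj a b → a = b := fun _ ha _ hb => nof h.rk hS c ha hb
  have ex : ∀ v ∈ S, v ∉ Zc S → ∀ x ∈ Zc S, IsConj x v → ∃ f y, ZT S w f y ∧ (v = y ∨ v = f * y) :=
    fun v vS vZ x hx hc => by
      obtain ⟨w', f, y, c', e⟩ := exists_zt h.rk hS h4 vS vZ hx hc
      exact ⟨f, y, (pair h.rk hS c c').1 ▸ c', e⟩
  refine ⟨w, hS, h4, c.wZ, c.w1, nf, ex, fun f fZ f1 fw => ?_, fun f y f' y' d d' e => ?_⟩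
  · have aZ := mul_mem fZ c.wZ
    obtain ⟨g, h1, h2⟩ : ∃ g, Commute (f * w) (g * (f * w) * g⁻¹) ∧ g * (f * w) * g⁻¹ ≠ f * w := by
      by_contra! e
      exact h.zst _ ⟨ord_two aZ.2.1 fun e => fw ((eq_inv_of_mul_eq_one_left e).trans
        (inv_eq_of_mul_eq_one_right c.wZ.2.1)), e⟩
    obtain ⟨n, hn, vS⟩ := (hS.of_le aZ.2.2 le_top).exists_conj_mem (x := g * (f * w) * g⁻¹) (mem_Cx.2 h1.symm)
      (isPGroup_zpowers_of_pow (k := 1) (by rw [pow_one, sq, conj_mul, aZ.2.1]; simp))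
    have h3 : IsConj (f * w) (n * (g * (f * w) * g⁻¹) * n⁻¹) :=
      (isConj_iff.2 ⟨g, rfl⟩).trans (isConj_iff.2 ⟨n, rfl⟩)
    obtain ⟨f', y, d, e | e⟩ := ex _ vS (fun e => h2 (by
      have := (mem_Cx'.1 hn).trans (nf _ aZ _ e h3)
      simpa only [mul_left_inj, mul_right_inj] using this.symm)) _ aZ h3
    · exact absurd (mul_eq_right.1 (nf _ aZ _ c.wZ ((e ▸ h3).trans (cls d).1.symm))) f1
    · exact ⟨y, mul_right_cancel (nf _ aZ _ (mul_mem d.fZ c.wZ) ((e ▸ h3).trans (cls d).2.1.symm)) ▸ d⟩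
  · by_cases hc : y * y' = y' * y
    swap
    · exact (pair h.rk hS d d').2 hc
    have h1 := (mem_Zy h.rk d d'.yS d'.yy hc.symm).resolve_left d'.yZ
    have h2 : ∀ {x}, y' * y = x → y' = x * y := fun e => by rw [← e, mul_assoc, d.yy, mul_one]
    have h3 : ¬ IsConj (f * w) y' := fun e =>
      d.f1 (mul_eq_right.1 (nf _ (mul_mem d.fZ d.wZ) _ d.wZ (e.trans (cls d').1.symm)))
    rcases (el_Zc S).four h4.le d.wZ d.fZ d.w1 d.f1 d.fw h1 with e' | e' | e' | e'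
    · exact absurd (by rw [h2 e', one_mul]) e
    · rw [hc, e']; exact mem_zpowers w
    · exact absurd (h2 e' ▸ (cls d).2.1) h3
    · exact absurd (h2 e' ▸ (cls d).2.2) h3

end CfsgLib.Rk3B
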