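import Cfsg.Agent.Lib.Rk3B.Zu1

/-!
Squares in `C_S(E)`  (plans/RK3B.md, package ZU3)
-/

set_option autoImplicit false

namespace CfsgLib.Rk3B

open Subgroup Cfsg CfsgLib.Tech CfsgLib.W2 CfsgLib.Rk3

variable {G : Type*} [Group G] [Finite G] {S : Subgroup G} {z u g e : G}

namespace Zu3

variable {w f y : G}

omit [Finite G] in
theorem memE {v x : G} (vS : v ∈ S) (vv : v * v = 1) :
    x ∈ Zc S ⊔ zpowers v ↔ x ∈ Zc S ∨ x * v ∈ Zc S :=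
  mem_sup_inv vv fun a ha => by rwa [Zc_comm vS ha, mul_inv_cancel_right]

theorem cardE (h4 : Nat.card (Zc S) = 4) {v : G} (vS : v ∈ S) (vv : v * v = 1) (vZ : v ∉ Zc S) :
    Nat.card (Zc S ⊔ zpowers v : Subgroup G) = 8 := by
  rw [card_sup_inv vv (fun a ha => by rwa [Zc_comm vS ha, mul_inv_cancel_right]) vZ, h4]

/-- normalising `Z⟨v⟩` -/
theorem norm_of (t : ZT S w f y) {v n : G} (h1 : n * f * n⁻¹ ∈ Zc S ⊔ zpowers v)
    (h2 : n * w * n⁻¹ ∈ Zc S ⊔ zpowers v) (h3 : n * v * n⁻¹ ∈ Zc S ⊔ zpowers v) :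
    n ∈ normalizer ((Zc S ⊔ zpowers v : Subgroup G) : Set G) := by
  refine mem_normalizer_of_cj_le ?_
  rw [cj_sup, cj_zpowers, sup_le_iff, zpowers_le]
  refine ⟨?_, h3⟩
  conv_lhs => rw [(el_Zc S).eq_V2 t.four.le t.fZ t.wZ t.f1 t.w1 t.fw.symm, cj_V2]
  exact V2_le.2 ⟨h1, h2⟩

/-- the classes in `E` -/
theorem cls (h : ZW S w) (t : ZT S w f y) {a : G} (ha : a ∈ Zc S ⊔ zpowers y) :
    (IsConj f a → a = f) ∧ (IsConj w a → a = w ∨ a = y ∨ a = w * y) := by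
  obtain ⟨θ, θf, θw, θy⟩ := t.rot
  have fwZ := mul_mem t.fZ t.wZ
  have c1 : IsConj w y := isConj_iff.2 ⟨θ, θw⟩
  have c2 : IsConj w (w * y) := c1.trans (isConj_iff.2 ⟨θ, θy⟩)
  have c3 : IsConj (f * w) (f * y) := isConj_iff.2 ⟨θ, by rw [← conj_mul, θf, θw]⟩
  have c4 : IsConj (f * w) (f * w * y) :=
    c3.trans (isConj_iff.2 ⟨θ, by rw [← conj_mul, θf, θy, mul_assoc]⟩)
  have n1 : ¬ IsConj f w := fun e => t.fw (h.nof _ t.fZ _ t.wZ e)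
  have n2 : ¬ IsConj f (f * w) := fun e => t.w1 (mul_eq_left.1 (h.nof _ t.fZ _ fwZ e).symm)
  have n3 : ¬ IsConj w (f * w) := fun e => t.f1 (mul_eq_right.1 (h.nof _ t.wZ _ fwZ e).symm)
  rcases (memE t.yS t.yy).1 ha with e | e
  · exact ⟨fun c => (h.nof _ t.fZ _ e c).symm, fun c => .inl (h.nof _ t.wZ _ e c).symm⟩
  have e0 : ∀ {b : G}, a * y = b → a = b * y := fun e => by rw [← e, mul_assoc, t.yy, mul_one]
  rcases (el_Zc S).four t.four.le t.fZ t.wZ t.f1 t.w1 t.fw.symm e with e' | e' | e' | e' <;>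
    rw [e0 e']
  · rw [one_mul]
    exact ⟨fun c => absurd (c.trans c1.symm) n1, fun _ => .inr (.inl rfl)⟩
  · exact ⟨fun c => absurd (c.trans c3.symm) n2, fun c => absurd (c.trans c3.symm) n3⟩
  · exact ⟨fun c => absurd (c.trans c2.symm) n1, fun _ => .inr (.inr rfl)⟩
  · exact ⟨fun c => absurd (c.trans c4.symm) n2, fun c => absurd (c.trans c4.symm) n3⟩

/-- passage to a fully normalised conjugate -/
theorem full (rk : PRankLE 2 3 G) {ε c : G} (h : ZW S w) (t : ZT S w f y) (hε : ε = 1 ∨ ε = f)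
    (cS : c ∈ S) (cy : c * y = y * c) (cc : c * c = ε * w ∨ c * c = ε * y ∨ c * c = ε * w * y) :
    ∃ y' θ c' : G, y' ∈ S ∧ y' * y' = 1 ∧ y' ≠ w ∧ θ * f * θ⁻¹ = f ∧ θ * w * θ⁻¹ = y' ∧
      θ * y' * θ⁻¹ = w * y' ∧ c' ∈ S ⊓ Cx y' ∧
      (c' * c' = ε * w ∨ c' * c' = ε * y' ∨ c' * c' = ε * (w * y')) ∧
      IsSylowIn 2 (S ⊓ normalizer ((Zc S ⊔ zpowers y' : Subgroup G) : Set G))
        (normalizer ((Zc S ⊔ zpowers y' : Subgroup G) : Set G)) := by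
  obtain ⟨θ, θf, θw, θy⟩ := t.rot
  have elE := (el_Zc S).sup_inv t.yy fun a ha => Zc_comm t.yS ha
  have cE := cardE t.four t.yS t.yy t.yZ
  have ES : Zc S ⊔ zpowers y ≤ S := sup_le (Zc_le S) (zpowers_le.2 t.yS)
  have wE : w ∈ Zc S ⊔ zpowers y := mem_sup_left t.wZ
  have yE : y ∈ Zc S ⊔ zpowers y := mem_sup_right (mem_zpowers y)
  have hcl := fun a ha => cls h t (a := a) ha
  have cC : Zc S ⊔ zpowers y ≤ Cx c :=
    sup_le (fun a ha => mem_Cx.2 (Zc_comm cS ha).symm) (zpowers_le.2 (mem_Cx.2 cy.symm))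
  generalize Zc S ⊔ zpowers y = E at elE cE ES wE yE hcl cC
  obtain ⟨P, hP, hP1⟩ := exists_isSylowIn_ge (p := 2) (Q := S ⊓ normalizer (E : Set G))
    (h.syl.pgroup.to_le inf_le_left) inf_le_right
  obtain ⟨k, -, hk⟩ := h.syl.exists_cj_le hP.pgroup le_top
  have EP : E ≤ P := (le_inf ES le_normalizer).trans hP1
  have E'S : cj k E ≤ S := (cj_mono k EP).trans hk
  have ZE' : Zc S ≤ cj k E := fun a ha => (elE.cj k).mem_of_comm rk (by rw [card_cj, cE]) ha.2.1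
    fun b hb => (Zc_comm (E'S hb) ha).symm
  have kf : k⁻¹ * f * k = f :=
    (hcl _ (mem_cj.1 (ZE' t.fZ))).1 (isConj_iff.2 ⟨k⁻¹, by rw [inv_inv]⟩)
  have kf' : k * f * k⁻¹ = f := by
    conv_lhs => rw [← kf]
    group
  have kε : k * ε * k⁻¹ = ε := by
    rcases hε with e | e <;> rw [e]
    exacts [by simp, kf']
  have wy : w * y = y * w := (Zc_comm t.yS t.wZ).symm
  have ww := t.wZ.2.1
  have θwy : θ * (w * y) * θ⁻¹ = w := by
    rw [← conj_mul, θw, θy, ← mul_assoc, ← wy, mul_assoc, t.yy, mul_one]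
  obtain ⟨w0, y0, kw, y0E, ne, h1, h2, h3⟩ : ∃ w0 y0 : G, k * w0 * k⁻¹ = w ∧ y0 ∈ E ∧ y0 ≠ w0 ∧
      θ * w0 * θ⁻¹ = y0 ∧ θ * y0 * θ⁻¹ = w0 * y0 ∧
      (c * c = ε * w0 ∨ c * c = ε * y0 ∨ c * c = ε * (w0 * y0)) := by
    have yw : y ≠ w := fun e => t.yZ (e ▸ t.wZ)
    have y1 : y ≠ 1 := fun e => t.yZ (e ▸ one_mem _)
    have e1 : y * (w * y) = w := by rw [← mul_assoc, ← wy, mul_assoc, t.yy, mul_one]
    have e2 : w * y * w = y := by rw [wy, mul_assoc, ww, mul_one]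
    have k0 : ∀ {a : G}, k⁻¹ * w * k = a → k * a * k⁻¹ = w := fun e => by rw [← e]; group
    rw [mul_assoc ε] at cc
    rcases (hcl _ (mem_cj.1 (ZE' t.wZ))).2 (isConj_iff.2 ⟨k⁻¹, by rw [inv_inv]⟩) with e | e | e
    · exact ⟨w, y, k0 e, yE, yw, θw, θy, cc⟩
    · refine ⟨y, w * y, k0 e, mul_mem wE yE, fun e => t.w1 (mul_eq_right.1 e), θy,
        by rw [θwy, e1], ?_⟩
      rw [e1]; tauto
    · refine ⟨w * y, w, k0 e, wE, fun e => y1 (mul_eq_left.1 e.symm), θwy,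
        by rw [θw, e2], ?_⟩
      rw [e2]; tauto
  have y'E : k * y0 * k⁻¹ ∈ cj k E := conj_mem_cj.2 y0E
  have yy' : k * y0 * k⁻¹ * (k * y0 * k⁻¹) = 1 := elE.cj k _ y'E
  have ne' : k * y0 * k⁻¹ ≠ w := fun e => ne (by
    rw [← kw] at e
    simpa using e)
  have θw' : k * θ * k⁻¹ * w * (k * θ * k⁻¹)⁻¹ = k * y0 * k⁻¹ := by
    rw [← kw, ← h1]; group
  have y'Z : k * y0 * k⁻¹ ∉ Zc S := fun e => ne' (h.nof _ t.wZ _ e (isConj_iff.2 ⟨_, θw'⟩)).symm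
  have eE : Zc S ⊔ zpowers (k * y0 * k⁻¹) = cj k E :=
    eq_of_le_of_card_ge (sup_le ZE' (zpowers_le.2 y'E))
      (by rw [card_cj, cE, cardE t.four (E'S y'E) yy' y'Z])
  have cP : c ∈ P := hP1 ⟨cS, mem_normalizer_of_forall fun a ha => by
    rwa [← mem_Cx.1 (cC ha), mul_inv_cancel_right]⟩
  refine ⟨k * y0 * k⁻¹, k * θ * k⁻¹, k * c * k⁻¹, E'S y'E, yy', ne', ?_, θw', ?_,
    ⟨hk (conj_mem_cj.2 cP), mem_Cx.2 ?_⟩, ?_, ?_⟩
  · rw [show k * θ * k⁻¹ * f * (k * θ * k⁻¹)⁻¹ = k * (θ * (k⁻¹ * f * k) * θ⁻¹) * k⁻¹ by group, kf, θf,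
      kf']
  · rw [← kw, conj_mul (a := w0), ← h2]; group
  · rw [conj_mul, conj_mul, mem_Cx.1 (cC y0E)]
  · rw [conj_mul, ← kw, conj_mul, ← kε, conj_mul, conj_mul, conj_mul]
    rcases h3 with e | e | e <;> rw [e] <;> simp
  · rw [eE]
    have h5 := hP.cj k
    rw [cj_normalizer] at h5
    rwa [h5.eq_of_le (Q := S ⊓ normalizer (cj k E : Set G)) (h.syl.pgroup.to_le inf_le_left)
      (le_inf hk h5.le) inf_le_right]

end Zu3

/-- If an involution of `E` other than `f` is a square in `C_S(E)`, there is a normal `E'` of the same type. -/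
theorem ZW.nsq (rk : PRankLE 2 3 G) {w f y ε c : G} (h : ZW S w) (t : ZT S w f y) (hε : ε = 1 ∨ ε = f)
    (cS : c ∈ S) (cy : c * y = y * c) (cc : c * c = ε * w ∨ c * c = ε * y ∨ c * c = ε * w * y) :
    ∃ y', ZT S w f y' ∧ (∀ s ∈ S, s * y' * s⁻¹ = y' ∨ s * y' * s⁻¹ = w * y') ∧
      (∃ θ ∈ normalizer ((S ⊓ Cx y' : Subgroup G) : Set G),
        θ * f * θ⁻¹ = f ∧ θ * w * θ⁻¹ = y' ∧ θ * y' * θ⁻¹ = w * y') ∧
      ∃ r ∈ S ⊓ Cx y', r * r = ε * y' := by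
  obtain ⟨y', θ0, c', yS, yy, yw, θf, θw, θy, hc', cc', hP⟩ := Zu3.full rk h t hε cS cy cc
  have cw : IsConj w y' := isConj_iff.2 ⟨_, θw⟩
  have yZ : y' ∉ Zc S := fun e => yw (h.nof _ t.wZ _ e cw).symm
  have t' : ZT S w f y' := by
    obtain ⟨f2, y2, t2, e⟩ := h.ex y' yS yZ w t.wZ cw
    obtain rfl : y' = y2 := e.resolve_right fun e => by
      obtain ⟨θ2, e1, e2, -⟩ := t2.rot
      have c3 : IsConj (f2 * w) (f2 * y2) := isConj_iff.2 ⟨θ2, by rw [← conj_mul, e1, e2]⟩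
      exact t2.f1 (mul_eq_right.1
        (h.nof _ t.wZ _ (mul_mem t2.fZ t.wZ) (cw.trans (e ▸ c3.symm))).symm)
    exact ⟨t.four, t.wZ, t.fZ, t.w1, t.f1, t.fw, yS, yy, yZ, t2.cm, t2.ex, θ0, θf, θw, θy⟩
  have wE : w ∈ Zc S ⊔ zpowers y' := mem_sup_left t.wZ
  have fE : f ∈ Zc S ⊔ zpowers y' := mem_sup_left t.fZ
  have yE : y' ∈ Zc S ⊔ zpowers y' := mem_sup_right (mem_zpowers y')
  have hn : normalizer ((Zc S ⊔ zpowers y' : Subgroup G) : Set G) ≤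
      normalizer (centralizer ((Zc S ⊔ zpowers y' : Subgroup G) : Set G) : Set G) := fun x hx =>
    mem_normalizer_iff_cj.2 (by rw [cj_centralizer, mem_normalizer_iff_cj.1 hx])
  have RC : S ⊓ Cx y' ≤ centralizer ((Zc S ⊔ zpowers y' : Subgroup G) : Set G) := fun s hs =>
    mem_centralizer_iff.2 fun a ha => mem_Cx.1 ((sup_le (fun b hb => mem_Cx.2 (Zc_comm hs.1 hb).symm)
      (zpowers_le.2 (Cx_comm.1 hs.2)) : _ ≤ Cx s) ha)
  have RP : S ⊓ Cx y' ≤ S ⊓ normalizer ((Zc S ⊔ zpowers y' : Subgroup G) : Set G) :=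
    le_inf inf_le_left (RC.trans (centralizer_le_normalizer _))
  have hR := hP.inf_of_le_normalizer hn
  rw [inf_eq_right.2 (centralizer_le_normalizer _), show S ⊓ normalizer
      ((Zc S ⊔ zpowers y' : Subgroup G) : Set G) ⊓
      centralizer ((Zc S ⊔ zpowers y' : Subgroup G) : Set G) = S ⊓ Cx y' from
    le_antisymm (fun s hs => ⟨hs.1.1, mem_Cx.2 (mem_centralizer_iff.1 hs.2 _ yE).symm⟩)
      (le_inf RP RC)] at hR
  obtain ⟨n, hnC, hθ⟩ := hR.frattini (g := θ0)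
    (hn (Zu3.norm_of t (θf.symm ▸ fE) (θw.symm ▸ yE) (θy.symm ▸ mul_mem wE yE)))
  have act : ∀ {a b : G}, b ∈ Zc S ⊔ zpowers y' → θ0 * a * θ0⁻¹ = b →
      n * θ0 * a * (n * θ0)⁻¹ = b := fun {a b} hb e => by
    rw [show n * θ0 * a * (n * θ0)⁻¹ = n * (θ0 * a * θ0⁻¹) * n⁻¹ by group, e,
      ← mem_centralizer_iff.1 hnC _ hb, mul_inv_cancel_right]
  have θf' := act fE θf
  have θw' := act yE θw
  have θy' := act (mul_mem wE yE) θy
  generalize n * θ0 = θ at hθ θf' θw' θy'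
  have θε : θ * ε * θ⁻¹ = ε := by
    rcases hε with e | e <;> rw [e]
    exacts [by simp, θf']
  have εZ : ε ∈ Zc S := by
    rcases hε with e | e <;> rw [e]
    exacts [one_mem _, t.fZ]
  obtain ⟨r, hr, rr⟩ : ∃ r ∈ S ⊓ Cx y', r * r = ε * y' := by
    rcases cc' with e | e | e
    · exact ⟨_, conj_mem_of_mem_normalizer hθ hc', by rw [conj_mul, e, ← conj_mul, θε, θw']⟩
    · exact ⟨_, hc', e⟩
    · refine ⟨_, conj_mem_of_mem_normalizer' hθ hc', ?_⟩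
      rw [show θ⁻¹ * c' * θ * (θ⁻¹ * c' * θ) = θ⁻¹ * (c' * c') * θ by group, e, ← θy']
      conv_lhs => rw [← θε]
      group
  have hP' : ∀ s ∈ S ⊓ normalizer ((Zc S ⊔ zpowers y' : Subgroup G) : Set G),
      s * y' * s⁻¹ = y' ∨ s * y' * s⁻¹ = w * y' := fun s hs =>
    t'.cm s hs.1 (((Zu3.memE yS yy).1 (conj_mem_of_mem_normalizer hs.2 yE)).resolve_left fun e =>
      yZ (by simpa [mul_assoc] using Zc_conj (le_normalizer (inv_mem hs.1)) e))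
  refine ⟨y', t', fun s hs => hP' s ⟨hs, ?_⟩, ⟨θ, hθ, θf', θw', θy'⟩, r, hr, rr⟩
  by_contra hsN
  obtain ⟨σ, σS, σP, σN⟩ := exists_mem_normalizer_of_lt
    (Q := S ⊓ normalizer ((Zc S ⊔ zpowers y' : Subgroup G) : Set G)) h.syl.pgroup
    (lt_of_le_of_ne inf_le_left fun e => hsN (e.ge hs).2)
  have hp := conj_mem_of_mem_normalizer σN (RP hr)
  have h1 : σ * r * σ⁻¹ * (σ * r * σ⁻¹) * y' = y' * (σ * r * σ⁻¹ * (σ * r * σ⁻¹)) := by
    generalize σ * r * σ⁻¹ = p at hp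
    rw [← mul_inv_eq_iff_eq_mul, show p * p * y' * (p * p)⁻¹ = p * (p * y' * p⁻¹) * p⁻¹ by group]
    rcases hP' p hp with e | e
    · rw [e, e]
    · rw [e, ← conj_mul, e, Zc_comm hp.1 t.wZ, mul_inv_cancel_right, ← mul_assoc, t.wZ.2.1, one_mul]
  rw [conj_mul, rr, ← conj_mul, Zc_comm σS εZ, mul_inv_cancel_right, ← mul_assoc y',
    Zc_comm yS εZ, mul_assoc ε, mul_assoc ε, mul_right_inj] at h1
  have h2 : σ * y' * σ⁻¹ ∈ Zc S ⊔ zpowers y' := (Zu3.memE yS yy).2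
    (Zu1.mem_E rk t.four yS yy yZ (by rw [conj_mul, yy]; simp)
      (fun a ha => Zc_comm (mul_mem (mul_mem σS yS) (inv_mem σS)) ha) h1)
  exact σP ⟨σS, Zu3.norm_of t (by rwa [Zc_comm σS t.fZ, mul_inv_cancel_right])
    (by rwa [Zc_comm σS t.wZ, mul_inv_cancel_right]) h2⟩

end CfsgLib.Rk3B
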