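import Cfsg.Agent.Lib.Rk3B.Zu3
import Cfsg.Agent.Lib.Rk3B.Zu2
import Cfsg.Agent.Lib.Fus2.Base

/-!
`w` is not a square  (plans/RK3B.md, package ZU4)
-/

set_option autoImplicit false

namespace CfsgLib.Rk3B

open Subgroup Cfsg CfsgLib.Tech CfsgLib.W2 CfsgLib.Rk3

variable {G : Type*} [Group G] [Finite G] {S : Subgroup G} {z u g e : G}

namespace ZU4

open ZU2

/-- `V / E = Ω₁ Z(R / E)` for `E = Ω₁ Z(R)` -/
def VV (R : Subgroup G) : Subgroup G where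
  carrier := {c | c ∈ R ∧ c * c ∈ Zc R ∧ ∀ x ∈ R, x * c * x⁻¹ * c⁻¹ ∈ Zc R}
  one_mem' := ⟨one_mem _, by simp, by simp⟩
  mul_mem' := by
    rintro a b ⟨a1, a2, a3⟩ ⟨b1, b2, b3⟩
    refine ⟨mul_mem a1 b1, ?_, fun x hx => ?_⟩
    · have := mul_mem (mul_mem (b3 a a1) (Zc_conj (le_normalizer b1) a2)) b2
      convert this using 1; group
    · have := mul_mem (a3 x hx) (Zc_conj (le_normalizer a1) (b3 x hx))
      convert this using 1; group
  inv_mem' := by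
    rintro a ⟨a1, a2, a3⟩
    refine ⟨inv_mem a1, by simpa using inv_mem a2, fun x hx => ?_⟩
    have := Zc_conj (le_normalizer (inv_mem a1)) (inv_mem (a3 x hx))
    convert this using 1; group

omit [Finite G] in
theorem VV_conj {R : Subgroup G} {n c : G} (hn : n ∈ normalizer (R : Set G)) (hc : c ∈ VV R) :
    n * c * n⁻¹ ∈ VV R :=
  ⟨conj_mem_of_mem_normalizer hn hc.1, by rw [conj_mul]; exact Zc_conj hn hc.2.1, fun x hx => by
    have := Zc_conj hn (hc.2.2 _ (conj_mem_of_mem_normalizer' hn hx))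
    convert this using 1; group⟩

variable {w f y v : G} (rk : PRankLE 2 3 G) (h : ZW S w) (t : ZT S w f y)
  (nm : ∀ s ∈ S, s * y * s⁻¹ = y ∨ s * y * s⁻¹ = w * y)
include rk h t

/-- (i) -/
theorem not_comm (d : ZT S w (f * w) v) : v * y ≠ y * v := fun e => by
  have h1 := (mem_Zy rk t d.yS d.yy e).resolve_left d.yZ
  have h2 : ∀ {x}, v * y = x → v = x * y := fun e => by rw [← e, mul_assoc, t.yy, mul_one]
  have fw := mul_mem t.fZ t.wZ
  have h3 : ¬ IsConj (f * w) v := fun e => t.f1 (mul_eq_right.1 (h.nof _ fw _ t.wZ (e.trans (cls d).1.symm)))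
  have h4 : ¬ IsConj (f * w) (f * w * v) := fun e =>
    t.w1 (mul_eq_left.1 (h.nof _ (mul_mem fw t.wZ) _ fw ((cls d).2.1.trans e.symm)))
  rcases (el_Zc S).four h.four.le t.wZ t.fZ t.w1 t.f1 t.fw h1 with e' | e' | e' | e'
  · exact h4 (by rw [h2 e', one_mul, (el_Zc S).comm t.fZ t.wZ]; nth_rw 1 [← (el_Zc S).comm t.fZ t.wZ]
                 exact (cls t).2.2)
  · exact h4 (by rw [h2 e', mul_assoc, ← mul_assoc w, t.wZ.2.1, one_mul]; exact (cls t).2.1)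
  · exact h3 (h2 e' ▸ (cls t).2.1)
  · exact h3 (h2 e' ▸ (cls t).2.2)

include nm

omit [Finite G] rk h in
theorem sq_mem {s : G} (hs : s ∈ S) : s * s ∈ S ⊓ Cx y := by
  refine ⟨mul_mem hs hs, mem_Cx'.2 ?_⟩
  rw [show s * s * y * (s * s)⁻¹ = s * (s * y * s⁻¹) * s⁻¹ by group]
  rcases nm s hs with e | e
  · rw [e, e]
  · rw [e, ← conj_mul, e, Zc_comm hs t.wZ, mul_inv_cancel_right, ← mul_assoc, t.wZ.2.1, one_mul]

omit rk h in
theorem norm_R : S ≤ normalizer ((S ⊓ Cx y : Subgroup G) : Set G) := fun s hs =>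
  mem_normalizer_of_forall fun x hx => mem_inf.2 ⟨mul_mem (mul_mem hs hx.1) (inv_mem hs), by
    have : x ∈ Cx (s⁻¹ * y * s⁻¹⁻¹) := by
      rcases nm _ (inv_mem hs) with e | e <;> rw [e]
      exacts [hx.2, Cx_comm.1 (mul_mem (Cx_comm.1 (t.wZ.2.2 hx.1)) (Cx_comm.1 hx.2))]
    simpa [mul_assoc] using (conj_mem_Cx (g := s)).2 this⟩

/-- (ii) -/
theorem sq_eq (d : ZT S w (f * w) v) {c : G} (cS : c ∈ S) (cv : c * v = v * c) (c2 : c * c ≠ 1)
    (c4 : c * c * (c * c) = 1) : c * c = f * w := by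
  by_contra hn
  have key : ∀ ε, ε = 1 ∨ ε = f * w → ¬ (c * c = ε * w ∨ c * c = ε * v ∨ c * c = ε * w * v) :=
    fun ε hε cc => by
      obtain ⟨v', d', -, -, r, hr, e⟩ := h.nsq rk d hε cS cv cc
      have h1 := (sq_mem t nm hr.1).2
      have h2 : ε ∈ Cx y := by
        rcases hε with rfl | rfl
        exacts [one_mem _, Cx_comm.1 (d.fZ.2.2 t.yS)]
      rw [e] at h1
      exact not_comm rk h t d' (mem_Cx.1 ((mul_mem_cancel_left h2).1 h1))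
  have h2 : ∀ {x}, c * c * v = x → c * c = x * v := fun e => by rw [← e, mul_assoc _ v, d.yy, mul_one]
  have cm := (el_Zc S).comm d.wZ d.fZ
  rcases mem_Zy rk d (mul_mem cS cS) c4 (Commute.mul_left cv cv) with h1 | h1 <;>
    rcases (el_Zc S).four h.four.le d.wZ d.fZ d.w1 d.f1 d.fw h1 with e | e | e | e
  · exact c2 e
  · exact key 1 (.inl rfl) (.inl (by rw [e, one_mul]))
  · exact hn e
  · exact key _ (.inr rfl) (.inl (by rw [e, cm]))
  · exact key 1 (.inl rfl) (.inr (.inl (h2 e)))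
  · exact key 1 (.inl rfl) (.inr (.inr (by rw [h2 e, one_mul])))
  · exact key _ (.inr rfl) (.inr (.inl (h2 e)))
  · exact key _ (.inr rfl) (.inr (.inr (by rw [h2 e, cm])))

omit h nm in
theorem mem_E {a : G} (ha : a ∈ S ⊓ Cx y) (aa : a * a = 1) : a ∈ Zc (S ⊓ Cx y) := by
  have h1 : ∀ b ∈ Zc S, S ⊓ Cx y ≤ Cx b := fun b hb => inf_le_left.trans hb.2.2
  refine ⟨ha, aa, (mem_Zy rk t ha.1 aa (mem_Cx.1 ha.2)).elim (h1 a) fun e x hx => ?_⟩
  exact Cx_comm.1 ((mul_mem_cancel_right (Cx_comm.1 hx.2)).1 (Cx_comm.1 (h1 _ e hx)))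

/-- (iii) -/
theorem sq_of (d : ZT S w (f * w) v) {c a : G} (hc : c ∈ VV (S ⊓ Cx y)) (cE : c ∉ Zc (S ⊓ Cx y))
    (aE : a ∈ Zc (S ⊓ Cx y)) (e : v * c * v⁻¹ = c * a) : c * c = f * w := by
  have nc := not_comm rk h t d
  have vi : v⁻¹ = v := inv_eq_of_mul_eq_one_right d.yy
  have c2 : c * c ≠ 1 := fun e => cE (mem_E rk t hc.1 e)
  have h1 : v * a * v⁻¹ = a := by
    have : c * a * (v * a * v⁻¹) = c := by
      rw [← e, conj_mul, ← e, vi, ← mul_assoc, ← mul_assoc, d.yy, one_mul, mul_assoc, d.yy, mul_one]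
    rw [mul_assoc, mul_eq_left] at this
    rw [eq_inv_of_mul_eq_one_right this, inv_eq_of_mul_eq_one_right aE.2.1]
  have aZ : a ∈ Zc S := (mem_Zy rk t aE.1.1 aE.2.1 (mem_Cx.1 aE.1.2)).resolve_right fun e' =>
    nc (mem_Cx.1 (Cx_comm.1 ((mul_mem_cancel_left (Cx_comm.1 (mem_Cx'.2 h1))).1 (Cx_comm.1 (e'.2.2 d.yS)))))
  by_cases a1 : a = 1
  · rw [a1, mul_one, mul_inv_eq_iff_eq_mul] at e
    exact sq_eq rk h t nm d hc.1.1 e.symm c2 hc.2.1.2.1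
  obtain rfl := eq_w d (inv_mem hc.1.1) aZ a1 (by rw [inv_inv, mul_assoc, mul_inv_eq_iff_eq_mul.1 e]; group)
  have h2 : c * y * (c * y) = c * c := by
    rw [mul_assoc, ← mul_assoc y, ← mem_Cx.1 hc.1.2, mul_assoc, t.yy, mul_one]
  rw [← h2]
  refine sq_eq rk h t nm d (mul_mem hc.1.1 t.yS) (mul_inv_eq_iff_eq_mul.1 ?_).symm (h2 ▸ c2) (h2 ▸ hc.2.1.2.1)
  rw [← conj_mul, e, (nm v d.yS).resolve_left fun e => nc (mul_inv_eq_iff_eq_mul.1 e), mul_assoc, ← mul_assoc a,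
    aE.2.1, one_mul]

/-- (iv) -/
theorem sq_V (d : ZT S w (f * w) v) {c : G} (hc : c ∈ VV (S ⊓ Cx y)) (cE : c ∉ Zc (S ⊓ Cx y)) :
    c * c = f * w := by
  have vi : v⁻¹ = v := inv_eq_of_mul_eq_one_right d.yy
  have h1 := mul_mem (inv_mem hc) (VV_conj (norm_R t nm d.yS) hc)
  refine sq_of rk h t nm d hc cE (a := c⁻¹ * (v * c * v⁻¹)) (by_contra fun hn => ?_) (by group)
  have d' := conj d (le_normalizer (inv_mem hc.1.1))
  rw [Zc_comm (inv_mem hc.1.1) d.wZ, Zc_comm (inv_mem hc.1.1) d.fZ, mul_inv_cancel_right,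
    mul_inv_cancel_right] at d'
  rw [show c⁻¹ * (v * c * v⁻¹) = c⁻¹ * v * c⁻¹⁻¹ * v by rw [vi]; group] at h1 hn
  generalize c⁻¹ * v * c⁻¹⁻¹ = v' at d' h1 hn
  have h2 := sq_of rk h t nm d h1 hn (inv_mem h1.2.1) (by
    rw [mul_inv_rev, mul_inv_cancel_left, mul_inv_rev, vi,
      inv_eq_of_mul_eq_one_right d'.yy, ← mul_assoc, mul_assoc _ v, d.yy, mul_one])
  obtain ⟨k, hk⟩ := h.dih _ _ _ _ d' d fun e => hn (by rw [e, d.yy]; exact one_mem _)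
  have wE : w ∈ Zc (S ⊓ Cx y) := mem_E rk t ⟨t.wZ.1, Cx_comm.1 (t.wZ.2.2 t.yS)⟩ t.wZ.2.1
  obtain ⟨j, rfl | rfl⟩ := Int.even_or_odd' k <;> simp only [zpow_add, zpow_mul, zpow_one, zpow_two, h2] at hk
  · have h3 : w ∈ ⊥ ⊔ zpowers (f * w) := mem_sup_right ⟨j, hk⟩
    rcases (mem_sup_inv d.fZ.2.1 (by simp)).1 h3 with e | e
    · exact t.w1 e
    · exact d.fw ((eq_inv_of_mul_eq_one_right e).trans (inv_eq_of_mul_eq_one_right t.wZ.2.1))
  · exact hn ((mul_mem_cancel_left (zpow_mem (h2 ▸ h1.2.1) j)).1 (by rw [hk]; exact wE))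

end ZU4

open ZU4 in
theorem ZW.not_sq (rk : PRankLE 2 3 G) {w f y : G} (h : ZW S w) (t : ZT S w f y) :
    ∀ c ∈ S, c * y = y * c → c * c ≠ w := by
  intro c cS cy cc
  obtain ⟨y', t', nm, ⟨θ, hθ, e1, e2, -⟩, r, hr, rr⟩ :=
    h.nsq rk t (.inl rfl) cS cy (.inl (by rw [cc, one_mul]))
  obtain ⟨v, d⟩ := h.both _ (mul_mem t.fZ t.wZ) (fun e => t.fw ((eq_inv_of_mul_eq_one_left e).trans
    (inv_eq_of_mul_eq_one_right t.wZ.2.1))) fun e => t.f1 (mul_eq_right.1 e)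
  obtain ⟨x, h1, h2, h3, h4⟩ := Fus2.exists_central_mod (p := 2) (h.syl.pgroup.to_le inf_le_left) le_rfl
    (le_normalizer.trans (norm_Zc (S ⊓ Cx y'))) le_normalizer fun e =>
      t'.yZ (by rw [← one_mul y', ← rr, (e hr).2.1]; exact one_mem _)
  have hx : x ∈ VV (S ⊓ Cx y') := ⟨h1, sq x ▸ h3, h4⟩
  have h5 := sq_V rk h t' nm d (VV_conj hθ hx) fun e => h2 (by
    simpa [mul_assoc] using Zc_conj (inv_mem hθ) e)
  rw [conj_mul, sq_V rk h t' nm d hx h2, ← conj_mul, e1, e2, mul_right_inj] at h5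
  exact t'.yZ (h5 ▸ t.wZ)

end CfsgLib.Rk3B
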