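import Cfsg.Agent.Lib.Rk3B.Tl
import Cfsg.Agent.Lib.Rk3B.Zu2
import Cfsg.Agent.Lib.Rk3B.Zu3
import Cfsg.Agent.Lib.Rk3B.Zu4

/-!
The centre of a Sylow 2-subgroup is cyclic  (plans/RK3B.md, package ZU5)
-/

set_option autoImplicit false

namespace CfsgLib.Rk3B

open Subgroup Cfsg CfsgLib.Tech CfsgLib.W2 CfsgLib.Rk3

variable {G : Type*} [Group G] [Finite G] {S : Subgroup G} {z u g e : G}

namespace Zu5

variable {w f f' y : G}

omit [Finite G] in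
theorem cls (t : ZT S w f y) :
    IsConj w y ∧ IsConj (f * w) (f * y) ∧ IsConj (f * w) (f * w * y) := by
  obtain ⟨θ, θf, θw, θy⟩ := t.rot
  have c3 : IsConj (f * w) (f * y) := isConj_iff.2 ⟨θ, by rw [← conj_mul, θf, θw]⟩
  exact ⟨isConj_iff.2 ⟨θ, θw⟩, c3,
    c3.trans (isConj_iff.2 ⟨θ, by rw [← conj_mul, θf, θy, mul_assoc]⟩)⟩

omit [Finite G] in
theorem ty (k : ZW S w) (yS : y ∈ S) (c : IsConj w y) (ne : y ≠ w) : ∃ f, ZT S w f y := by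
  obtain ⟨f, y2, t, e⟩ := k.ex y yS (fun e => ne (k.nof _ k.wZ _ e c).symm) w k.wZ c
  obtain rfl : y = y2 := e.resolve_right fun e => t.f1 (mul_eq_right.1
    (k.nof _ k.wZ _ (mul_mem t.fZ k.wZ) (c.trans (e ▸ (cls t).2.1.symm))).symm)
  exact ⟨f, t⟩

theorem ty_uq (k : ZW S w) (t : ZT S w f y) (t' : ZT S w f' y) : f' = f := by
  rcases (el_Zc S).four t.four.le t.fZ t.wZ t.f1 t.w1 t.fw.symm t'.fZ with e | e | e | e
  · exact absurd e t'.f1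
  · exact e
  · exact absurd e t'.fw
  · have c := (cls t').2.1
    rw [e, mul_assoc f w w, t.wZ.2.1, mul_one] at c
    exact absurd (mul_eq_left.1 (k.nof _ t.fZ _ (mul_mem t.fZ t.wZ)
      (c.trans (cls t).2.2.symm)).symm) t.w1

theorem ty_cj (t : ZT S w f y) {s : G} (hs : s ∈ S) : ZT S w f (s * y * s⁻¹) := by
  have := ZU2.conj t (le_normalizer hs)
  rwa [Zc_comm hs t.wZ, Zc_comm hs t.fZ, mul_inv_cancel_right, mul_inv_cancel_right] at this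

omit [Finite G] in
theorem sw {a k : G} (h : a * k * a⁻¹ = k⁻¹) (j : ℤ) :
    (k ^ j)⁻¹ * a * (k ^ j)⁻¹⁻¹ = a * k ^ (2 * j) := by
  have e : a * k ^ j * a⁻¹ = (k ^ j)⁻¹ := by rw [← conj_zpow, h, inv_zpow]
  conv_lhs => rw [inv_inv, ← e]
  rw [e, ← e, two_mul, zpow_add]
  group

/-- the squares in `C_S(y)` -/
theorem star (rk : PRankLE 2 3 G) (k : ZW S w) {b κ : G} (κS : κ ∈ S) (bκ : b * κ * b⁻¹ = κ⁻¹)
    (bb : b * b = 1) (hN : S ≤ normalizer ((zpowers κ : Subgroup G) : Set G))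
    (hY : ∀ f y, ZT S w f y → b * y ∈ zpowers κ) (κ2 : κ * κ ≠ 1) (t : ZT S w f y) {c : G}
    (cS : c ∈ S) (cy : c * y = y * c) (c2 : c * c ≠ 1) (c4 : c * c * (c * c) = 1) : c * c = f := by
  by_contra cf
  have e0 : ∀ {a : G}, c * c * y = a → c * c = a * y := fun e => by
    rw [← e, mul_assoc, t.yy, mul_one]
  obtain ⟨ε, hε, cc⟩ : ∃ ε, (ε = 1 ∨ ε = f) ∧
      (c * c = ε * w ∨ c * c = ε * y ∨ c * c = ε * w * y) := by
    rcases Zu1.mem_E rk t.four t.yS t.yy t.yZ c4 (fun a ha => Zc_comm (mul_mem cS cS) ha)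
      (Commute.mul_left cy cy) with e | e <;>
      rcases (el_Zc S).four t.four.le t.fZ t.wZ t.f1 t.w1 t.fw.symm e with e' | e' | e' | e'
    · exact absurd e' c2
    · exact absurd e' cf
    · exact ⟨1, .inl rfl, .inl (by rwa [one_mul])⟩
    · exact ⟨f, .inr rfl, .inl e'⟩
    · exact ⟨1, .inl rfl, .inr (.inl (e0 e'))⟩
    · exact ⟨f, .inr rfl, .inr (.inl (e0 e'))⟩
    · exact ⟨1, .inl rfl, .inr (.inr (by rw [one_mul, e0 e']))⟩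
    · exact ⟨f, .inr rfl, .inr (.inr (e0 e'))⟩
  obtain ⟨y', t', nm, -, r, hr, rr⟩ := k.nsq rk t hε cS cy cc
  have εZ : ε ∈ Zc S := by
    rcases hε with e | e <;> rw [e]
    exacts [one_mem _, t.fZ]
  have yκ : y' * κ * y'⁻¹ = κ⁻¹ := by
    obtain ⟨i, hi⟩ := hY _ _ t'
    have e : y' = b * κ ^ i := by
      rw [show κ ^ i = b * y' from hi, ← mul_assoc, bb, one_mul]
    rw [e, ← bκ]
    group
  have e1 : κ * y' * κ⁻¹ = κ * κ * y' := by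
    rw [← yκ, inv_eq_of_mul_eq_one_right t'.yy, ← mul_assoc, ← mul_assoc, mul_assoc κ y' y', t'.yy,
      mul_one]
  have κ4 : κ * κ * (κ * κ) = 1 := by
    rcases nm κ κS with e | e <;> rw [e1] at e
    · exact absurd (mul_eq_right.1 e) κ2
    · rw [mul_right_cancel e, t.wZ.2.1]
  have κ4' : ∀ n : ℤ, κ ^ (4 * n) = 1 := fun n => by
    rw [zpow_mul, show (4 : ℤ) = 1 + 1 + (1 + 1) from rfl, zpow_add, zpow_add, zpow_one, κ4, one_zpow]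
  obtain ⟨m, hm⟩ := conj_mem_of_mem_normalizer (hN hr.1) (mem_zpowers κ)
  replace hm : κ ^ m = r * κ * r⁻¹ := hm
  have e2 : r * r * κ * (r * r)⁻¹ = κ ^ (m * m) := by
    rw [show r * r * κ * (r * r)⁻¹ = r * (r * κ * r⁻¹) * r⁻¹ by group, ← hm, ← conj_zpow, ← hm,
      zpow_mul]
  rw [rr, show ε * y' * κ * (ε * y')⁻¹ = ε * (y' * κ * y'⁻¹) * ε⁻¹ by group, yκ,
    ← Zc_comm (inv_mem κS) εZ, mul_inv_cancel_right] at e2
  rcases Int.even_or_odd' m with ⟨n, rfl | rfl⟩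
  · rw [show 2 * n * (2 * n) = 4 * (n * n) by ring, κ4', inv_eq_one] at e2
    exact κ2 (by rw [e2, mul_one])
  · rw [show (2 * n + 1) * (2 * n + 1) = 4 * (n * n + n) + 1 by ring, zpow_add, κ4', one_mul,
      zpow_one] at e2
    exact κ2 (by nth_rw 1 [← e2]; exact inv_mul_cancel κ)

end Zu5

theorem ZW.false (h : Hy G) {w : G} (k : ZW S w) : False := by
  have hS := k.syl.pgroup
  have ww := k.wZ.2.1
  obtain ⟨f, fZ, f1, fw⟩ : ∃ f ∈ Zc S, f ≠ 1 ∧ f ≠ w := by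
    by_contra! e
    have := card_le_of_le (show Zc S ≤ ⊥ ⊔ zpowers w from fun y hy => (mem_sup_inv ww (by simp)).2
      (or_iff_not_imp_left.2 fun e' => by rw [e y hy e']; exact ww))
    rw [card_sup_inv ww (by simp) fun e => k.w1 (mem_bot.1 e), card_bot, k.four] at this
    omega
  obtain ⟨b, tb⟩ := k.both f fZ f1 fw
  obtain ⟨b2, tb2⟩ := k.both (f * w) (mul_mem fZ k.wZ)
    (fun e => fw ((eq_inv_of_mul_eq_one_left e).trans (inv_eq_of_mul_eq_one_right ww)))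
    fun e => f1 (mul_eq_right.1 e)
  have inY : ∀ f y, ZT S w f y → y ∈ {y | ∃ f, ZT S w f y} := fun f y t => ⟨f, t⟩
  obtain ⟨κ, κS, bκ, hN, hY⟩ := Rk3B.dih hS (Y := {y | ∃ f, ZT S w f y}) (w := w) (b := b)
    (fun y ⟨_, t⟩ => t.yS) (fun y ⟨_, t⟩ => t.yy) (fun s hs y ⟨f, t⟩ => ⟨f, Zu5.ty_cj t hs⟩) ww k.w1
    (fun y ⟨_, t⟩ y' ⟨_, t'⟩ => k.dih _ _ _ _ t t') ⟨f, tb⟩ (k.not_sq h.rk tb)
  have bb := tb.yy
  have hY' : ∀ f y, ZT S w f y → b * y ∈ zpowers κ := fun f y t => (hY y).1 ⟨f, t⟩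
  have form : ∀ f y, ZT S w f y → ∃ j : ℤ, y = (κ ^ j)⁻¹ * b * (κ ^ j)⁻¹⁻¹ ∨
      y = (κ ^ j)⁻¹ * (b * κ) * (κ ^ j)⁻¹⁻¹ := fun f y t => by
    obtain ⟨i, hi⟩ := hY' f y t
    have e : y = b * κ ^ i := by rw [show κ ^ i = b * y from hi, ← mul_assoc, bb, one_mul]
    rcases Int.even_or_odd' i with ⟨j, rfl | rfl⟩
    · exact ⟨j, .inl (by rw [Zu5.sw bκ, e])⟩
    · exact ⟨j, .inr (by rw [Zu5.sw (a := b * κ) (by rw [← bκ]; group), e]; group)⟩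
  obtain ⟨τ, tκ⟩ : ∃ τ, ZT S w τ (b * κ) :=
    (hY _).2 (by rw [← mul_assoc, bb, one_mul]; exact mem_zpowers κ)
  have τf : τ ≠ f := fun e => by
    obtain ⟨j, e' | e'⟩ := form _ _ tb2
    · exact k.w1 (mul_eq_left.1 (Zu5.ty_uq k (Zu5.ty_cj tb (inv_mem (zpow_mem κS j))) (e' ▸ tb2)))
    · exact k.w1 (mul_eq_left.1 ((Zu5.ty_uq k (Zu5.ty_cj tκ (inv_mem (zpow_mem κS j)))
        (e' ▸ tb2)).trans e))
  have κ1 : b ≠ b * κ := fun e => τf (Zu5.ty_uq k tb (e ▸ tκ))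
  have wκ : w ∈ zpowers κ := by
    have := k.dih _ _ _ _ tb tκ κ1
    rwa [← mul_assoc, bb, one_mul] at this
  have κ2 : κ * κ ≠ 1 := fun e => by
    obtain ⟨s, hs, e'⟩ := tb.ex
    have e1 : κ = w := TL.uq_zp (mem_zpowers κ) wκ e ww (fun e => κ1 (by rw [e, mul_one])) k.w1
    have := Zu5.ty_cj tb hs
    rw [e', ← Zc_comm tb.yS k.wZ, ← e1] at this
    exact τf (Zu5.ty_uq k (e1 ▸ this) tκ)
  have star := fun {f y : G} (t : ZT S w f y) {c : G} =>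
    Zu5.star h.rk k κS bκ bb hN hY' κ2 t (c := c)
  -- involutions commuting with `b` and an element inverted by `b`
  have inv : ∀ x : G, b * x * b⁻¹ = x⁻¹ → x * x ≠ 1 → ∀ a ∈ S, a * a = 1 → a * b = b * a →
      x ∈ S → a * x = x * a → a ∈ Zc S := fun x bx x2 a aS aa ab xS ax =>
    (Zu1.mem_E h.rk k.four tb.yS bb tb.yZ aa (fun c hc => Zc_comm aS hc) ab).resolve_right fun e => by
      have e1 := Zc_comm xS e
      rw [← mul_assoc, ← ax, mul_assoc, mul_assoc, mul_right_inj] at e1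
      rw [← e1, mul_inv_cancel_right] at bx
      exact x2 (by nth_rw 1 [bx]; exact inv_mul_cancel x)
  have hK : ∀ c ∈ S, c * b = b * c → c * κ = κ * c → c ∈ Zc S := fun c cS cb cκ => by
    refine inv κ bκ κ2 c cS (by_contra fun c2 => ?_) cb κS cκ
    obtain ⟨j, h1, h2⟩ := TL.invol hS (mul_mem cS cS) c2
    rw [(Commute.refl c).mul_pow] at h1 h2
    have a1 : Commute (c ^ 2 ^ j) b := Commute.pow_left cb _
    have a2 : Commute (c ^ 2 ^ j) κ := Commute.pow_left cκ _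
    exact τf ((star tκ (pow_mem cS _) (a1.mul_right a2) h1 h2).symm.trans
      (star tb (pow_mem cS _) a1 h1 h2))
  obtain ⟨n, j2, j4⟩ := TL.invol hS (mul_mem κS κS) κ2
  rw [(Commute.refl κ).mul_pow] at j2 j4
  have jκ : κ ^ 2 ^ n ∈ zpowers κ := pow_mem (mem_zpowers κ) _
  generalize κ ^ 2 ^ n = j at j2 j4 jκ
  have jS : j ∈ S := zpowers_le.2 κS jκ
  have bj : b * j * b⁻¹ = j⁻¹ := TL.inv_zp bκ jκ
  have jw : j * j = w := TL.uq_zp (mul_mem jκ jκ) wκ j4 ww j2 k.w1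
  obtain ⟨ρ, hρ, hc⟩ := cyc (R := S ⊓ Cx b ⊓ Cx j) (hS.to_le (inf_le_left.trans inf_le_left))
    (isPGroup_zpowers_of_mem hS κS) (fun r hr => hN hr.1.1) jκ j2 inf_le_right
  have bn : ∀ a ∈ zpowers κ, b * a * b⁻¹ ∈ zpowers κ := fun a ha =>
    conj_mem_of_mem_normalizer (hN tb.yS) ha
  obtain ⟨p, pS, hf, hp⟩ : ∃ p ∈ S, f ∈ zpowers κ ⊔ zpowers b ⊔ zpowers p ∧
      (Zc S ≤ zpowers κ ⊔ zpowers b ⊔ zpowers p → ρ ∈ zpowers κ ⊔ zpowers b ⊔ zpowers p) := by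
    by_cases ρZ : ρ ∈ Zc S
    · exact ⟨f, fZ.1, mem_sup_right (mem_zpowers f), fun e => e ρZ⟩
    refine ⟨ρ, hρ.1.1, mem_sup_right ?_, fun _ => mem_sup_right (mem_zpowers ρ)⟩
    obtain ⟨m, h1, h2⟩ : ∃ m : ℕ, ρ ^ 2 ^ m ∉ Zc S ∧ ρ ^ 2 ^ m * ρ ^ 2 ^ m ∈ Zc S := by
      by_contra! e
      obtain ⟨m, hm⟩ := isPGroup_iff_mem.1 hS ρ hρ.1.1
      have : ∀ m : ℕ, ρ ^ 2 ^ m ∉ Zc S := fun m => by
        induction m with
        | zero => simpa using ρZ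
        | succ m ih => rw [pow_succ, pow_mul, pow_two]; exact e m ih
      exact this m (hm ▸ one_mem _)
    have a0 := pow_mem hρ (2 ^ m)
    rw [← star tb a0.1.1 (mem_Cx.1 a0.1.2) (fun e => h1
      (inv j bj j2 _ a0.1.1 e (mem_Cx.1 a0.1.2) jS (mem_Cx.1 a0.2))) h2.2.1]
    exact mul_mem (pow_mem (mem_zpowers ρ) _) (pow_mem (mem_zpowers ρ) _)
  have κM : zpowers κ ≤ zpowers κ ⊔ zpowers b ⊔ zpowers p := le_sup_left.trans le_sup_left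
  have bM : b ∈ zpowers κ ⊔ zpowers b ⊔ zpowers p := mem_sup_left (mem_sup_right (mem_zpowers b))
  have ZM : Zc S ≤ zpowers κ ⊔ zpowers b ⊔ zpowers p :=
    ((el_Zc S).eq_V2 k.four.le fZ k.wZ f1 k.w1 fw.symm).le.trans (V2_le.2 ⟨hf, κM wκ⟩)
  have R0 : S ⊓ Cx b ⊓ Cx j ≤ zpowers κ ⊔ zpowers b ⊔ zpowers p := fun r hr => by
    obtain ⟨m, hm⟩ := hc r hr
    have a0 := mul_mem hr (inv_mem (pow_mem hρ m))
    exact (mul_mem_cancel_right (inv_mem (pow_mem (hp ZM) m))).1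
      (ZM (hK _ a0.1.1 (mem_Cx.1 a0.1.2) (mem_Cx.1 hm)))
  have R1 : S ⊓ Cx b ≤ zpowers κ ⊔ zpowers b ⊔ zpowers p := fun r hr => by
    have a1 := conj_mem_of_mem_normalizer (hN hr.1) jκ
    have a2 : r * j * r⁻¹ * j⁻¹ * (r * j * r⁻¹ * j⁻¹) = 1 := by
      rw [mul_assoc (r * j * r⁻¹), ← mul_assoc j⁻¹, TL.comm_zp (inv_mem jκ) a1, mul_assoc _ j⁻¹,
        ← mul_assoc, conj_mul, ← mul_inv_rev, jw, Zc_comm hr.1 k.wZ, mul_inv_cancel_right,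
        mul_inv_cancel]
    by_cases a3 : r * j * r⁻¹ * j⁻¹ = 1
    · exact R0 ⟨hr, mem_Cx'.2 (mul_inv_eq_one.1 a3)⟩
    · have a4 := TL.uq_zp (mul_mem a1 (inv_mem jκ)) wκ a2 ww a3 k.w1
      have a5 : r * j * r⁻¹ = j⁻¹ := by
        rw [mul_inv_eq_iff_eq_mul.1 a4, ← jw, eq_inv_iff_mul_eq_one, mul_assoc (j * j), j4]
      refine (mul_mem_cancel_right bM).1 (R0 ⟨mul_mem hr ⟨tb.yS, mem_Cx.2 rfl⟩, mem_Cx'.2 ?_⟩)
      rw [show r * b * j * (r * b)⁻¹ = r * (b * j * b⁻¹) * r⁻¹ by group, bj, ← conj_inv, a5, inv_inv]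
  have SM : S ≤ zpowers κ ⊔ zpowers b ⊔ zpowers p := fun s hs => by
    obtain ⟨i, e | e⟩ := form _ _ (Zu5.ty_cj tb hs)
    · refine (mul_mem_cancel_left (κM (zpow_mem (mem_zpowers κ) i))).1
        (R1 ⟨mul_mem (zpow_mem κS i) hs, mem_Cx'.2 ?_⟩)
      rw [show κ ^ i * s * b * (κ ^ i * s)⁻¹ = κ ^ i * (s * b * s⁻¹) * (κ ^ i)⁻¹ by group, e]
      group
    · exact absurd (Zu5.ty_uq k (e ▸ Zu5.ty_cj tb hs) (Zu5.ty_cj tκ (inv_mem (zpow_mem κS i)))) τf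
  obtain ⟨g, hg⟩ := thompson h.idx k.syl (M := zpowers κ ⊔ zpowers b)
    (sup_le (zpowers_le.2 κS) (zpowers_le.2 tb.yS)) (fun s hs => mem_normalizer_of_cj_le (by
      rw [cj_sup, mem_normalizer_iff_cj.1 (hN hs), cj_zpowers]
      exact sup_le le_sup_left (zpowers_le.2 ((mul_mem_cancel_left
        (mem_sup_right (mem_zpowers b))).1 (mem_sup_left (hY' _ _ (Zu5.ty_cj tb hs)))))))
    pS SM fZ.2.1 f1
  have cf : IsConj f (g * f * g⁻¹) := isConj_iff.2 ⟨g, rfl⟩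
  refine fw (k.nof _ fZ _ k.wZ ?_)
  rcases (mem_sup_inv bb bn).1 hg with e | e
  · rwa [TL.uq_zp e wκ (by rw [conj_mul, fZ.2.1]; simp) ww (mt conj_eq_one_iff.1 f1) k.w1] at cf
  · obtain ⟨_, t⟩ := (hY (g * f * g⁻¹)).2 (by simpa [mul_assoc] using bn _ e)
    exact cf.trans (Zu5.cls t).1.symm

theorem Hy.uniq (h : Hy G) (hS : IsSylowIn 2 S ⊤) {a b : G} (ha : a ∈ S) (hb : b ∈ S)
    (aa : a * a = 1) (bb : b * b = 1) (a1 : a ≠ 1) (b1 : b ≠ 1) (ac : S ≤ Cx a) (bc : S ≤ Cx b) :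
    a = b := by
  by_contra ab
  obtain ⟨w, k⟩ := h.exists_zw hS ⟨ha, aa, ac⟩ ⟨hb, bb, bc⟩ a1 b1 ab
  exact k.false h

end CfsgLib.Rk3B
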