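import Cfsg.Agent.Lib.Rk3B.Defs
import Cfsg.Agent.Lib.Rk3.Bend
import Cfsg.Agent.S2921

/-!
Abelian Sylow 2-subgroups  (plans/RK3B.md, package WR1)
-/

set_option autoImplicit false

namespace CfsgLib.Rk3B

open Subgroup Cfsg CfsgLib.Tech CfsgLib.W2 CfsgLib.Rk3

variable {G : Type*} [Group G] [Finite G] {S : Subgroup G} {z u g e : G}

theorem wr_ab [IsSimpleGroup G] (hG : ¬ IsMulCommutative G) (h3 : PRankLE 2 3 G) (h2 : ¬ PRankLE 2 2 G)
    (P : Sylow 2 G) (ab : IsMulCommutative (P : Subgroup G)) : Cfsg.Lie.IsoRee G ∨ Cfsg.Spor.IsoJ1 G ∨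
      ∃ (F : Type) (_ : Field F) (_ : Fintype F), Fintype.card F = 8 ∧
        Nonempty (G ≃* Matrix.ProjectiveSpecialLinearGroup (Fin 2) F) := by
  have := Fact.mk Nat.prime_two
  have top : generalizedFittingSubgroup G = ⊤ :=
    eq_top_iff.2 ((Comp.layer_eq_top_of_qs (Comp.qs_of_isSimpleGroup hG)).ge.trans le_sup_left)
  have e : generalizedFittingSubgroup G ≃* G := (MulEquiv.subgroupCongr top).trans topEquiv
  have h8 : 8 ∣ Nat.card (P : Subgroup G) := by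
    obtain ⟨A, -, hA, h5⟩ : ∃ A : Subgroup G, IsMulCommutative A ∧ (∀ a ∈ A, a ^ 2 = 1) ∧
        2 ^ 2 < Nat.card A := by
      by_contra! h
      exact h2 h
    have hB : El A := fun x hx => by rw [← sq, hA x hx]
    obtain ⟨g, -, hg⟩ := (IsSylowIn.of_sylow_top P).exists_cj_le hB.pg le_top
    obtain ⟨k, hk⟩ := IsPGroup.iff_card.1 hB.pg
    refine dvd_trans ?_ (card_dvd_of_le hg)
    rw [card_cj, hk]
    rw [hk] at h5
    exact pow_dvd_pow 2 (show 3 ≤ k from (Nat.pow_lt_pow_iff_right one_lt_two).1 h5)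
  have : (generalizedFittingSubgroup G).Normal := top ▸ inferInstance
  rcases (Cfsg.Agent.S2921.result e.isSimpleGroup (fun h => hG ⟨⟨fun a b => e.symm.injective (by
    rw [map_mul, map_mul]; exact h.1.1 _ _)⟩⟩) P ab
    (le_trans (by norm_num) (Nat.le_of_dvd Nat.card_pos h8))).2.1 with
    ⟨F, _, _, n, hn, hF, ⟨f⟩⟩ | ⟨F, _, _, m, hm, hF, ⟨f⟩⟩ | ⟨⟨f⟩⟩ | ⟨F, _, _, r, b, -, hF, -, h5, ⟨f⟩⟩
  · have : CharP F 2 := charP_of_card_eq_prime_pow hF
    have f' := e.symm.trans (f.trans (SL2.pmEquiv (CharP.cast_eq_zero F 2)))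
    obtain ⟨T⟩ : Nonempty (Sylow 2 (Matrix.ProjectiveSpecialLinearGroup (Fin 2) F)) := inferInstance
    have := BendP.key h3 h2 f' T (MulEquiv.refl _) (Z := ⊤) (n := n)
      (fun x => iff_of_true (mem_top x) (Subtype.ext ((Abel2.good_psl_even
        (hF ▸ Nat.pow_le_pow_right (show 0 < 2 by norm_num) hn)).elem T x x.2)))
      (by rw [card_top, Classical.psl_card_sylow 2 2 T, hF]; simp)
    exact .inr (.inr ⟨F, _, _, by rw [hF, this]; rfl, ⟨f'⟩⟩)
  · exact .inl ⟨F, _, _, m, hm, hF, ⟨e.symm.trans f⟩⟩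
  · exact .inr (.inl ⟨e.symm.trans f⟩)
  · exfalso
    obtain ⟨c, hc⟩ := h8.trans (card_subgroup_dvd_card _)
    have h6 := Classical.psl2_card_mul (F := F)
    rw [← Nat.card_congr (e.symm.trans f).toEquiv, hc, hF] at h6
    generalize r ^ b = q at h5 h6
    rw [Nat.gcd_eq_left (by omega)] at h6
    obtain ⟨k, rfl | rfl⟩ : ∃ k, q = 8 * k + 3 ∨ q = 8 * k + 5 := ⟨q / 8, by omega⟩
    · rw [show (8 * k + 3) ^ 2 - 1 = 16 * (4 * k * k + 3 * k) + 8 from Nat.sub_eq_of_eq_add (by ring),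
        show ∀ m, (8 * k + 3) * (16 * m + 8) = 16 * ((8 * k + 3) * m + 4 * k + 1) + 8 from
          fun m => by ring] at h6
      omega
    · rw [show (8 * k + 5) ^ 2 - 1 = 16 * (4 * k * k + 5 * k + 1) + 8 from Nat.sub_eq_of_eq_add (by ring),
        show ∀ m, (8 * k + 5) * (16 * m + 8) = 16 * ((8 * k + 5) * m + 4 * k + 2) + 8 from
          fun m => by ring] at h6
      omega

end CfsgLib.Rk3B
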