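import Cfsg.Agent.Lib.Rk3B.Tl
import Cfsg.Agent.Lib.Rk3B.G3

/-!
`z ^ G ∩ T ⊆ U`: first steps  (plans/RK3B.md, package B2A)
-/

set_option autoImplicit false

namespace CfsgLib.Rk3B

open Subgroup Cfsg CfsgLib.Tech CfsgLib.W2 CfsgLib.Rk3

variable {G : Type*} [Group G] [Finite G] {S : Subgroup G} {z u g e : G}

omit [Finite G] in
theorem b2a_conj (c : Cfg S z u g) {x : G} (hx : x ∈ V2 z u) (x1 : x ≠ 1) : IsConj z x := by
  have h1 : IsConj z u := isConj_iff.2 ⟨g, c.gz⟩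
  rcases c.mem_U.1 hx with rfl | rfl | rfl | rfl
  exacts [absurd rfl x1, IsConj.refl _, h1, h1.trans (isConj_iff.2 ⟨g, c.gu⟩)]

omit [Finite G] in
theorem b2a_sq (c : Cfg S z u g) {y : G} (h : IsConj z y) : y * y = 1 ∧ y ≠ 1 := by
  obtain ⟨k, rfl⟩ := isConj_iff.1 h
  exact ⟨by rw [conj_mul, c.zz]; group, fun e => c.z1 (conj_eq_one_iff.1 e)⟩

omit [Finite G] in
theorem b2a_out (c : Cfg S z u g) {y : G} (hy : y ∈ S) (yu : y ∉ Cx u) : y * u * y⁻¹ = z * u :=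
  (c.su y hy).resolve_left fun e => yu (mem_Cx.2 e)

omit [Finite G] in
theorem b2a_fix (c : Cfg S z u g) {x : G} (hx : x ∈ V2 z u) (h : g * x * g⁻¹ = x) : x = 1 := by
  rcases c.mem_U.1 hx with rfl | rfl | rfl | rfl
  · rfl
  · exact absurd (c.gz.symm.trans h) c.uz
  · exact absurd (c.gu.symm.trans h) c.zu_ne_u
  · exact absurd (c.gzu.symm.trans h).symm c.zu_ne_z

theorem Q.exists_bb (h : Hy G) (q : Q S z u g e) (pure : ∀ t ∈ S ⊓ Cx u, IsConj z t → t ∈ V2 z u) :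
    ∃ g' e' s, BB S z u g' e' s := by
  have c := q.c
  have h1 := h.gold S (V2 z u) c.syl (fun e => c.z1 (by simpa [e] using l_V2 z u)) c.elU
  obtain ⟨x, hx, k, hk, hk'⟩ : ∃ x ∈ V2 z u, ∃ k : G, k * x * k⁻¹ ∈ S ∧ k * x * k⁻¹ ∉ V2 z u := by
    by_contra hh
    push Not at hh
    exact h1 ⟨c.U_le.trans inf_le_left, hh⟩
  have x1 : x ≠ 1 := by rintro rfl; exact hk' (by simp)
  have sz : IsConj z (k * x * k⁻¹) := (b2a_conj c hx x1).trans (isConj_iff.2 ⟨k, rfl⟩)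
  have su := b2a_out c hk fun e => hk' (pure _ ⟨hk, e⟩ sz)
  have ss := (b2a_sq c sz).1
  obtain ⟨g', e', -, q', sg, se⟩ := q.reg h.rk hk ss su
  exact ⟨g', e', _, q', pure, hk, ss, su, sz, sg, se⟩

namespace BB

variable {s : G} (b : BB S z u g e s)
include b

theorem cj {j : G} (hj : j ∈ S ⊓ Cx u) : BB S z u (j * g * j⁻¹) (j * e * j⁻¹) (j * s * j⁻¹) := by
  have c := b.q.c
  have n := b.q.n
  have jz : j * z * j⁻¹ = z := by rw [c.zc j hj.1, mul_inv_cancel_right]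
  have ju : j * u * j⁻¹ = u := mem_Cx'.1 hj.2
  have jzu : j * (z * u) * j⁻¹ = z * u := by rw [← conj_mul, jz, ju]
  have cc : ∀ k x y : G, k * x * k⁻¹ = y →
      j * k * j⁻¹ * (j * x * j⁻¹) * (j * k * j⁻¹)⁻¹ = j * y * j⁻¹ := by
    rintro k x y rfl; group
  have j3 : (j * g * j⁻¹) ^ 3 = g ^ 3 := by rw [conj_pow, ← b.q.g3 j hj, mul_inv_cancel_right]
  have c' : Cfg S z u (j * g * j⁻¹) :=
    { c with
      gT := Subgroup.mul_mem _ (Subgroup.mul_mem _ (le_normalizer hj) c.gT)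
        (Subgroup.inv_mem _ (le_normalizer hj))
      gz := by have := cc _ _ _ c.gz; rwa [jz, ju] at this
      gu := by have := cc _ _ _ c.gu; rwa [jzu, ju] at this }
  have n' : NE S z u (j * e * j⁻¹) :=
    { eS := mul_mem (mul_mem hj.1 n.eS) (inv_mem hj.1)
      ee := by rw [conj_mul, n.ee]; group
      eu := by rw [← ju, conj_mul, conj_mul, n.eu]
      nU := fun h => n.nU (by simpa [mul_assoc] using c.conj_U (inv_mem hj.1) h)
      nm := fun x hx => by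
        have := c.conj_U hj.1 (n.nm _ (mul_mem (mul_mem (inv_mem hj.1) hx) hj.1))
        convert this using 1
        group }
  obtain ⟨k, hk⟩ := b.q.odd
  refine ⟨⟨c', n', cc _ _ _ b.q.ge, by rw [j3]; exact b.q.g3, k, by rw [conj_pow, hk]; group⟩, b.pure,
    mul_mem (mul_mem hj.1 b.sS) (inv_mem hj.1), by rw [conj_mul, b.ss]; group, ?_,
    b.sz.trans (isConj_iff.2 ⟨j, rfl⟩), ?_, by rw [conj_mul, conj_mul, b.se]⟩
  · have := cc _ _ _ b.su; rwa [jzu, ju] at this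
  · rw [cc _ _ _ b.sg]; group

theorem b2a_comm {y y' : G} (hy : y ∈ S) (hy' : y' ∈ S) (yu : y ∉ Cx u) (yu' : y' ∉ Cx u)
    (yz : IsConj z y) (yz' : IsConj z y') (ne : y ≠ y') (hc : y * y' = y' * y) : y * y' = z := by
  haveI : Fact (Nat.Prime 2) := ⟨Nat.prime_two⟩
  have c := b.q.c
  by_contra pz
  obtain ⟨yy, -⟩ := b2a_sq c yz
  have e1 := b2a_out c hy yu
  have pT := c.mul_mem_T hy hy' e1 (b2a_out c hy' yu')
  have py : y * (y * y') * y⁻¹ = y * y' := ((Commute.refl y).mul_right hc).mul_inv_cancel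
  have np : ¬ IsConj z (y * y') := fun h => by
    rcases c.mem_U.1 (b.pure _ pT h) with e | e | e | e
    · exact (b2a_sq c h).2 e
    · exact pz e
    · rw [e, e1] at py; exact c.zu_ne_u py
    · rw [e, ← conj_mul, e1, c.zc y hy, mul_inv_cancel_right, ← mul_assoc, c.zz, one_mul] at py
      exact c.zu_ne_u py.symm
  obtain ⟨k, hk⟩ := isConj_iff.1 yz.symm
  obtain ⟨x, -, xy, hx⟩ := exists_ext c.syl.pgroup le_top
    (isSylowIn_cent_of_central c.syl fun t ht => mem_Cx.2 (c.zc t ht)) (mem_top k) hk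
  have bS := hx y' hy' hc.symm
  have bz : IsConj z (x * y' * x⁻¹) := yz'.trans (isConj_iff.2 ⟨x, rfl⟩)
  have bz' : x * y' * x⁻¹ ≠ z := fun e => ne (by simpa using xy.trans e.symm)
  refine np (IsConj.trans ?_ (isConj_iff.2 ⟨x, rfl⟩).symm)
  rw [← conj_mul, xy]
  generalize x * y' * x⁻¹ = d at bS bz bz'
  obtain ⟨dd, d1⟩ := b2a_sq c bz
  by_cases hd : d ∈ Cx u
  · rcases c.mem_U.1 (b.pure _ ⟨bS, hd⟩ bz) with e | e | e | e
    · exact absurd e d1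
    · exact absurd e bz'
    · rw [e]; exact b2a_conj c (mul_mem (l_V2 _ _) (r_V2 _ _)) c.zu_ne_one
    · rw [e, ← mul_assoc, c.zz, one_mul]; exact b2a_conj c (r_V2 _ _) c.u1
  · refine bz.trans (isConj_iff.2 ⟨u, ?_⟩)
    calc u * d * u⁻¹ = u * (d * u * d⁻¹) * d := by rw [inv_eq_of_mul_eq_one_right c.uu]; group
      _ = z * d := by rw [b2a_out c bS hd, c.zu, ← mul_assoc, c.uu, one_mul]

theorem zmem (rk : PRankLE 2 3 G) {y y' : G} (hy : y ∈ S) (hy' : y' ∈ S) (yu : y ∉ Cx u) (yu' : y' ∉ Cx u)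
    (yz : IsConj z y) (yz' : IsConj z y') (ne : y ≠ y') : z ∈ zpowers (y * y') := by
  have c := b.q.c
  by_cases hc : y * y' = y' * y
  · rw [b.b2a_comm hy hy' yu yu' yz yz' ne hc]; exact mem_zpowers z
  obtain ⟨yy, -⟩ := b2a_sq c yz
  obtain ⟨a, ha, aa, a1, ay, -, ⟨d, -, hd⟩, -⟩ := dcen c.syl.pgroup hy hy' yy (b2a_sq c yz').1 hc
  have aT : a ∈ S ⊓ Cx u :=
    zpowers_le.2 (c.mul_mem_T hy hy' (b2a_out c hy yu) (b2a_out c hy' yu')) ha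
  have := b.b2a_comm hy (mul_mem aT.1 hy) yu (fun h => yu (by simpa using mul_mem (inv_mem (mem_inf.1 aT).2) h)) yz
    (yz.trans (isConj_iff.2 ⟨d, hd⟩)) (fun h => a1 (mul_eq_right.1 h.symm)) (by rw [← mul_assoc, ← ay])
  rw [ay, ← mul_assoc, yy, one_mul] at this
  rwa [← this]

theorem r0 (rk : PRankLE 2 3 G) {r : G} (hr : r ∈ S ⊓ Cx u) (rg : r * g = g * r) :
    r * s = s * r ∧ r * e = e * r ∧ (r * r = 1 → r = 1 ∨ r = e) := by
  have c := b.q.c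
  have n := b.q.n
  have gr : g * r * g⁻¹ = r := by rw [← rg, mul_inv_cancel_right]
  have re : r * e = e * r := (cm_eq_one n.ee).1 (b2a_fix c (n.nm r hr.1) (by
    have := Rk3.cm_conj g r e
    rwa [gr, b.q.ge] at this))
  have sT : s ∉ Cx u := fun h => c.zu_ne_u (b.su.symm.trans (mem_Cx'.1 h))
  refine ⟨?_, re, fun rr => ?_⟩
  · by_contra hne
    have h1 := b.zmem rk (y := r⁻¹ * s * r) (mul_mem (mul_mem (inv_mem hr.1) b.sS) hr.1) b.sS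
      (fun h => sT (by simpa [mul_assoc] using mul_mem (mul_mem (mem_inf.1 hr).2 h) (inv_mem (mem_inf.1 hr).2))) sT
      (b.sz.trans (isConj_iff.2 ⟨r⁻¹, by group⟩)) b.sz (fun h => hne (by
        rw [mul_assoc, inv_mul_eq_iff_eq_mul] at h; exact h.symm))
    have h2 : Commute g (s * r * s⁻¹) := by
      rw [← Commute.inv_left_iff, ← b.sg, commute_iff_eq, conj_mul, conj_mul, rg]
    have h3 : r⁻¹ * s * r * s ∈ Cx g := by
      have := (Commute.inv_right rg.symm).mul_right h2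
      rw [inv_eq_of_mul_eq_one_right b.ss, ← mul_assoc, ← mul_assoc] at this
      exact mem_Cx.2 this.symm
    have h4 := Cx_comm.1 (zpowers_le.2 h3 h1)
    exact c.uz (c.gz.symm.trans (mem_Cx'.1 h4))
  · rcases (n.mem_E c).1 (n.mem_of_comm c rk rr (c.zc r hr.1) (mem_Cx.1 hr.2) re) with h | h
    · exact Or.inl (b2a_fix c h gr)
    · right
      have := b2a_fix c h (by rw [← conj_mul, gr, b.q.ge])
      rw [eq_inv_of_mul_eq_one_left this, inv_eq_of_mul_eq_one_right n.ee]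

theorem b2a_mu (rk : PRankLE 2 3 G) {m : G} (hm : m ∈ S ⊓ Cx u) (sm : IsConj z (s * m)) :
    m⁻¹ * (g * m⁻¹ * g⁻¹) * (g⁻¹ * m⁻¹ * g) = 1 := by
  have c := b.q.c
  have sT : s ∉ Cx u := fun h => c.zu_ne_u (b.su.symm.trans (mem_Cx'.1 h))
  obtain ⟨yy, -⟩ := b2a_sq c sm
  have si : s⁻¹ = s := inv_eq_of_mul_eq_one_right b.ss
  have h0 : s * m * s = m⁻¹ := eq_inv_of_mul_eq_one_left (by rw [mul_assoc, yy])
  have h1 : g * s = s * g⁻¹ := by rw [← b.sg, si, ← mul_assoc, ← mul_assoc, b.ss, one_mul]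
  have s1z : IsConj z (g * s * g⁻¹) := b.sz.trans (isConj_iff.2 ⟨g, rfl⟩)
  have s11 := (b2a_sq c s1z).1
  have hγ : s * m * (g * s * g⁻¹) = m⁻¹ * (g⁻¹ * g⁻¹) := by rw [h1, ← h0]; group
  have c3 : ∀ t ∈ S ⊓ Cx u, Commute (g ^ 3)⁻¹ t := fun t ht => Commute.inv_left (b.q.g3 t ht)
  have μT : m⁻¹ * (g * m⁻¹ * g⁻¹) * (g⁻¹ * m⁻¹ * g) ∈ S ⊓ Cx u :=
    mul_mem (mul_mem (inv_mem hm) (conj_mem_of_mem_normalizer c.gT (inv_mem hm)))
      (conj_mem_of_mem_normalizer' c.gT (inv_mem hm))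
  have h3 : (m⁻¹ * (g⁻¹ * g⁻¹)) ^ 3 = m⁻¹ * (g * m⁻¹ * g⁻¹) * (g⁻¹ * m⁻¹ * g) * ((g ^ 3)⁻¹ * (g ^ 3)⁻¹) := by
    have e1 := (c3 _ (inv_mem hm)).mul_inv_cancel
    calc _ = m⁻¹ * (g * ((g ^ 3)⁻¹ * m⁻¹ * (g ^ 3)⁻¹⁻¹) * g⁻¹) * (g⁻¹ * ((g ^ 3)⁻¹ * m⁻¹ * (g ^ 3)⁻¹⁻¹) * g) *
          ((g ^ 3)⁻¹ * (g ^ 3)⁻¹) := by rw [pow_three']; group
      _ = _ := by rw [e1]
  have hγz : m⁻¹ * (g⁻¹ * g⁻¹) * z * (m⁻¹ * (g⁻¹ * g⁻¹))⁻¹ = u := by
    have e1 := (c3 _ (c.U_le (l_V2 z u))).mul_inv_cancel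
    calc _ = m⁻¹ * (g * ((g ^ 3)⁻¹ * z * (g ^ 3)⁻¹⁻¹) * g⁻¹) * m⁻¹⁻¹ := by group
      _ = u := by rw [e1, c.gz]; exact mem_Cx'.1 (mem_inf.1 (inv_mem hm)).2
  generalize m⁻¹ * (g * m⁻¹ * g⁻¹) * (g⁻¹ * m⁻¹ * g) = μ at μT h3
  have yS : s * m ∈ S := mul_mem b.sS hm.1
  have yT : s * m ∉ Cx u := fun h => sT (by simpa using mul_mem h (inv_mem (mem_inf.1 hm).2))
  generalize m⁻¹ * (g⁻¹ * g⁻¹) = γ at hγ h3 hγz
  generalize s * m = y at sm yy hγ yS yT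
  generalize g * s * g⁻¹ = s1 at s1z s11 hγ
  obtain ⟨k, hk⟩ := b.q.odd
  have h4 : γ ^ (3 * 3 ^ k) = μ ^ 3 ^ k := by
    have e1 : ((g ^ 3)⁻¹) ^ 3 ^ k = 1 := by rw [inv_pow, ← pow_mul, mul_comm, pow_mul, hk]; simp
    rw [pow_mul, h3, ((c3 _ μT).mul_left (c3 _ μT)).symm.mul_pow, (Commute.refl _).mul_pow, e1, mul_one, mul_one]
  have h5 : IsConj z (y * μ ^ 3 ^ k) := by
    obtain ⟨j, hj⟩ : Odd (3 * 3 ^ k) := (by decide : Odd 3).mul ((by decide : Odd 3).pow)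
    have e1 : y * γ = s1 := by rw [← hγ, ← mul_assoc, yy, one_mul]
    have e2 : y * γ * y⁻¹ = γ⁻¹ := by
      rw [e1, ← hγ, mul_inv_rev, inv_eq_of_mul_eq_one_right s11]
    have e3 : y * γ ^ j = (γ ^ j)⁻¹ * y := by rw [← inv_pow, ← e2, conj_pow, inv_mul_cancel_right]
    refine s1z.trans (isConj_iff.2 ⟨(γ ^ j)⁻¹, ?_⟩)
    rw [← h4, hj, ← e1, ← mul_assoc, ← e3]
    group
  have h6 : μ ^ 3 ^ k = 1 := by
    by_contra ne
    have νT := pow_mem μT (3 ^ k)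
    have h7 := b.zmem rk yS (mul_mem yS νT.1) yT
      (fun h => yT (by simpa using mul_mem h (inv_mem (mem_inf.1 νT).2))) sm h5
      (fun h => ne (mul_eq_left.1 h.symm))
    rw [← mul_assoc, yy, one_mul, ← h4] at h7
    have h8 : zpowers (γ ^ (3 * 3 ^ k)) ≤ Cx γ := zpowers_le.2 (pow_mem (mem_Cx.2 rfl) _)
    exact c.uz (hγz.symm.trans (mem_Cx'.1 (Cx_comm.1 (h8 h7))))
  obtain ⟨l, hl⟩ := isPGroup_iff_mem.1 c.syl.pgroup μ μT.1
  exact mem_bot.1 (mem_of_coprime_pow (Nat.Coprime.pow l k (by decide)) (mem_bot.2 hl) (mem_bot.2 h6))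

theorem tri (rk : PRankLE 2 3 G) {m : G} (hm : m ∈ S ⊓ Cx u) (sm : IsConj z (s * m)) :
    m * (g * m * g⁻¹) * (g⁻¹ * m * g) = 1 ∧ m * (g * m * g⁻¹) = g * m * g⁻¹ * m := by
  have h1 := b.b2a_mu rk hm sm
  have yy := (b2a_sq b.q.c sm).1
  have h2 := b.b2a_mu rk (inv_mem hm) (sm.trans (isConj_iff.2 ⟨s, by
    rw [← mul_assoc, b.ss, one_mul, inv_eq_of_mul_eq_one_right b.ss, eq_mul_inv_iff_mul_eq,
      eq_inv_of_mul_eq_one_right (show s * (m * s * m) = 1 by rw [← yy]; group),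
      inv_eq_of_mul_eq_one_right b.ss]⟩))
  rw [inv_inv] at h2
  refine ⟨h2, ?_⟩
  have h3 : (g * m * g⁻¹ * m)⁻¹ * (g⁻¹ * m * g)⁻¹ = 1 := by rw [← h1]; group
  rw [eq_inv_of_mul_eq_one_left h2, ← inv_inv (g * m * g⁻¹ * m), eq_inv_of_mul_eq_one_left h3, inv_inv]

end BB

end CfsgLib.Rk3B
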