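import Cfsg.Agent.Lib.Rk3B.B2a

/-!
`z ^ G ∩ T ⊆ U`: the normaliser of `J`  (plans/RK3B.md, package B2B)
-/

set_option autoImplicit false

namespace CfsgLib.Rk3B

open Subgroup Cfsg CfsgLib.Tech CfsgLib.W2 CfsgLib.Rk3

variable {G : Type*} [Group G] [Finite G] {S : Subgroup G} {z u g e : G}

namespace B2b

theorem uniq {c a w : G} (ha : a ∈ zpowers c) (a1 : a ≠ 1) (aa : a * a = 1) (hw : w ∈ zpowers c)
    (ww : w * w = 1) : w = 1 ∨ w = a := by
  classical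
  by_contra k
  push Not at k
  have := Fintype.ofFinite (zpowers c)
  have h := IsCyclic.card_pow_eq_one_le (α := zpowers c) (n := 2) two_pos
  have h3 : ({1, ⟨a, ha⟩, ⟨w, hw⟩} : Finset (zpowers c)) ⊆ Finset.univ.filter fun a => a ^ 2 = 1 := by
    intro x hx
    simp only [Finset.mem_insert, Finset.mem_singleton] at hx
    rcases hx with rfl | rfl | rfl <;> simp [pow_two, Subtype.ext_iff, aa, ww]
  have h4 := (Finset.card_le_card h3).trans h
  rw [Finset.card_eq_three.2 ⟨_, _, _, by simpa [Subtype.ext_iff] using a1.symm,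
    by simpa [Subtype.ext_iff] using k.1.symm, by simpa [Subtype.ext_iff] using k.2.symm, rfl⟩] at h4
  omega

omit [Finite G] in
theorem sq_of_conj {a b : G} (aa : a * a = 1) (h : IsConj a b) : b * b = 1 := by
  obtain ⟨c, rfl⟩ := isConj_iff.1 h
  rw [show c * a * c⁻¹ * (c * a * c⁻¹) = c * (a * a) * c⁻¹ by group, aa]; simp

omit [Finite G] in
theorem inv_of {s y : G} (ss : s * s = 1) (h : s * y * (s * y) = 1) : s * y * s⁻¹ = y⁻¹ := by
  rw [inv_eq_of_mul_eq_one_right ss]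
  exact eq_inv_of_mul_eq_one_left (by rw [← h]; group)

/-- `y ^ a * y' ^ b` -/
def ww (y y' : G) (a b : ℤ) : G := y ^ a * y' ^ b

section
omit [Finite G]
variable {y y' : G}

theorem ww_mul (h : Commute y y') (a b c d : ℤ) :
    ww y y' a b * ww y y' c d = ww y y' (a + c) (b + d) := by
  unfold ww
  rw [zpow_add, zpow_add, mul_assoc, ← mul_assoc (y' ^ b), ← (h.zpow_zpow c b).eq]
  simp only [mul_assoc]

theorem ww_zero : ww y y' 0 0 = 1 := by simp [ww]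
theorem ww_l (a : ℤ) : ww y y' a 0 = y ^ a := by simp [ww]
theorem ww_r (a : ℤ) : ww y y' 0 a = y' ^ a := by simp [ww]

theorem ww_inv (h : Commute y y') (a b : ℤ) : (ww y y' a b)⁻¹ = ww y y' (-a) (-b) :=
  inv_eq_of_mul_eq_one_right (by rw [ww_mul h, add_neg_cancel, add_neg_cancel, ww_zero])

theorem ww_zpow (h : Commute y y') (a b n : ℤ) : ww y y' a b ^ n = ww y y' (a * n) (b * n) := by
  unfold ww
  rw [(h.zpow_zpow a b).mul_zpow, zpow_mul, zpow_mul]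

theorem ww_conj (h : Commute y y') {x : G} {a1 b1 a2 b2 : ℤ} (h1 : x * y * x⁻¹ = ww y y' a1 b1)
    (h2 : x * y' * x⁻¹ = ww y y' a2 b2) (a b : ℤ) :
    x * ww y y' a b * x⁻¹ = ww y y' (a1 * a + a2 * b) (b1 * a + b2 * b) := by
  rw [← ww_mul h, ← ww_zpow h, ← ww_zpow h, ← h1, ← h2, conj_zpow, conj_zpow, ww]
  group

theorem ww_comm (h : Commute y y') (a b c d : ℤ) : Commute (ww y y' a b) (ww y y' c d) := by
  rw [Commute, SemiconjBy, ww_mul h, ww_mul h, add_comm a, add_comm b]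

theorem mem_cl (h : Commute y y') {x : G} : x ∈ closure {y, y'} ↔ ∃ a b, ww y y' a b = x := by
  constructor
  · intro hx
    induction hx using closure_induction with
    | mem x hx =>
      rcases hx with rfl | rfl
      exacts [⟨1, 0, by simp [ww]⟩, ⟨0, 1, by simp [ww]⟩]
    | one => exact ⟨0, 0, ww_zero⟩
    | mul a b _ _ ha hb =>
      obtain ⟨_, _, rfl⟩ := ha
      obtain ⟨_, _, rfl⟩ := hb
      exact ⟨_, _, (ww_mul h ..).symm⟩
    | inv a _ ha =>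
      obtain ⟨_, _, rfl⟩ := ha
      exact ⟨_, _, (ww_inv h ..).symm⟩
  · rintro ⟨a, b, rfl⟩
    exact mul_mem (zpow_mem (subset_closure (by simp)) _) (zpow_mem (subset_closure (by simp)) _)

theorem ww_mem {H : Subgroup G} (h1 : y ∈ H) (h2 : y' ∈ H) (a b : ℤ) : ww y y' a b ∈ H :=
  mul_mem (zpow_mem h1 _) (zpow_mem h2 _)

end

/-- the basic facts on `J = ⟨y, y'⟩` -/
structure JB (S : Subgroup G) (z u g s y y' : G) : Prop where
  hy' : g * y * g⁻¹ = y'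
  yT : y ∈ S ⊓ Cx u
  yT' : y' ∈ S ⊓ Cx u
  cm : Commute y y'
  gy' : g * y' * g⁻¹ = ww y y' (-1) (-1)
  gy'' : g⁻¹ * y * g = ww y y' (-1) (-1)
  sy : s * y * s⁻¹ = ww y y' (-1) 0
  sy' : s * y' * s⁻¹ = ww y y' 1 1
  zy : z ∈ zpowers y
  ind : ∀ a b, ww y y' a b = 1 → y ^ a = 1 ∧ y ^ b = 1

theorem jb (rk : PRankLE 2 3 G) {s y : G} (b : BB S z u g e s) (hy : y ∈ S ⊓ Cx u)
    (sy : IsConj z (s * y)) (ye : cm y e = z) : JB S z u g s y (g * y * g⁻¹) := by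
  have c := b.q.c
  obtain ⟨t1, t2⟩ := b.tri rk hy sy
  have hy' : g * y * g⁻¹ ∈ S ⊓ Cx u := (mem_normalizer_iff.1 c.gT y).1 hy
  have h1 : g⁻¹ * y * g = ww y (g * y * g⁻¹) (-1) (-1) := by
    rw [← ww_inv t2 1 1]
    exact eq_inv_of_mul_eq_one_right (by simpa [ww] using t1)
  have h2 : s * y * s⁻¹ = y⁻¹ := inv_of b.ss (sq_of_conj c.zz sy)
  have su : s ∉ Cx u := fun h => c.zu_ne_u (by rw [← b.su, mem_Cx.1 h, mul_inv_cancel_right])
  have y1 : y ≠ 1 := by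
    rintro rfl
    exact c.z1 (by rw [← ye]; simp [cm, b.q.n.ee])
  have zy : z ∈ zpowers y := by
    have := b.zmem rk b.sS (S.mul_mem b.sS hy.1) su (fun h => su (((Cx u).mul_mem_cancel_right hy.2).1 h))
      b.sz sy (fun h => y1 (by simpa using h))
    rwa [← mul_assoc, b.ss, one_mul] at this
  refine ⟨rfl, hy, hy', t2, ?_, h1, by simpa [ww] using h2, ?_, zy, fun a a' h => ?_⟩
  · rw [← h1]
    have := b.q.g3 y hy
    calc _ = g⁻¹ * (g ^ 3 * y) * g⁻¹ * g⁻¹ := by rw [pow_succ, pow_two]; group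
      _ = _ := by rw [this, pow_succ, pow_two]; group
  · have h3 : s * (g * y * g⁻¹) * s⁻¹ = (g⁻¹ * y * g)⁻¹ := by
      calc _ = (s * g * s⁻¹) * (s * y * s⁻¹) * (s * g * s⁻¹)⁻¹ := by group
        _ = _ := by rw [b.sg, h2]; group
    rw [h3, h1, ww_inv t2]; rfl
  · have h3 : y ^ a = (g * y * g⁻¹) ^ (-a') := by
      rw [zpow_neg]; exact eq_inv_of_mul_eq_one_left h
    have h4 : y ^ a = 1 := by
      by_contra h4
      obtain ⟨j, j1, j2⟩ := Disc.exists_invol c.syl.pgroup (w := ⟨y ^ a, S.zpow_mem hy.1 _⟩)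
        (fun h => h4 (congrArg Subtype.val h))
      have j3 : (y ^ a) ^ 2 ^ j ≠ 1 := fun h => j1 (Subtype.ext h)
      have j4 : (y ^ a) ^ 2 ^ j * (y ^ a) ^ 2 ^ j = 1 := congrArg Subtype.val j2
      have j5 := (uniq zy c.z1 c.zz (pow_mem (zpow_mem (mem_zpowers y) a) _) j4).resolve_left j3
      have uy : u ∈ zpowers (g * y * g⁻¹) := by
        obtain ⟨i, hi⟩ := zy
        exact ⟨i, by simp only [conj_zpow] at hi ⊢; rw [hi, c.gz]⟩
      have j6 := (uniq uy c.u1 c.uu (w := (y ^ a) ^ 2 ^ j)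
        (by rw [h3]; exact pow_mem (zpow_mem (mem_zpowers _) _) _) j4).resolve_left j3
      exact c.uz (j6.symm.trans j5)
    refine ⟨h4, ?_⟩
    rw [h4, zpow_neg, eq_comm, inv_eq_one, conj_zpow] at h3
    simpa [mul_inv_eq_iff_eq_mul] using h3

namespace JB

variable {s y y' : G} (j : JB S z u g s y y')
include j

omit [Finite G] in
theorem gy : g * y * g⁻¹ = ww y y' 0 1 := by simpa [ww] using j.hy'

omit [Finite G] in
theorem pw' {a : ℤ} (h : y ^ a = 1) : y' ^ a = 1 := by rw [← j.hy', conj_zpow, h]; simp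

omit [Finite G] in
theorem ind' {a b c d : ℤ} (h : ww y y' a b = ww y y' c d) : y ^ (a - c) = 1 ∧ y ^ (b - d) = 1 :=
  j.ind _ _ (by rw [sub_eq_add_neg, sub_eq_add_neg, ← ww_mul j.cm, h, ← ww_inv j.cm, mul_inv_cancel])

omit [Finite G] in
/-- elements of `J` inverted by `s` -/
theorem inv {a b : ℤ} (h : s * ww y y' a b * s⁻¹ = (ww y y' a b)⁻¹) : ww y y' a b = y ^ a := by
  rw [ww_conj j.cm j.sy j.sy', ww_inv j.cm] at h
  have := (j.ind' h).1
  rw [show -1 * a + 1 * b - -a = b by ring] at this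
  rw [ww, j.pw' this, mul_one]

end JB

omit [Finite G] in
theorem cm_zpow (c : Cfg S z u g) (n : NE S z u e) {y : G} (hy : y ∈ S ⊓ Cx u) (ye : cm y e = z)
    {k : ℤ} (h : cm (y ^ k) e = 1) : Even k := by
  have h2 : ∀ i : ℤ, cm (y ^ (2 * i)) e = 1 := fun i => by
    have h3 : cm (y * y) e = 1 := by rw [n.cm_mul c hy hy, ye, c.zz]
    rw [cm_eq_one n.ee] at h3 ⊢
    rw [zpow_mul, zpow_two]
    exact (Commute.zpow_left h3 i).eq
  rcases Int.even_or_odd' k with ⟨i, rfl | rfl⟩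
  · exact even_two_mul i
  · rw [zpow_add, zpow_one, n.cm_mul c (zpow_mem hy _) hy, h2, ye, one_mul] at h
    exact absurd h c.z1

/-- the final contradiction -/
theorem fin (rk : PRankLE 2 3 G) (c : Cfg S z u g) {y v v' : G} (hy : y ∈ S ⊓ Cx u)
    (hv : v ∈ S ⊓ Cx u) (hv' : v' ∈ S ⊓ Cx u) (vv : v * v = 1) (vv' : v' * v' = 1)
    (h : v' * v = v * v') (h1 : v * y * v⁻¹ = y * z) (h2 : v' * y * v'⁻¹ = y * (z * u)) : False := by
  have k : ∀ x ∈ V2 z u, x * y * x⁻¹ = y := fun x hx => by rw [← c.cU hy hx]; simp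
  have h3 : v ∉ V2 z u := fun h => c.z1 (by simpa [k v h] using h1)
  rcases e16 rk c.zz c.uu vv vv' c.zu (c.zc v hv.1) (mem_Cx.1 hv.2) (c.zc v' hv'.1) (mem_Cx.1 hv'.2) h
    c.z1 c.u1 c.uz h3 with h4 | h4
  · exact c.zu_ne_one (by simpa [k v' h4] using h2)
  · have h5 := k _ h4
    rw [show v' * v * y * (v' * v)⁻¹ = v' * (v * y * v⁻¹) * v'⁻¹ by group, h1,
      show v' * (y * z) * v'⁻¹ = v' * y * v'⁻¹ * (v' * z * v'⁻¹) by group, h2, c.zc v' hv'.1,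
      mul_inv_cancel_right, mul_assoc, c.zu, mul_assoc, c.zz, mul_one] at h5
    exact c.u1 (by simpa using h5)

omit [Finite G] in
theorem cz {x y a : G} (h : x * y * x⁻¹ = y * a) (ya : y * a = a * y) (aa : a * a = 1) (k : ℤ) :
    x * y ^ (2 * k) * x⁻¹ = y ^ (2 * k) ∧ x * y ^ (2 * k + 1) * x⁻¹ = y ^ (2 * k + 1) * a := by
  have h1 : a ^ (2 * k) = 1 := by rw [zpow_mul, zpow_two, aa, one_zpow]
  rw [← conj_zpow, ← conj_zpow, h, (show Commute y a from ya).mul_zpow,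
    (show Commute y a from ya).mul_zpow, h1, zpow_add a, h1]
  simp

omit [Finite G] in
theorem flip {p x a : G} (h : p * x * p⁻¹ = x * a) (pa : p * a = a * p) (aa : a * a = 1) :
    x * p = p * (x * a) := by
  have h1 : p * x = x * a * p := by rw [← h]; simp
  calc _ = x * a * p * a := by rw [mul_assoc x a, ← pa, mul_assoc, mul_assoc, aa, mul_one]
    _ = _ := by rw [← h1, mul_assoc]

/-- the end of the proof -/
theorem fin2 (rk : PRankLE 2 3 G) (c : Cfg S z u g) {s y y' p : G} (j : JB S z u g s y y')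
    (hp : p ∈ S ⊓ Cx u) {n : ℤ} (hn : y ^ (2 * n) = z) (pp : p * p = z)
    (pc : p * (g * p * g⁻¹) = g * p * g⁻¹ * p) (h1 : p * y * p⁻¹ = y * z)
    (h2 : p * y' * p⁻¹ = y' * (z * u)) : False := by
  have gT : ∀ t ∈ S ⊓ Cx u, g * t * g⁻¹ ∈ S ⊓ Cx u := fun t ht => (mem_normalizer_iff.1 c.gT t).1 ht
  have hp' := gT p hp
  have zU := l_V2 z u
  have uU := r_V2 z u
  have zuU := mul_mem zU uU
  have cj : ∀ {a b d : G}, a * b * a⁻¹ = b * d → g * a * g⁻¹ * (g * b * g⁻¹) * (g * a * g⁻¹)⁻¹ =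
      g * b * g⁻¹ * (g * d * g⁻¹) := fun {a b d} h => by
    calc _ = g * (a * b * a⁻¹) * g⁻¹ := by group
      _ = _ := by rw [h]; group
  set y'' := g * y' * g⁻¹ with hy''
  have yT'' : y'' ∈ S ⊓ Cx u := gT _ j.yT'
  have e1 : y'' = (y * y')⁻¹ := by rw [hy'', j.gy', ← ww_inv j.cm 1 1]; simp [ww]
  have e2 : g * y'' * g⁻¹ = y := by
    rw [hy'', j.gy', ww_conj j.cm j.gy j.gy']; simp [ww]
  have h3 : p * y'' * p⁻¹ = y'' * u := by
    have h4 : p * (y * y') * p⁻¹ = y * y' * u := by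
      calc _ = p * y * p⁻¹ * (p * y' * p⁻¹) := by group
        _ = y * (z * y') * (z * u) := by rw [h1, h2]; group
        _ = _ := by rw [← c.zc y' j.yT'.1, mul_assoc, mul_assoc, ← mul_assoc z, c.zz, one_mul, mul_assoc]
    rw [c.cU yT'' uU, e1, ← conj_inv, h4, mul_inv_rev, inv_eq_of_mul_eq_one_right c.uu]
  set p' := g * p * g⁻¹ with hp''
  have h4 : p' * y * p'⁻¹ = y * (z * u) := by rw [← c.gu, ← e2]; exact cj h3
  have h5 : p' * y' * p'⁻¹ = y' * u := by rw [← c.gz, ← j.hy']; exact cj h1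
  have zu2 : z * u * (z * u) = 1 := c.elU _ zuU
  have cJ : ∀ {x : G}, x * y = y * x → ∀ {q a : G}, q * y * q⁻¹ = a → q * x * y * (q * x)⁻¹ = a :=
    fun {x} hx q a h => by rw [← h, mul_assoc q, hx]; group
  have vv : ∀ {v : G}, v * v = 1 → g * v * g⁻¹ * (g * v * g⁻¹) = 1 := fun {v} h => by
    rw [show g * v * g⁻¹ * (g * v * g⁻¹) = g * (v * v) * g⁻¹ by group, h]; simp
  have gm : ∀ a b : G, g * (a * b) * g⁻¹ = g * a * g⁻¹ * (g * b * g⁻¹) := fun a b => by group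
  have cy'' : Commute y y'' := by rw [e1]; exact ((Commute.refl y).mul_right j.cm).inv_right
  have cy2 : Commute y' y'' := by rw [e1]; exact (j.cm.symm.mul_right (Commute.refl y')).inv_right
  rcases Int.even_or_odd' n with ⟨k, rfl | rfl⟩
  · have a1 : Commute p (y ^ (2 * k)) := mul_inv_eq_iff_eq_mul.1 (cz h1 (c.zc y j.yT.1) c.zz k).1
    have a2 : Commute p (y' ^ (2 * k)) := mul_inv_eq_iff_eq_mul.1 (cz h2 (c.cU j.yT' zuU) zu2 k).1
    have a3 : Commute p' (y ^ (2 * k)) := mul_inv_eq_iff_eq_mul.1 (cz h4 (c.cU j.yT zuU) zu2 k).1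
    have a4 : p * y ^ (2 * k) * (p * y ^ (2 * k)) = 1 := by
      rw [mul_assoc, ← mul_assoc (y ^ _), ← a1.eq, mul_assoc, ← zpow_add, ← two_mul, hn, ← mul_assoc,
        pp, c.zz]
    refine fin rk c j.yT (mul_mem hp (zpow_mem j.yT _)) (gT _ (mul_mem hp (zpow_mem j.yT _))) a4
      (vv a4) ?_ (cJ ((Commute.refl y).zpow_left _) h1) ?_
    · rw [gm, ← conj_zpow, j.hy']
      exact (((show Commute p p' from pc).symm.mul_right a3).mul_left
        (a2.symm.mul_right (j.cm.symm.zpow_zpow _ _))).eq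
    · rw [gm, ← conj_zpow, j.hy']
      exact cJ (j.cm.symm.zpow_left _) h4
  · set Y := y' ^ (2 * k + 1) with hY
    have YT : Y ∈ S ⊓ Cx u := zpow_mem j.yT' _
    have Y''T : y'' ^ (2 * k + 1) ∈ S ⊓ Cx u := zpow_mem yT'' _
    have a1 := flip (cz h2 (c.cU j.yT' zuU) zu2 k).2 (c.cU hp zuU) zu2
    have a2 := flip (cz h3 (c.cU yT'' uU) c.uu k).2 (c.cU hp uU) c.uu
    have a3 := flip (cz h5 (c.cU j.yT' uU) c.uu k).2 (c.cU hp' uU) c.uu
    have a5 : Y * Y = u := by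
      rw [hY, ← zpow_add, ← two_mul, ← j.hy', conj_zpow, hn, c.gz]
    have a4 : p * Y * (p * Y) = 1 := by
      rw [mul_assoc, ← mul_assoc Y, a1, c.cU YT zuU]
      calc _ = p * p * (z * u * (Y * Y)) := by group
        _ = 1 := by rw [pp, a5, mul_assoc z u, c.uu, mul_one, c.zz]
    refine fin rk c j.yT (mul_mem hp YT) (gT _ (mul_mem hp YT)) a4
      (vv a4) ?_ (cJ (j.cm.symm.zpow_left _) h1) ?_
    · rw [gm, hY, ← conj_zpow, ← hY]
      have a6 : Y * y'' ^ (2 * k + 1) = y'' ^ (2 * k + 1) * Y := (cy2.zpow_zpow _ _).eq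
      rw [← hY] at a3
      rw [← hp'', ← hy'']
      calc _ = p' * (y'' ^ (2 * k + 1) * p) * Y := by simp only [mul_assoc]
        _ = p' * p * (y'' ^ (2 * k + 1) * (u * Y)) := by rw [a2]; simp only [mul_assoc]
        _ = p * p' * (Y * u * y'' ^ (2 * k + 1)) := by
          rw [pc, ← c.cU YT uU, ← mul_assoc (y'' ^ _), ← a6, mul_assoc Y, mul_assoc Y, c.cU Y''T uU]
        _ = p * (Y * p') * y'' ^ (2 * k + 1) := by rw [a3]; simp only [mul_assoc]
        _ = _ := by simp only [mul_assoc]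
    · rw [gm, hY, ← conj_zpow]
      exact cJ (cy''.symm.zpow_left _) h4

/-- the case `p ^ 2 = z` -/
theorem core (rk : PRankLE 2 3 G) {s y y' p : G} (b : BB S z u g e s) (j : JB S z u g s y y')
    (ye : cm y e = z) (hp : p ∈ S ⊓ Cx u) (sp : IsConj z (s * p)) (pp : p * p = z)
    (py : p * y * p⁻¹ ≠ y) (p1 : p * y * p⁻¹ ∈ closure {y, y'})
    (p2 : p * y' * p⁻¹ ∈ closure {y, y'}) : False := by
  have c := b.q.c
  have hc := j.cm
  obtain ⟨l, l', h1⟩ := (mem_cl hc).1 p1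
  obtain ⟨a, β, h2⟩ := (mem_cl hc).1 p2
  have sp' : s * p * s⁻¹ = p⁻¹ := inv_of b.ss (sq_of_conj c.zz sp)
  have pz : ∀ x ∈ S, p⁻¹ * x * p = p * x * p⁻¹ := fun x hx => by
    calc _ = p⁻¹ * (x * (p * p)) * p⁻¹ := by group
      _ = p⁻¹ * (p * p * x) * p⁻¹ := by rw [pp, c.zc x hx]
      _ = _ := by group
  have h3 : p * y * p⁻¹ = ww y y' l 0 := by
    rw [ww_l, ← h1]
    refine j.inv ?_
    rw [h1, conj_inv, ← pz _ (S.inv_mem j.yT.1)]
    calc _ = s * p * s⁻¹ * (s * y * s⁻¹) * (s * p * s⁻¹)⁻¹ := by group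
      _ = _ := by rw [sp', j.sy]; simp [ww]
  have x2 : ∀ a b : ℤ, p * (p * ww y y' a b * p⁻¹) * p⁻¹ = ww y y' a b := fun a b => by
    calc _ = p * p * ww y y' a b * (p * p)⁻¹ := by group
      _ = _ := by rw [pp, ← c.zc _ (ww_mem j.yT.1 j.yT'.1 a b), mul_inv_cancel_right]
  have q1 := x2 1 0
  have q2 := x2 0 1
  rw [ww_conj hc h3 h2.symm, ww_conj hc h3 h2.symm] at q1 q2
  obtain ⟨t1, t2⟩ := b.tri rk hp sp
  have hm : y⁻¹ * p ∈ S ⊓ Cx u := mul_mem (inv_mem j.yT) hp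
  have e1 : y' * s * y'⁻¹ * (y⁻¹ * p) = s * p := by
    have h4 := j.sy'
    rw [inv_eq_of_mul_eq_one_right b.ss] at h4
    calc _ = (s * s) * y' * s * y'⁻¹ * (y⁻¹ * p) := by rw [b.ss, one_mul]
      _ = s * (s * y' * s) * y'⁻¹ * (y⁻¹ * p) := by group
      _ = _ := by rw [h4, ww]; group
  obtain ⟨t3, -⟩ := (b.cj j.yT').tri rk hm (e1.symm ▸ sp)
  have g1 : g⁻¹ * y' * g⁻¹⁻¹ = ww y y' 1 0 := by rw [← j.hy', ww]; group
  have g2 : g⁻¹ * y * g⁻¹⁻¹ = ww y y' (-1) (-1) := by rw [inv_inv, j.gy'']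
  have t4 : (g⁻¹ * p * g)⁻¹ = p * (g * p * g⁻¹) := inv_eq_of_mul_eq_one_left t1
  have q3 : ww y y' (l + 2 * a - β) (β + a - 1) = 1 := by
    have f1 : y' * g * y'⁻¹ * (y⁻¹ * p) * (y' * g * y'⁻¹)⁻¹ =
        ww y y' 1 1 * (g * p * g⁻¹) * ww y y' (-1) (-2) := by
      calc _ = y' * (g * (y'⁻¹ * y⁻¹) * g⁻¹) * (g * p * g⁻¹) * (g * y' * g⁻¹ * y'⁻¹) := by group
        _ = ww y y' 0 1 * (g * ww y y' (-1) (-1) * g⁻¹) * (g * p * g⁻¹) *
            (ww y y' (-1) (-1) * ww y y' 0 (-1)) := by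
          rw [j.gy', ← ww_inv hc 1 1, ww_r, ww_r]; simp [ww]
        _ = _ := by rw [ww_conj hc j.gy j.gy', ww_mul hc, ww_mul hc]; norm_num
    have f2 : (y' * g * y'⁻¹)⁻¹ * (y⁻¹ * p) * (y' * g * y'⁻¹) =
        ww y y' 0 2 * (g⁻¹ * p * g) * ww y y' 1 (-1) := by
      calc _ = y' * (g⁻¹ * (y'⁻¹ * y⁻¹) * g⁻¹⁻¹) * (g⁻¹ * p * g) * (g⁻¹ * y' * g⁻¹⁻¹ * y'⁻¹) := by group
        _ = ww y y' 0 1 * (g⁻¹ * ww y y' (-1) (-1) * g⁻¹⁻¹) * (g⁻¹ * p * g) *
            (ww y y' 1 0 * ww y y' 0 (-1)) := by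
          rw [g1, ← ww_inv hc 1 1, ww_r, ww_r]; simp [ww]
        _ = _ := by rw [ww_conj hc g2 g1, ww_mul hc, ww_mul hc]; norm_num
    have f3 : (g⁻¹ * p * g)⁻¹ * ww y y' (-1) 0 * (g⁻¹ * p * g) = ww y y' (a - β) a := by
      calc _ = g⁻¹ * (p⁻¹ * (g * ww y y' (-1) 0 * g⁻¹) * p) * g⁻¹⁻¹ := by group
        _ = _ := by
          rw [ww_conj hc j.gy j.gy', pz _ (ww_mem j.yT.1 j.yT'.1 _ _), ww_conj hc h3 h2.symm,
            ww_conj hc g2 g1]
          congr 1 <;> ring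
    rw [f1, f2] at t3
    have f4 : ww y y' (-1) 0 * (p * ww y y' 1 1 * p⁻¹) * ((g⁻¹ * p * g)⁻¹ *
        (ww y y' (-1) (-2) * ww y y' 0 2) * (g⁻¹ * p * g)) * ww y y' 1 (-1) = 1 := by
      rw [← t3, t4, ww_l]; group
    rw [ww_mul hc, show (-1 : ℤ) + 0 = -1 from rfl, show (-2 : ℤ) + 2 = 0 from rfl, f3,
      ww_conj hc h3 h2.symm, ww_mul hc, ww_mul hc, ww_mul hc] at f4
    rw [← f4]; congr 1 <;> ring
  have D : ∀ {i : ℤ}, y ^ i = 1 ↔ (orderOf y : ℤ) ∣ i := orderOf_dvd_iff_zpow_eq_one.symm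
  obtain ⟨r1, r2⟩ := j.ind _ _ q3
  obtain ⟨r3, -⟩ := j.ind' q1
  obtain ⟨r4, r5⟩ := j.ind' q2
  rw [D] at r1 r2 r3 r4 r5
  have r6 : y ^ (2 * a) = 1 := by
    have r7 : (y ^ (2 * a)) ^ (3 : ℤ) = 1 := by
      rw [← zpow_mul, D]
      have := ((r1.mul_left a).add (r2.mul_left (2 * a + 4 * (β - a + 1)))).add
        ((r5.mul_left (-4)).sub r4)
      exact this.trans (dvd_of_eq (by ring))
    exact congrArg Subtype.val (Disc.eq_one_of_odd c.syl.pgroup (w := ⟨_, S.zpow_mem j.yT.1 (2 * a)⟩)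
      (m := 3) (by decide) (Subtype.ext r7))
  have r8 : y ^ l = y * y ^ a := by
    rw [← zpow_one_add, ← mul_inv_eq_one, ← zpow_sub, D]
    have := (r1.add r2).sub ((D.1 r6).mul_left 2)
    exact this.trans (dvd_of_eq (by ring))
  have r9 : y ^ a = z := by
    refine (uniq j.zy c.z1 c.zz (zpow_mem (mem_zpowers y) a) (by rw [← zpow_add, ← two_mul, r6])).resolve_left
      fun h => py ?_
    rw [h3, ww_l, r8, h, mul_one]
  have r10 : y' ^ β = y' * u := by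
    have : y' ^ a = u := by rw [← j.hy', conj_zpow, r9, c.gz]
    rw [← this, ← zpow_one_add, ← mul_inv_eq_one, ← zpow_sub]
    refine j.pw' (D.2 ?_)
    have := r2.sub (D.1 r6)
    exact this.trans (dvd_of_eq (by ring))
  obtain ⟨n, hn⟩ := cm_zpow c b.q.n j.yT ye (k := a) (by
    rw [r9, cm_eq_one b.q.n.ee, b.q.n.ez c])
  refine fin2 rk c j hp (n := n) (by rw [two_mul, ← hn, r9]) pp t2 (by rw [h3, ww_l, r8, r9]) ?_
  rw [← h2, ww, r9, r10, ← mul_assoc, ← c.zc _ j.yT'.1, mul_assoc]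

theorem step (rk : PRankLE 2 3 G) {s y m : G} (b : BB S z u g e s) (hy : y ∈ S ⊓ Cx u)
    (sy : IsConj z (s * y)) (ye : cm y e = z) (hm : m ∈ S ⊓ Cx u) (sm : IsConj z (s * m))
    (mJ : m ∈ normalizer ((closure {y, g * y * g⁻¹} : Subgroup G) : Set G))
    (h : m * m ∈ closure {y, g * y * g⁻¹}) : m ∈ closure {y, g * y * g⁻¹} := by
  by_contra hn
  have c := b.q.c
  have j := jb rk b hy sy ye
  set y' := g * y * g⁻¹ with hy'
  have hc := j.cm
  have yJ : y ∈ closure {y, y'} := subset_closure (by simp)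
  have yJ' : y' ∈ closure {y, y'} := subset_closure (by simp)
  have sm' : s * m * s⁻¹ = m⁻¹ := inv_of b.ss (sq_of_conj c.zz sm)
  have sy' : s * y * s⁻¹ = y⁻¹ := by simpa [ww] using j.sy
  obtain ⟨a, a', h1⟩ := (mem_cl hc).1 h
  have h2 : y ^ a = m * m := by
    rw [← h1]
    refine (j.inv ?_).symm
    rw [h1, show s * (m * m) * s⁻¹ = s * m * s⁻¹ * (s * m * s⁻¹) by group, sm', mul_inv_rev]
  obtain ⟨k, rfl⟩ := cm_zpow c b.q.n hy ye (k := a) (by
    rw [h2, b.q.n.cm_mul c hm hm]; exact c.elU _ (b.q.n.nm m hm.1))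
  set p := y ^ (-k) * m with hp
  have pT : p ∈ S ⊓ Cx u := mul_mem (zpow_mem hy _) hm
  have pN : ∀ x ∈ closure {y, y'}, p * x * p⁻¹ ∈ closure {y, y'} := fun x hx =>
    (mem_normalizer_iff.1 (mul_mem (le_normalizer (zpow_mem yJ _)) mJ) x).1 hx
  have ps : s * p * s⁻¹ = p := by
    calc _ = (s * y * s⁻¹) ^ (-k) * (s * m * s⁻¹) := by rw [conj_zpow, hp]; group
      _ = y ^ (-k) * y ^ (k + k) * m⁻¹ := by rw [sy', sm']; group
      _ = _ := by rw [h2, hp]; group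
  have jT : y' ^ k ∈ S ⊓ Cx u := zpow_mem j.yT' k
  have b' := b.cj jT
  have jy : y' ^ k * y = y * y' ^ k := (hc.symm.zpow_left k).eq
  have e1 : y' ^ k * s * (y' ^ k)⁻¹ = s * y ^ k := by
    have h4 := ww_conj hc j.sy j.sy' 0 k
    rw [inv_eq_of_mul_eq_one_right b.ss, ww_r] at h4
    calc _ = (s * s) * y' ^ k * s * (y' ^ k)⁻¹ := by rw [b.ss, one_mul]
      _ = s * (s * y' ^ k * s) * (y' ^ k)⁻¹ := by group
      _ = _ := by rw [h4, ww]; group
  have e2 : y' ^ k * s * (y' ^ k)⁻¹ * p = s * m := by rw [e1, hp]; group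
  have e3 : y' ^ k * g * (y' ^ k)⁻¹ * y * (y' ^ k * g * (y' ^ k)⁻¹)⁻¹ = y' := by
    calc _ = y' ^ k * (g * ((y' ^ k)⁻¹ * (y * y' ^ k)) * g⁻¹) * (y' ^ k)⁻¹ := by group
      _ = y' ^ k * y' * (y' ^ k)⁻¹ := by rw [← jy, inv_mul_cancel_left]
      _ = _ := by group
  have ye' : cm y (y' ^ k * e * (y' ^ k)⁻¹) = z := by
    have := cm_conj (y' ^ k) y e
    rw [ye, jy, mul_inv_cancel_right, c.zc _ jT.1, mul_inv_cancel_right] at this
    exact this.symm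
  have j' := jb rk b' hy (by
    rw [show y' ^ k * s * (y' ^ k)⁻¹ * y = y' ^ k * (s * y) * (y' ^ k)⁻¹ by
      rw [mul_assoc _ _ y, show (y' ^ k)⁻¹ * y = y * (y' ^ k)⁻¹ from (hc.symm.zpow_left k).inv_left.eq]
      group]
    exact sy.trans (isConj_iff.2 ⟨_, rfl⟩)) ye'
  rw [e3] at j'
  have sp : IsConj z (y' ^ k * s * (y' ^ k)⁻¹ * p) := e2.symm ▸ sm
  have sp' := inv_of b'.ss (sq_of_conj c.zz sp)
  have p1 : p ∉ closure {y, y'} := fun h => hn ((mul_mem_cancel_left (zpow_mem yJ _)).1 h)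
  have p2 : p * p ∈ closure {y, y'} := by
    rw [show p * p = p * y ^ (-k) * p⁻¹ * y ^ (-k) * (m * m) by rw [hp]; group]
    exact mul_mem (mul_mem (pN _ (zpow_mem yJ _)) (zpow_mem yJ _)) h
  obtain ⟨i, i', h3⟩ := (mem_cl hc).1 p2
  have h4 : y ^ i = p * p := by
    rw [← h3]
    refine (j'.inv ?_).symm
    rw [h3, mul_inv_rev p, ← sp']; group
  have h5 : p * p * (p * p) = 1 := by
    have h6 : s * (p * p) * s⁻¹ = p * p := by
      rw [show s * (p * p) * s⁻¹ = s * p * s⁻¹ * (s * p * s⁻¹) by group, ps]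
    rw [← h4, ← conj_zpow, sy', inv_zpow] at h6
    rw [← h4]
    exact mul_eq_one_iff_eq_inv.2 h6.symm
  have zJ : z ∈ closure {y, y'} := zpowers_le.2 yJ j.zy
  have su : y' ^ k * s * (y' ^ k)⁻¹ ∉ Cx u := fun h =>
    c.zu_ne_u (by rw [← b'.su, mem_Cx.1 h, mul_inv_cancel_right])
  have zp : z ∈ zpowers p := by
    have := b'.zmem rk b'.sS (S.mul_mem b'.sS pT.1) su
      (fun h => su (((Cx u).mul_mem_cancel_right pT.2).1 h)) b'.sz sp
      (fun h => p1 (by rw [left_eq_mul.1 h]; exact one_mem _))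
    rwa [← mul_assoc, b'.ss, one_mul] at this
  have p3 : p * p ≠ 1 := fun h => by
    rcases uniq zp c.z1 c.zz (mem_zpowers p) h with h | h
    exacts [p1 (h ▸ one_mem _), p1 (h ▸ zJ)]
  have pp : p * p = z :=
    (uniq j.zy c.z1 c.zz (h4 ▸ zpow_mem (mem_zpowers y) i) h5).resolve_left p3
  refine core rk b' j' ye' pT sp pp (fun h => p3 ?_) (pN _ yJ) (pN _ yJ')
  have h7 : Commute p (y ^ k) := Commute.zpow_right (mul_inv_eq_iff_eq_mul.1 h) k
  rw [e1, mul_assoc s, ← h7.eq, show s * (p * y ^ k) * (s * y ^ k)⁻¹ = s * p * s⁻¹ by group, ps] at sp'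
  exact mul_eq_one_iff_eq_inv.2 sp'

end B2b

theorem BB.mem_J (rk : PRankLE 2 3 G) {s y m : G} (b : BB S z u g e s) (hy : y ∈ S ⊓ Cx u)
    (sy : IsConj z (s * y)) (ye : cm y e = z) (hm : m ∈ S ⊓ Cx u) (sm : IsConj z (s * m))
    (mJ : m ∈ normalizer ((closure {y, g * y * g⁻¹} : Subgroup G) : Set G)) :
    m ∈ closure {y, g * y * g⁻¹} := by
  have c := b.q.c
  induction h : orderOf m using Nat.strong_induction_on generalizing m with
  | _ n ih =>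
  by_cases m1 : m = 1
  · rw [m1]; exact one_mem _
  refine B2b.step rk b hy sy ye hm sm mJ (ih _ ?_ (mul_mem hm hm) ?_ (mul_mem mJ mJ) rfl)
  · obtain ⟨k, hk⟩ := (IsPGroup.iff_orderOf.1 c.syl.pgroup) ⟨m, hm.1⟩
    rw [orderOf_mk] at hk
    have h2 : 2 ∣ orderOf m := by
      rw [hk]
      refine dvd_pow_self 2 fun k0 => m1 ?_
      rwa [k0, pow_zero, orderOf_eq_one_iff] at hk
    rw [← h, ← pow_two, orderOf_pow_of_dvd two_ne_zero h2]
    exact Nat.div_lt_self (orderOf_pos m) one_lt_two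
  · have h1 := B2b.inv_of b.ss (B2b.sq_of_conj c.zz sm)
    refine b.sz.trans (isConj_iff.2 ⟨m⁻¹, ?_⟩)
    rw [inv_inv, ← h1]; group

end CfsgLib.Rk3B
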