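import Cfsg.Agent.Lib.Rk3B.Tl

/-!
The new case: reduction  (plans/RK3B.md, package CF2)
-/

set_option autoImplicit false

namespace CfsgLib.Rk3B

open Subgroup Cfsg CfsgLib.Tech CfsgLib.W2 CfsgLib.Rk3

variable {G : Type*} [Group G] [Finite G] {S : Subgroup G} {z u g e : G}

namespace Cf2

omit [Finite G] in
theorem pair {n p : G} (Φ : G → Prop) (zz : z * z = 1) (z1 : z ≠ 1) (inv : ∀ a, Φ a → Φ (n * a * n⁻¹))
    (h1 : Φ p) (h2 : Φ (z * p)) (only : ∀ a, Φ a → a = p ∨ a = z * p) : n * z * n⁻¹ = z := by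
  have h3 := only _ (inv _ h2)
  rw [← conj_mul] at h3
  rcases only _ (inv _ h1) with e | e <;> rw [e] at h3 <;> rcases h3 with e' | e'
  · exact absurd (conj_eq_one_iff.1 (mul_eq_right.1 e')) z1
  · exact mul_right_cancel e'
  · rw [← mul_assoc] at e'
    rw [eq_inv_of_mul_eq_one_left (mul_eq_right.1 e'), inv_eq_of_mul_eq_one_right zz]
  · exact absurd (conj_eq_one_iff.1 (mul_eq_right.1 e')) z1

/-- the data extracted from `CB`, with `t = s y s⁻¹` -/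
structure D (S R : Subgroup G) (z u n t : G) : Prop where
  rk : PRankLE 2 3 G
  c : MX R z u
  pg : IsPGroup 2 S
  Sz : S ≤ Cx z
  RS : R ≤ S
  uq : ∀ a ∈ S, a * a = 1 → a ≠ 1 → S ≤ Cx a → a = z
  hn : n ∈ normalizer (R : Set G)
  nz : n * z * n⁻¹ ≠ z
  tS : t ∈ S
  tN : t ∈ normalizer (R : Set G)
  tt : t * t = 1
  tR : t ∉ R
  sq : ∀ r ∈ R, t * (r * r) = r * r * t
  half : ∀ a ∈ R, ∀ b ∈ R, t * a ≠ a * t → t * b ≠ b * t → t * (a * b) = a * b * t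

namespace D

variable {R : Subgroup G} {n t : G} (d : D S R z u n t)
include d

theorem memR {x : G} (hx : x ∈ S) (e : x * u = u * x) : x ∈ R :=
  (d.c.eq_inf d.pg d.RS d.Sz).le (mem_inf.2 ⟨hx, mem_Cx.2 e⟩)

theorem memR' {x v : G} (hx : x ∈ S) (hv : v ∈ S) (e : x * u * x⁻¹ = v * u * v⁻¹) : v⁻¹ * x ∈ R :=
  d.memR (mul_mem (inv_mem hv) hx) (mem_Cx.1 (mem_Cx'.2 (by
    rw [show v⁻¹ * x * u * (v⁻¹ * x)⁻¹ = v⁻¹ * (x * u * x⁻¹) * v by group, e]; group)))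

theorem tu : t * u ≠ u * t := fun e => d.tR (d.memR d.tS e)

omit [Finite G] in
theorem tz : t * z = z * t := mem_Cx.1 (d.Sz d.tS)

theorem oz {a : G} (ha : a ∈ Zc R) (hc : IsConj z a) (e : t * a = a * t) : a = z := by
  by_contra az
  exact d.tR (d.c.le (d.pg.to_le inf_le_left) (le_inf d.RS ha.2.2) (IsConj.refl z) hc (Ne.symm az)
    (Zc_comm d.c.zY.1 ha) (inf_le_left.trans d.Sz) inf_le_right (mem_inf.2 ⟨d.tS, mem_Cx.2 e⟩))

theorem nzt : t * (n * z * n⁻¹) ≠ n * z * n⁻¹ * t := fun e =>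
  d.nz (d.oz (Zc_conj d.hn d.c.zY) (isConj_iff.2 ⟨n, rfl⟩) e)

theorem big (h : Hy G) (hS : IsSylowIn 2 S ⊤) : 8 ≤ Nat.card (Zc R) := by
  have c := d.c
  have c4 := card_V2 c.zz c.uu c.zu c.z1 c.u1 c.uz
  by_cases hY : Zc R ≤ V2 z u
  swap
  · obtain ⟨a, ha, aU⟩ := SetLike.not_le_iff_exists.1 hY
    rw [← card_V3 c4 ha.2.1 (Zc_comm ha.1 c.zY) (Zc_comm ha.1 c.uY) aU]
    exact card_le_of_le (V3_le.2 ⟨c.zY, c.uY, ha⟩)
  exfalso
  let X : Subgroup G := closure {x | ∃ r ∈ R, r * r = x}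
  have XR : X ≤ R := (closure_le _).2 (by rintro _ ⟨r, hr, rfl⟩; exact mul_mem hr hr)
  have Xt : X ≤ Cx t := (closure_le _).2 (by rintro _ ⟨r, hr, rfl⟩; exact mem_Cx.2 (d.sq r hr).symm)
  have NX : normalizer (R : Set G) ≤ normalizer (X : Set G) := fun x hx =>
    mem_normalizer_of_cj_le (map_le_iff_le_comap.2 ((closure_le _).2 (by
      rintro _ ⟨r, hr, rfl⟩
      exact subset_closure ⟨_, conj_mem_of_mem_normalizer hx hr, conj_mul⟩)))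
  by_cases hX : X = ⊥
  · have elR : El R := fun r hr => mem_bot.1 (hX ▸ (subset_closure ⟨r, hr, rfl⟩ : _ ∈ X))
    obtain ⟨E, ES, elE, UE, E8⟩ := h.con S (V2 z u) hS (V2_le.2 ⟨d.RS c.zY.1, d.RS c.uY.1⟩)
      (el_V2 c.zz c.uu c.zu)
    have : E ≤ V2 z u := fun a ha => by
      have aR := d.memR (ES ha) (elE.comm ha (UE (r_V2 z u)))
      exact hY ⟨aR, elR a aR, fun r hr => mem_Cx.2 (elR.comm hr aR)⟩
    have := card_le_of_le this
    omega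
  obtain ⟨x, xX, x2, xc⟩ := exists_mem_center_of_normalized c.pg XR (le_normalizer.trans NX) hX
  have xt := mem_Cx.1 (Xt xX)
  rcases (mem_V2 c.zz c.uu c.zu).1 (hY ⟨XR xX, sq_of_ord x2, fun r hr => mem_Cx.2 (xc r hr)⟩) with
    e | e | e | e <;> subst e
  · simp at x2
  · exact d.nzt (mem_Cx.1 (Xt (conj_mem_of_mem_normalizer (NX d.hn) xX))).symm
  · exact d.tu xt.symm
  · exact d.tu (by rw [← mul_assoc, d.tz, mul_assoc, mul_assoc] at xt; exact (mul_left_cancel xt).symm)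

variable (h8 : 8 ≤ Nat.card (Zc R))
include h8

theorem om {a : G} (ha : a ∈ R) (aa : a * a = 1) : a ∈ Zc R :=
  (el_Zc R).mem_of_comm d.rk h8 aa fun _ hb => Zc_comm ha hb

theorem four : Nat.card (Zc R ⊓ Cx t : Subgroup G) = 4 := by
  have nm : ∀ a ∈ Zc R ⊓ Cx t, u * a * u⁻¹ ∈ Zc R ⊓ Cx t := fun a ha => by
    rwa [Zc_comm d.c.uY.1 ha.1, mul_inv_cancel_right]
  have h1 := card_sup_inv d.c.uu nm fun e => d.tu (mem_Cx.1 e.2).symm
  have h2 : Zc R ⊓ Cx t ⊔ zpowers u = Zc R := by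
    refine le_antisymm (sup_le inf_le_left (zpowers_le.2 d.c.uY)) fun a ha => (mem_sup_inv d.c.uu nm).2 ?_
    by_cases e : t * a = a * t
    · exact .inl ⟨ha, mem_Cx.2 e.symm⟩
    · exact .inr ⟨mul_mem ha d.c.uY, mem_Cx.2 (d.half a ha.1 u d.c.uY.1 e d.tu).symm⟩
  rw [h2] at h1
  have := (el_Zc R).card_le d.rk
  omega

theorem fr {a b x : G} (ha : a ∈ Zc R) (hb : b ∈ Zc R) (hx : x ∈ Zc R) (ta : t * a = a * t)
    (tb : t * b = b * t) (tx : t * x = x * t) (a1 : a ≠ 1) (b1 : b ≠ 1) (ba : b ≠ a) :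
    x = 1 ∨ x = a ∨ x = b ∨ x = a * b :=
  ((el_Zc R).mono inf_le_left).four (d.four h8).le (mem_inf.2 ⟨ha, mem_Cx.2 ta.symm⟩)
    (mem_inf.2 ⟨hb, mem_Cx.2 tb.symm⟩) a1 b1 ba (mem_inf.2 ⟨hx, mem_Cx.2 tx.symm⟩)

theorem exf : ∃ f ∈ Zc R, t * f = f * t ∧ f ≠ 1 ∧ f ≠ z := by
  by_contra! e
  have h1 : Zc R ⊓ Cx t ≤ zpowers z := fun a ha => by
    by_cases a1 : a = 1
    · exact a1 ▸ one_mem _
    · exact e a ha.1 (mem_Cx.1 ha.2).symm a1 ▸ mem_zpowers _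
  have := card_le_of_le h1
  rw [d.four h8, Nat.card_zpowers, ord_two d.c.zz d.c.z1] at this
  omega

omit h8 in
theorem exw : ∃ w ∈ Zc R, t * w = w * t ∧ w ≠ 1 ∧
    ∀ a ∈ Zc R, t * a ≠ a * t → t * a * t⁻¹ = w * a := by
  have uY := d.c.uY
  have h1 := Zc_conj d.tN uY
  refine ⟨_, mul_mem h1 uY, ?_, fun e => d.tu ?_, fun a ha e => ?_⟩
  · rw [← mul_inv_eq_iff_eq_mul, ← conj_mul, Zc_comm h1.1 uY]
    congr 1
    rw [show t * (t * u * t⁻¹) * t⁻¹ = t * t * u * (t * t)⁻¹ by group, d.tt]; simp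
  · rw [← mul_inv_eq_iff_eq_mul, eq_inv_of_mul_eq_one_left e, inv_eq_of_mul_eq_one_right d.c.uu]
  · have h2 := mul_inv_eq_iff_eq_mul.2 (d.half a ha.1 u uY.1 e d.tu)
    rw [← conj_mul] at h2
    rw [eq_mul_inv_of_mul_eq h2, inv_eq_of_mul_eq_one_right h1.2.1, mul_assoc (t * u * t⁻¹),
      Zc_comm h1.1 (mul_mem uY ha), Zc_comm ha.1 uY]

/-- the conjugates of `z` in `Ω₁ Z(R)` -/
theorem orb {w : G} (wY : w ∈ Zc R) (tw : t * w = w * t) (w1 : w ≠ 1)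
    (hw : ∀ a ∈ Zc R, t * a ≠ a * t → t * a * t⁻¹ = w * a) {a : G} (ha : a ∈ Zc R) (hc : IsConj z a) :
    a = z ∨ a = u ∨ a = w * u := by
  by_contra! e
  obtain ⟨az, au, aw⟩ := e
  have c := d.c
  have ta : t * a ≠ a * t := fun e => az (d.oz ha hc e)
  have all : ∀ b ∈ Zc R, ¬ IsConj z b → t * b = b * t := fun b hb nb => by
    by_contra tb
    have k : ∀ {x y : G}, x * u = y → x = y * u := fun e => by rw [← e, mul_assoc, c.uu, mul_one]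
    rcases d.fr h8 wY (mul_mem ha c.uY) (mul_mem hb c.uY) tw (d.half a ha.1 u c.uY.1 ta d.tu)
      (d.half b hb.1 u c.uY.1 tb d.tu) w1 (fun e => au (by rw [k e, one_mul])) (fun e => aw (k e))
      with e | e | e | e
    · exact nb (by rw [k e, one_mul]; exact c.cj)
    · exact nb (by rw [k e, ← hw u c.uY d.tu]; exact c.cj.trans (isConj_iff.2 ⟨t, rfl⟩))
    · exact nb (by rw [mul_right_cancel e]; exact hc)
    · rw [← mul_assoc] at e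
      exact nb (by rw [mul_right_cancel e, ← hw a ha ta]; exact hc.trans (isConj_iff.2 ⟨t, rfl⟩))
  obtain ⟨f, fY, tf, f1, fz⟩ := d.exf h8
  refine d.nz (pair (p := f) (fun b => b ∈ Zc R ∧ b ≠ 1 ∧ ¬ IsConj z b) c.zz c.z1
    (fun b hb => ⟨Zc_conj d.hn hb.1, mt conj_eq_one_iff.1 hb.2.1, fun e =>
      hb.2.2 (e.trans (isConj_iff.2 ⟨n, rfl⟩ : IsConj b _).symm)⟩)
    ⟨fY, f1, fun e => fz (d.oz fY e tf)⟩ ⟨mul_mem c.zY fY, fun e => fz ?_, fun e => f1 ?_⟩ fun b hb => ?_)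
  · rw [eq_inv_of_mul_eq_one_right e, inv_eq_of_mul_eq_one_right c.zz]
  · exact mul_eq_left.1 (d.oz (mul_mem c.zY fY) e (by rw [← mul_assoc, d.tz, mul_assoc, tf, mul_assoc]))
  · rcases d.fr h8 c.zY fY hb.1 d.tz tf (all b hb.1 hb.2.2) c.z1 f1 fz with e | e | e | e
    · exact absurd e hb.2.1
    · exact absurd (e ▸ IsConj.refl _) hb.2.2
    · exact .inl e
    · exact .inr e

theorem wz {w : G} (wY : w ∈ Zc R) (tw : t * w = w * t) (w1 : w ≠ 1)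
    (hw : ∀ a ∈ Zc R, t * a ≠ a * t → t * a * t⁻¹ = w * a) : w = z := by
  by_contra wz
  have c := d.c
  have RQ : R ≤ S ⊓ Cx w := le_inf d.RS wY.2.2
  have tQ : t ∈ S ⊓ Cx w := ⟨d.tS, mem_Cx.2 tw⟩
  obtain ⟨σ, σS, σQ, σN⟩ := exists_mem_normalizer_of_lt d.pg (Q := S ⊓ Cx w)
    (inf_le_left.lt_of_ne fun e => wz (d.uq w (d.RS wY.1) wY.2.1 w1 (e.ge.trans inf_le_right)))
  have σz := mem_Cx'.1 (d.Sz (inv_mem σS))
  have σw : σ⁻¹ * w * σ⁻¹⁻¹ = z * w := by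
    have h1 : σ⁻¹ * w * σ⁻¹⁻¹ ∈ Zc (S ⊓ Cx w) :=
      Zc_conj (inv_mem σN) ⟨RQ wY.1, wY.2.1, inf_le_right⟩
    rcases d.fr h8 c.zY wY (d.om h8 (d.memR h1.1.1 (Zc_comm (RQ c.uY.1) h1).symm) h1.2.1) d.tz tw
      (Zc_comm tQ h1) c.z1 w1 wz with e | e | e | e
    · exact absurd (conj_eq_one_iff.1 e) w1
    · exact absurd ((MulAut.conj σ⁻¹).injective (e.trans σz.symm)) wz
    · exact absurd (inv_mem_iff.1 (mem_inf.2 ⟨inv_mem σS, mem_Cx'.2 e⟩)) σQ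
    · exact e
  have vS : σ * u * σ⁻¹ ∈ S := mul_mem (mul_mem σS (d.RS c.uY.1)) (inv_mem σS)
  have vv : σ * u * σ⁻¹ * (σ * u * σ⁻¹) = 1 := by rw [conj_mul, c.uu]; simp
  by_cases uv : u * (σ * u * σ⁻¹) = σ * u * σ⁻¹ * u
  · rcases d.orb h8 wY tw w1 hw (d.om h8 (d.memR vS uv.symm) vv) (c.cj.trans (isConj_iff.2 ⟨σ, rfl⟩))
      with e | e | e
    · exact c.uz ((MulAut.conj σ).injective (e.trans (mem_Cx'.1 (d.Sz σS)).symm))
    · exact σQ (RQ (d.memR σS (mul_inv_eq_iff_eq_mul.1 e)))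
    · exact σQ ((mul_mem_cancel_left (inv_mem tQ)).1 (RQ (d.memR' σS d.tS (e.trans (hw u c.uY d.tu).symm))))
  obtain ⟨a, ha, aa, a1, au, av, ⟨p, -, hp⟩, q, -, hq⟩ := dcen d.pg (d.RS c.uY.1) vS c.uu vv uv
  have aY := d.om h8 (d.memR (zpowers_le.2 (mul_mem (d.RS c.uY.1) vS) ha) au) aa
  rcases d.orb h8 wY tw w1 hw (mul_mem aY c.uY) (c.cj.trans (isConj_iff.2 ⟨p, hp⟩)) with e | e | e
  · have e' : a = z * u := by rw [← e, mul_assoc, c.uu, mul_one]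
    rw [e', ← mul_assoc _ z, mem_Cx.1 (d.Sz vS), mul_assoc z, mul_assoc z] at av
    exact uv (mul_left_cancel av)
  · exact a1 (mul_eq_right.1 e)
  obtain rfl := mul_right_cancel e
  have h1 : IsConj z (z * a * u) := c.cj.trans (isConj_iff.2 ⟨σ⁻¹ * q * σ, by
    rw [← σw, show σ⁻¹ * q * σ * u * (σ⁻¹ * q * σ)⁻¹ = σ⁻¹ * (q * (σ * u * σ⁻¹) * q⁻¹) * σ by group, hq]
    group⟩)
  rcases d.orb h8 wY tw w1 hw (mul_mem (mul_mem c.zY wY) c.uY) h1 with e | e | e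
  · rw [mul_assoc] at e
    exact d.tu (by rwa [eq_inv_of_mul_eq_one_left (mul_eq_left.1 e), inv_eq_of_mul_eq_one_right c.uu] at tw)
  · exact wz (by rw [eq_inv_of_mul_eq_one_right (mul_eq_right.1 e), inv_eq_of_mul_eq_one_right c.zz])
  · exact c.z1 (mul_eq_right.1 (mul_right_cancel e))

theorem exsq : ∃ f ∈ Zc R, t * f = f * t ∧ f ≠ 1 ∧ f ≠ z ∧
    ∀ r ∈ R, r * r * (r * r) = 1 → r * r = 1 ∨ r * r = f := by
  have c := d.c
  obtain ⟨f, fY, tf, f1, fz⟩ := d.exf h8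
  have only : ∀ a, (a ≠ 1 ∧ a * a = 1 ∧ ∃ r ∈ R, r * r = a) → a = f ∨ a = z * f := by
    rintro _ ⟨a1, aa, r, hr, rfl⟩
    rcases d.fr h8 c.zY fY (d.om h8 (mul_mem hr hr) aa) d.tz tf (d.sq r hr) c.z1 f1 fz with e | e | e | e
    · exact absurd e a1
    · exact absurd (by simpa only [conj_mul, e] using d.sq _ (conj_mem_of_mem_normalizer d.hn hr)) d.nzt
    · exact .inl e
    · exact .inr e
  have zf1 : z * f ≠ 1 := fun e => fz (by
    rw [eq_inv_of_mul_eq_one_right e, inv_eq_of_mul_eq_one_right c.zz])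
  by_cases h1 : ∃ r ∈ R, r * r = f
  · refine ⟨f, fY, tf, f1, fz, fun r hr e => or_iff_not_imp_left.2 fun r1 =>
      (only _ ⟨r1, e, r, hr, rfl⟩).resolve_right fun e' => d.nz (pair _ c.zz c.z1 ?_ ⟨f1, fY.2.1, h1⟩
        ⟨zf1, (mul_mem c.zY fY).2.1, r, hr, e'⟩ only)⟩
    rintro _ ⟨a1, aa, r, hr, rfl⟩
    exact ⟨mt conj_eq_one_iff.1 a1, by rw [conj_mul, aa]; simp, _, conj_mem_of_mem_normalizer d.hn hr, conj_mul⟩
  · exact ⟨z * f, mul_mem c.zY fY, by rw [← mul_assoc, d.tz, mul_assoc, tf, mul_assoc], zf1,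
      fun e => f1 (mul_eq_left.1 e), fun r hr e => or_iff_not_imp_left.2 fun r1 =>
        (only _ ⟨r1, e, r, hr, rfl⟩).resolve_left fun e' => h1 ⟨r, hr, e'⟩⟩

end D

end Cf2

theorem CB.cd (h : Hy G) {R : Subgroup G} {n s y : G} (k : CB S R z u n s y) : ∃ f, CD S z u f := by
  have c := k.c
  have RP : R ≤ S ⊓ normalizer (R : Set G) := le_inf k.RS le_normalizer
  have cP : ∀ {x}, x ∈ R → s * x * s⁻¹ ∈ S ⊓ normalizer (R : Set G) := fun hx =>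
    conj_mem_of_mem_normalizer k.sN (RP hx)
  have cP' : ∀ {x}, x ∈ R → s⁻¹ * x * s ∈ S ⊓ normalizer (R : Set G) := fun hx =>
    conj_mem_of_mem_normalizer' k.sN (RP hx)
  have yc : ∀ {x}, s⁻¹ * x * s ∈ R → s * y * s⁻¹ * x = x * (s * y * s⁻¹) := fun {x} hx => by
    have := congrArg (fun a => s * a * s⁻¹) (Zc_comm hx k.yY)
    simpa [mul_assoc] using this.symm
  have ml : ∀ a b : G, s⁻¹ * (a * b) * s = s⁻¹ * a * s * (s⁻¹ * b * s) := fun a b => by group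
  have tP := cP k.yY.1
  have d : Cf2.D S R z u n (s * y * s⁻¹) := ⟨h.rk, c, k.syl.pgroup, k.Sz, k.RS, k.uq, k.hn, k.nz, tP.1, tP.2,
    by rw [conj_mul, k.yY.2.1]; simp, k.yR,
    fun r hr => yc (by rw [ml]; exact (idx2_mul k.h2 (cP' hr) (cP' hr)).2 Iff.rfl),
    fun a ha b hb h1 h2 => yc (by
      rw [ml]; exact (idx2_mul k.h2 (cP' ha) (cP' hb)).2 (iff_of_false (mt yc h1) (mt yc h2)))⟩
  generalize s * y * s⁻¹ = t at d tP
  have h8 := d.big h k.syl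
  obtain ⟨w, wY, tw, w1, hw⟩ := d.exw
  obtain rfl := d.wz h8 wY tw w1 hw
  have tu := hw u c.uY d.tu
  obtain ⟨f, fY, tf, f1, fz, sq⟩ := d.exsq h8
  have fU : f ∉ V2 w u := fun e => by
    rcases (mem_V2 c.zz c.uu c.zu).1 e with e | e | e | e
    · exact f1 e
    · exact fz e
    · exact d.tu (e ▸ tf)
    · rw [e, ← mul_assoc, tw, mul_assoc, mul_assoc] at tf
      exact d.tu (mul_left_cancel tf)
  have AY : V3 w u f ≤ Zc R := V3_le.2 ⟨wY, c.uY, fY⟩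
  have cf : ∀ {x}, t⁻¹ * x ∈ R → x * f = f * x := fun hx =>
    mem_Cx.1 ((mul_mem_cancel_left (inv_mem (mem_Cx.2 tf))).1 (fY.2.2 hx))
  refine ⟨f, k.syl, k.RS wY.1, k.RS c.uY.1, k.RS fY.1, c.zz, c.uu, fY.2.1, c.z1, c.uz, c.cj,
    fun x hx => mem_Cx.1 (k.Sz hx), k.uq, fU, fun a ha aa au => ?_, fun r hr e => Zc_comm (d.memR hr e) fY,
    fun r hr e => cf (d.memR' hr d.tS (e.trans tu.symm)), fun a ha hc => ?_,
    fun r hr e => sq r (d.memR hr e), ⟨t, d.tS, tu⟩, s, k.sS, fun e => ?_, ?_⟩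
  · exact ((el_Zc R).mono AY).mem_of_comm h.rk (card_V3 (card_V2 c.zz c.uu c.zu c.z1 c.u1 c.uz) fY.2.1
      (Zc_comm fY.1 wY) (Zc_comm fY.1 c.uY) fU).ge aa fun b hb => Zc_comm (d.memR ha au) (AY hb)
  · exact (mem_V2 c.zz c.uu c.zu).2 (.inr (d.orb h8 wY tw w1 hw (AY ha) hc))
  · rcases (mem_V2 c.zz c.uu c.zu).1 e with e | e | e | e
    · exact c.u1 (conj_eq_one_iff.1 e)
    · exact c.uz ((MulAut.conj s).injective (e.trans (mem_Cx'.1 (k.Sz k.sS)).symm))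
    · exact k.sP (le_normalizer (d.memR k.sS (mul_inv_eq_iff_eq_mul.1 e)))
    · exact k.sP ((mul_mem_cancel_left (inv_mem d.tN)).1
        (le_normalizer (d.memR' k.sS d.tS (e.trans tu.symm))))
  · by_cases e : s * u * s⁻¹ ∈ R
    · exact Zc_comm e fY
    · exact cf ((idx2_mul k.h2 (inv_mem tP) (cP c.uY.1)).2 (iff_of_false (mt inv_mem_iff.1 d.tR) e))

end CfsgLib.Rk3B
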