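import Cfsg.Agent.Lib.Rk3B.Defs
import Cfsg.Agent.Lib.Class2.Four

/-!
The Sylow 2-subgroup of `C(i) / ⟨i⟩`  (plans/RK3B.md, package CFG)
-/

set_option autoImplicit false
set_option Elab.async false

namespace CfsgLib.Rk3B

open Subgroup Cfsg CfsgLib.Tech CfsgLib.W2 CfsgLib.Rk3

namespace CFG

abbrev V : Type := ZMod 4 × ZMod 4 × ZMod 4

abbrev M : Type := V × Fin 2 × Fin 2

def at' (i : Fin 2) (v : V) : V := if i = 0 then v else (-v.1, v.1 + v.2.1, -v.2.2)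

def as' (j : Fin 2) (v : V) : V := if j = 0 then v else (-v.1 - 2 * v.2.2, v.2.2 - v.2.1, v.2.2)

def mu (m n : M) : M := (m.1 + at' m.2.1 (as' m.2.2 n.1), m.2 + n.2)

def iv (m : M) : M := (-at' m.2.1 (as' m.2.2 m.1), m.2)

def P (ε : ZMod 4) (m : M) : Prop := 2 * (m.1.2.2 - ε * m.2.1.val) = 0 ∧ 2 * (m.1.1 - ε * m.2.2.val) = 0

instance (ε : ZMod 4) : DecidablePred (P ε) := fun _ => instDecidableAnd

def gen (ε : ZMod 4) (v : V) (i j : Fin 2) : M :=
  mu (mu (v, 0, 0) (if i = 0 then 0 else mu (0, 1, 0) ((0, 0, ε), 0, 0))) (if j = 0 then 0 else mu (0, 0, 1) ((ε, 0, 0), 0, 0))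

theorem mu_iv : ∀ m, mu m (iv m) = 0 := by decide +kernel

theorem two_act : ∀ i j v, 2 * (at' i (as' j v)).2.2 = 2 * v.2.2 ∧ 2 * (at' i (as' j v)).1 = 2 * v.1 := by
  decide +kernel

theorem two_add : ∀ (ε : ZMod 4) (i j : Fin 2), 2 * (ε * (i + j).val) = 2 * (ε * i.val) + 2 * (ε * j.val) := by
  decide +kernel

theorem P_mu (ε : ZMod 4) (m : M) (hm : P ε m) (n : M) (hn : P ε n) : P ε (mu m n) := by
  simp only [P, mu, Prod.fst_add, Prod.snd_add] at hm hn ⊢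
  exact ⟨by linear_combination hm.1 + hn.1 + (two_act m.2.1 m.2.2 n.1).1 - two_add ε m.2.1 n.2.1,
    by linear_combination hm.2 + hn.2 + (two_act m.2.1 m.2.2 n.1).2 - two_add ε m.2.2 n.2.2⟩

theorem P_iv : ∀ ε m, P ε m → P ε (iv m) := by decide +kernel

theorem P_gen : ∀ ε m, P ε m → P 0 (m.1 - (gen ε 0 m.2.1 m.2.2).1, 0, 0) ∧
    gen ε (m.1 - (gen ε 0 m.2.1 m.2.2).1) m.2.1 m.2.2 = m := by decide +kernel

theorem P_sq : ∀ ε m, P ε m → ∃ k, mu m m = ((0, k, 2 * k), 0, 0) := by decide +kernel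

theorem P_or : ∀ m k, mu m m = ((0, k, 2 * k), 0, 0) → P 0 m ∨ P 1 m := by decide +kernel

theorem P_and : ∀ m, P 0 m → P 1 m → m.2 = 0 := by decide +kernel

theorem P_card : (Finset.univ.filter (P 0)).card = 64 := by decide +kernel

theorem act_inj : ∀ i j i' j', at' i (as' j (1, 0, 1)) = at' i' (as' j' (1, 0, 1)) → i = i' ∧ j = j' := by decide +kernel

section Map

variable {G Y : Type*} [Group G] [Group Y] {f : G →* Y} {S U V : Subgroup G}

theorem mem_of_map (hV : f.ker ⊓ S ≤ V) (hS : V ≤ S) {u : G} (hu : u ∈ S) (h : f u ∈ V.map f) : u ∈ V := by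
  obtain ⟨v, hv, e⟩ := h
  exact (mul_mem_cancel_left (inv_mem hv)).mp (hV ⟨by simp [e], S.mul_mem (S.inv_mem (hS hv)) hu⟩)

theorem map_inf' (hV : f.ker ⊓ S ≤ V) (hU : U ≤ S) (hS : V ≤ S) : (U ⊓ V).map f = U.map f ⊓ V.map f :=
  le_antisymm (map_inf_le _ _ _) (by
    rintro _ ⟨⟨u, hu, rfl⟩, h⟩
    exact ⟨u, ⟨hu, mem_of_map hV hS (hU hu) h⟩, rfl⟩)

theorem relIndex_map' (hV : f.ker ⊓ S ≤ V) (hS : V ≤ S) : (V.map f).relIndex (S.map f) = V.relIndex S := by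
  rw [← relIndex_comap, ← inf_relIndex_right, show (V.map f).comap f ⊓ S = V from
    le_antisymm (fun x hx => mem_of_map hV hS hx.2 hx.1) (le_inf (le_comap_map _ _) hS)]

end Map

variable {G : Type*} [Group G] {w : ZMod 4 → ZMod 4 → ZMod 4 → G} {t s : G}

def el (w : ZMod 4 → ZMod 4 → ZMod 4 → G) (t s : G) (m : M) : G :=
  w m.1.1 m.1.2.1 m.1.2.2 * t ^ m.2.1.val * s ^ m.2.2.val

theorem el_w (v : V) : el w t s (v, 0, 0) = w v.1 v.2.1 v.2.2 := by simp [el]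

theorem pow_fin {x : G} (h : x * x = 1) (i j : Fin 2) : x ^ (i + j).val = x ^ i.val * x ^ j.val := by
  rw [← pow_add, Fin.val_add, ← pow_eq_pow_mod _ (by rw [pow_two, h])]

variable (h : Wr w t s)
include h

theorem el_zero : el w t s 0 = 1 := (el_w 0).trans h.one

theorem el_t : el w t s (0, 1, 0) = t := by simp [el, h.one]

theorem el_s : el w t s (0, 0, 1) = s := by simp [el, h.one]

theorem t_w (i : Fin 2) (v : V) :
    t ^ i.val * w v.1 v.2.1 v.2.2 = w (at' i v).1 (at' i v).2.1 (at' i v).2.2 * t ^ i.val := by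
  fin_cases i
  · simp [at']
  · simpa [at'] using mul_inv_eq_iff_eq_mul.1 (h.tw ..)

theorem s_w (i : Fin 2) (v : V) :
    s ^ i.val * w v.1 v.2.1 v.2.2 = w (as' i v).1 (as' i v).2.1 (as' i v).2.2 * s ^ i.val := by
  fin_cases i
  · simp [as']
  · simpa [as'] using mul_inv_eq_iff_eq_mul.1 (h.sw ..)

theorem el_mul (m n : M) : el w t s m * el w t s n = el w t s (mu m n) := by
  have h1 : s ^ m.2.2.val * t ^ n.2.1.val = t ^ n.2.1.val * s ^ m.2.2.val := (show Commute s t from h.st).pow_pow _ _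
  simp only [el, mu, Prod.fst_add, Prod.snd_add, pow_fin h.tt, pow_fin h.ss, ← h.mul]
  rw [mul_assoc (w _ _ _) (w _ _ _), ← mul_assoc (w _ _ _) (t ^ _), ← t_w h]
  simp only [mul_assoc]
  rw [← mul_assoc (s ^ _), s_w h, mul_assoc, ← mul_assoc (s ^ _), h1, mul_assoc]

theorem el_inv (m : M) : (el w t s m)⁻¹ = el w t s (iv m) :=
  inv_eq_of_mul_eq_one_right (by rw [el_mul h, mu_iv, el_zero h])

theorem el_inj : Function.Injective (el w t s) := by
  have k : ∀ m : M, el w t s m * w 1 0 1 = el w t s (at' m.2.1 (as' m.2.2 (1, 0, 1)), 0, 0) * el w t s m := fun m => by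
    rw [show w 1 0 1 = el w t s ((1, 0, 1), 0, 0) from (el_w (1, 0, 1)).symm, el_mul h, el_mul h]
    simp [mu, at', as', add_comm]
  rintro ⟨v, i, j⟩ ⟨v', i', j'⟩ e
  have h1 := k (v, i, j)
  rw [e, k, mul_left_inj, el_w, el_w] at h1
  obtain ⟨e1, e2, e3⟩ := h.inj h1
  obtain ⟨rfl, rfl⟩ := act_inj _ _ _ _ (Prod.ext e1 (Prod.ext e2 e3))
  simp only [el, mul_left_inj] at e
  obtain ⟨e1, e2, e3⟩ := h.inj e
  rw [show v = v' from Prod.ext e1 (Prod.ext e2 e3)]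

theorem w_pow (a b c : ZMod 4) (n : ℕ) : w a b c ^ n = w (n * a) (n * b) (n * c) := by
  induction n with
  | zero => simpa using h.one.symm
  | succ n ih => rw [pow_succ, ih, h.mul]; exact Wr.congr (by push_cast; ring) (by push_cast; ring) (by push_cast; ring)

theorem w_mem {H : Subgroup G} (h1 : w 2 0 0 ∈ H) (h2 : w 0 0 2 ∈ H) (h3 : w 0 1 2 ∈ H) {m : M} (hm : P 0 m) :
    w m.1.1 m.1.2.1 m.1.2.2 ∈ H := by
  have := mul_mem (mul_mem (pow_mem h1 (m.1.1.val / 2)) (pow_mem h2 ((m.1.2.2 - 2 * m.1.2.1).val / 2)))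
    (pow_mem h3 m.1.2.1.val)
  simp only [w_pow h, h.mul] at this
  refine Wr.congr (w := w) ?_ ?_ ?_ ▸ this <;> (clear * - hm; revert m; decide +kernel)

theorem mem_X (ε : ZMod 4) {x : G} :
    x ∈ closure {w 2 0 0, w 0 0 2, w 0 1 2, t * w 0 0 ε, s * w ε 0 0} ↔ ∃ m, P ε m ∧ el w t s m = x := by
  have e1 : el w t s (mu (0, 1, 0) ((0, 0, ε), 0, 0)) = t * w 0 0 ε := by rw [← el_mul h, el_t h, el_w]
  have e2 : el w t s (mu (0, 0, 1) ((ε, 0, 0), 0, 0)) = s * w ε 0 0 := by rw [← el_mul h, el_s h, el_w]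
  constructor
  · intro hx
    induction hx using closure_induction with
    | mem x hx =>
      rcases hx with rfl | rfl | rfl | rfl | rfl
      · exact ⟨_, by clear * -; revert ε; decide +kernel, el_w (2, 0, 0)⟩
      · exact ⟨_, by clear * -; revert ε; decide +kernel, el_w (0, 0, 2)⟩
      · exact ⟨_, by clear * -; revert ε; decide +kernel, el_w (0, 1, 2)⟩
      · exact ⟨_, by clear * -; revert ε; decide +kernel, e1⟩
      · exact ⟨_, by clear * -; revert ε; decide +kernel, e2⟩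
    | one => exact ⟨0, by clear * -; revert ε; decide +kernel, el_zero h⟩
    | mul x y _ _ hx hy =>
      obtain ⟨m, hm, rfl⟩ := hx
      obtain ⟨n, hn, rfl⟩ := hy
      exact ⟨_, P_mu ε m hm n hn, (el_mul h m n).symm⟩
    | inv x _ hx =>
      obtain ⟨m, hm, rfl⟩ := hx
      exact ⟨_, P_iv ε m hm, (el_inv h m).symm⟩
  · rintro ⟨m, hm, rfl⟩
    obtain ⟨hv, e⟩ := P_gen ε m hm
    rw [← e, gen, ← el_mul h, ← el_mul h, el_w]
    refine mul_mem (mul_mem (w_mem h (subset_closure (by simp)) (subset_closure (by simp)) (subset_closure (by simp)) hv) ?_) ?_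
    all_goals split_ifs
    · rw [el_zero h]; exact one_mem _
    · rw [e1]; exact subset_closure (by simp)
    · rw [el_zero h]; exact one_mem _
    · rw [e2]; exact subset_closure (by simp)

theorem mem_X1 {x : G} : x ∈ X1 w t s ↔ ∃ m, P 0 m ∧ el w t s m = x := by
  rw [← mem_X h 0, h.one, mul_one, mul_one]

theorem mem_X2 {x : G} : x ∈ X2 w t s ↔ ∃ m, P 1 m ∧ el w t s m = x := mem_X h 1

theorem mem_inf' {x : G} (hx : x ∈ X1 w t s ⊓ X2 w t s) : ∃ v : V, P 0 (v, 0, 0) ∧ w v.1 v.2.1 v.2.2 = x := by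
  obtain ⟨⟨v, k⟩, hm, rfl⟩ := (mem_X1 h).1 hx.1
  obtain ⟨n, hn, e⟩ := (mem_X2 h).1 hx.2
  obtain rfl := el_inj h e
  obtain rfl : k = 0 := P_and _ hm hn
  exact ⟨v, hm, (el_w v).symm⟩

theorem card_eq {H : Subgroup G} {p : M → Prop} [DecidablePred p] (hH : ∀ x, x ∈ H ↔ ∃ m, p m ∧ el w t s m = x) :
    Nat.card H = (Finset.univ.filter p).card := by
  rw [← Fintype.card_subtype, ← Nat.card_eq_fintype_card]
  exact (Nat.card_congr (Equiv.ofBijective (fun m : {m // p m} => (⟨_, (hH _).2 ⟨m, m.2, rfl⟩⟩ : H))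
    ⟨fun a b e => Subtype.ext (el_inj h (congrArg Subtype.val e)), fun x => by
      obtain ⟨m, hm, e⟩ := (hH _).1 x.2
      exact ⟨⟨m, hm⟩, Subtype.ext e⟩⟩)).symm

end CFG

variable {G : Type*} [Group G] [Finite G] {S : Subgroup G} {z u g e : G}

theorem Wr.mem_i {w : ZMod 4 → ZMod 4 → ZMod 4 → G} {t s : G} (h : Wr w t s) {x : G}
    (hx : x ∈ zpowers (w 0 1 2)) : ∃ k, x = w 0 k (2 * k) := by
  obtain ⟨n, rfl⟩ := mem_powers_iff_mem_zpowers.2 hx
  exact ⟨n, (CFG.w_pow h ..).trans (Wr.congr (by ring) (by ring) (by ring))⟩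

omit [Finite G] in
theorem Wr.i_mem {w : ZMod 4 → ZMod 4 → ZMod 4 → G} {t s : G} (h : Wr w t s) (k : ZMod 4) :
    w 0 k (2 * k) ∈ zpowers (w 0 1 2) := by
  have := pow_mem (mem_zpowers (w 0 1 2)) k.val
  rw [CFG.w_pow h] at this
  simpa [mul_comm] using this

open CFG in
theorem ONK.full {Y : Type*} [Group Y] [Finite Y] {w : ZMod 4 → ZMod 4 → ZMod 4 → G} {t s ρ σ : G}
    (o : ONK S w t s ρ σ) (f : G →* Y) (hf : Function.Surjective f)
    (hk : ∀ x ∈ S, f x = 1 ↔ x ∈ zpowers (w 0 1 2)) :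
    Class2.Full (S.map f) ((X1 w t s).map f) ((X2 w t s).map f) ∧
      (X1 w t s).map f ⊓ (X2 w t s).map f = V2 (f (w 0 0 2)) (f (w 2 0 0)) ∧
      Nat.card ↥((X1 w t s).map f ⊓ (X2 w t s).map f) = 4 ∧
      ((X1 w t s).map f).relIndex (S.map f) = 4 ∧ Nat.card (S.map f) = 64 := by
  have h := o.wr
  have mS : ∀ x, x ∈ S ↔ ∃ m, True ∧ el w t s m = x := fun x => (o.mem x).trans
    ⟨fun ⟨a, b, c, i, j, e⟩ => ⟨((a, b, c), i, j), trivial, e⟩, fun ⟨m, _, e⟩ => ⟨_, _, _, _, _, e⟩⟩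
  have eS : ∀ m, el w t s m ∈ S := fun m => (mS _).2 ⟨m, trivial, rfl⟩
  have wS : ∀ a b c, w a b c ∈ S := fun a b c => el_w (w := w) (t := t) (s := s) (a, b, c) ▸ eS _
  have l1 : X1 w t s ≤ S := fun x hx => by obtain ⟨m, -, rfl⟩ := (mem_X1 h).1 hx; exact eS m
  have l2 : X2 w t s ≤ S := fun x hx => by obtain ⟨m, -, rfl⟩ := (mem_X2 h).1 hx; exact eS m
  have k0 : f.ker ⊓ S ≤ zpowers (w 0 1 2) := fun x hx => (hk x hx.2).1 hx.1
  have k1 : f.ker ⊓ S ≤ X1 w t s := k0.trans (zpowers_le.2 (subset_closure (by simp)))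
  have k2 : f.ker ⊓ S ≤ X2 w t s := k0.trans (zpowers_le.2 (subset_closure (by simp)))
  have e1 := map_inf' k2 l1 l2
  have sq : ∀ ε m, P ε m → f (el w t s m) * f (el w t s m) = 1 := fun ε m hm => by
    obtain ⟨k, e⟩ := P_sq ε m hm
    rw [← map_mul, el_mul h, hk _ (eS _), e, el_w]
    exact h.i_mem k
  have nz : ∀ a c, f (w a 0 c) = 1 → a = 0 ∧ c = 0 := fun a c e => by
    obtain ⟨k, e⟩ := h.mem_i ((hk _ (wS ..)).1 e)
    obtain ⟨e1, rfl, e3⟩ := h.inj e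
    exact ⟨e1, by simpa using e3⟩
  have cS : Nat.card S = 256 := by rw [card_eq h mS]; simp
  have nn : ∀ {X : Subgroup G} {r : G}, X ≤ S → w 0 0 2 ∈ X → r ∈ normalizer (X : Set G) →
      (∀ a b c, r * w 0 0 2 * r⁻¹ ≠ w a b c) → ¬ normalizer ((X.map f : Subgroup Y) : Set Y) ≤
        normalizer (((X1 w t s).map f ⊓ (X2 w t s).map f : Subgroup Y) : Set Y) := fun {X r} hX hu hr hn hc => by
    have h1 := (mem_normalizer_iff.1 (hc (le_normalizer_map f (mem_map_of_mem f hr))) (f (w 0 0 2))).1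
      (e1 ▸ mem_map_of_mem f (mem_inf.2 ⟨subset_closure (by simp), subset_closure (by simp)⟩))
    rw [← e1, ← map_inv, ← map_mul, ← map_mul] at h1
    obtain ⟨v, -, e⟩ := mem_inf' h (mem_of_map (le_inf k1 k2) (inf_le_left.trans l1)
      (hX ((mem_normalizer_iff.1 hr _).1 hu)) h1)
    exact hn _ _ _ e.symm
  have e2 : (X1 w t s).map f ⊓ (X2 w t s).map f = V2 (f (w 0 0 2)) (f (w 2 0 0)) := by
    rw [← e1]
    refine le_antisymm (map_le_iff_le_comap.2 fun x hx => ?_) (V2_le.2 ⟨mem_map_of_mem f ?_, mem_map_of_mem f ?_⟩)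
    · obtain ⟨v, hv, rfl⟩ := mem_inf' h hx
      refine w_mem h (H := comap f _) (r_V2 _ _) (l_V2 _ _) ?_ hv
      rw [mem_comap, (hk _ (wS ..)).2 (mem_zpowers _)]
      exact one_mem _
    all_goals exact mem_inf.2 ⟨subset_closure (by simp), subset_closure (by simp)⟩
  refine ⟨⟨⟨IsSylowIn.of_sylow_top (o.syl.toSylowTop.mapSurjective hf), ?_, ?_, ?_, ?_, fun hc => ?_, fun hc => ?_⟩,
    nn l1 (subset_closure (by simp)) o.ρX o.ρu, nn l2 (subset_closure (by simp)) o.σX o.σu⟩, e2, ?_, ?_, ?_⟩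
  · rw [← Subgroup.map_sup]
    refine congrArg _ (le_antisymm (sup_le l1 l2) fun x hx => ?_)
    obtain ⟨a, b, c, i, j, rfl⟩ := (o.mem x).1 hx
    have ht : t ∈ X1 w t s ⊔ X2 w t s := mem_sup_left (subset_closure (by simp))
    have hs : s ∈ X1 w t s ⊔ X2 w t s := mem_sup_left (subset_closure (by simp))
    have h1 : w 1 0 0 ∈ X1 w t s ⊔ X2 w t s :=
      (mul_mem_cancel_left hs).1 (mem_sup_right (subset_closure (by simp)))
    have h2 : w 0 0 1 ∈ X1 w t s ⊔ X2 w t s :=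
      (mul_mem_cancel_left ht).1 (mem_sup_right (subset_closure (by simp)))
    have h3 : w 0 1 2 ∈ X1 w t s ⊔ X2 w t s := mem_sup_left (subset_closure (by simp))
    have := mul_mem (mul_mem (pow_mem h1 a.val) (pow_mem h2 (c - 2 * b).val)) (pow_mem h3 b.val)
    simp only [w_pow h, h.mul] at this
    rw [Wr.congr (w := w) (a' := a) (b' := b) (c' := c) (by simp) (by simp) (by simp [mul_comm])] at this
    exact mul_mem (mul_mem this (pow_mem ht _)) (pow_mem hs _)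
  · rintro _ ⟨x, hx, rfl⟩
    obtain ⟨m, hm, rfl⟩ := (mem_X1 h).1 hx
    exact sq 0 m hm
  · rintro _ ⟨x, hx, rfl⟩
    obtain ⟨m, hm, rfl⟩ := (mem_X2 h).1 hx
    exact sq 1 m hm
  · rintro _ ⟨x, hx, rfl⟩ hs
    obtain ⟨m, -, rfl⟩ := (mS x).1 hx
    rw [← map_mul, el_mul h, hk _ (eS _)] at hs
    obtain ⟨k, e⟩ := h.mem_i hs
    exact (P_or m k (el_inj h (e.trans (el_w (0, k, 2 * k)).symm))).imp
      (fun hm => mem_map_of_mem f ((mem_X1 h).2 ⟨m, hm, rfl⟩)) fun hm => mem_map_of_mem f ((mem_X2 h).2 ⟨m, hm, rfl⟩)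
  · obtain ⟨m, hm, e⟩ := (mem_X2 h).1 (mem_of_map k2 l2 (eS (0, 1, 0))
      (hc (mem_map_of_mem f ((mem_X1 h).2 ⟨_, by decide, rfl⟩))))
    obtain rfl := el_inj h e
    exact absurd hm (by decide)
  · obtain ⟨m, hm, e⟩ := (mem_X1 h).1 (mem_of_map k1 l1 (eS ((0, 0, 1), 1, 0))
      (hc (mem_map_of_mem f ((mem_X2 h).2 ⟨_, by decide, rfl⟩))))
    obtain rfl := el_inj h e
    exact absurd hm (by decide)
  · rw [e2]
    refine card_V2 ?_ ?_ ?_ (fun e => absurd (nz _ _ e) (by decide)) (fun e => absurd (nz _ _ e) (by decide)) fun e => ?_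
    · rw [← map_mul, h.mul]; exact (congrArg f h.one).trans (map_one f)
    · rw [← map_mul, h.mul]; exact (congrArg f h.one).trans (map_one f)
    · rw [← map_mul, ← map_mul, h.mul, h.mul]; rfl
    · rw [← mul_inv_eq_one, ← map_inv, ← map_mul, h.inv, h.mul] at e
      exact absurd (nz _ _ e) (by decide)
  · have h1 := card_mul_relIndex' l1
    rw [cS, card_eq h fun _ => mem_X1 h, P_card] at h1
    rw [relIndex_map' k1 l1]; omega
  · have l0 : zpowers (w 0 1 2) ≤ S := zpowers_le.2 (wS ..)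
    have h1 := card_mul_relIndex' l0
    have h2 : orderOf (w 0 1 2) = 2 ^ (1 + 1) := orderOf_eq_prime_pow
      (fun e => by rw [w_pow h, ← h.one] at e; exact absurd (h.inj e) (by decide))
      (by rw [w_pow h]; exact h.one)
    rw [cS, Nat.card_zpowers, h2, ← relIndex_map' k0 l0,
      (Subgroup.map_eq_bot_iff _).2 fun x hx => (hk x (l0 hx)).2 hx, relIndex_bot_left] at h1
    omega

end CfsgLib.Rk3B
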