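import Cfsg.Agent.Lib.Rk3.Cf
import Cfsg.Agent.Lib.Rk3.Basic
import Cfsg.Agent.Lib.PD.Tools

/-!
Simple groups of 2-rank three: definitions.  Throughout `T = S ⊓ Cx u`, `U = V2 z u`, `A = V3 z u e`,
`C = S ⊓ Cx u ⊓ Cx e`.
-/

set_option autoImplicit false

namespace CfsgLib.Rk3B

open Subgroup Cfsg CfsgLib.Tech CfsgLib.W2 CfsgLib.Rk3

variable {G : Type*} [Group G]

/-- The standing hypotheses on `G`. -/
structure Hy (G : Type*) [Group G] : Prop where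
  rk : PRankLE 2 3 G
  zst : ∀ z : G, ¬ IsIsolatedInvolution z
  idx : ∀ M : Subgroup G, M.index ≠ 2
  gold : ∀ S A : Subgroup G, IsSylowIn 2 S ⊤ → A ≠ ⊥ → El A → ¬ IsStronglyClosed A S
  con : ∀ S V : Subgroup G, IsSylowIn 2 S ⊤ → V ≤ S → El V →
    ∃ E ≤ S, El E ∧ V ≤ E ∧ Nat.card E = 8

/-- `E = Ω₁Z(S)⟨y⟩` has type `f`; `w` is the centre of the transvections induced by `N_S(E)`. -/
structure ZT (S : Subgroup G) (w f y : G) : Prop where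
  four : Nat.card (Zc S) = 4
  wZ : w ∈ Zc S
  fZ : f ∈ Zc S
  w1 : w ≠ 1
  f1 : f ≠ 1
  fw : f ≠ w
  yS : y ∈ S
  yy : y * y = 1
  yZ : y ∉ Zc S
  cm : ∀ s ∈ S, s * y * s⁻¹ * y ∈ Zc S → s * y * s⁻¹ = y ∨ s * y * s⁻¹ = w * y
  ex : ∃ s ∈ S, s * y * s⁻¹ = w * y
  rot : ∃ θ : G, θ * f * θ⁻¹ = f ∧ θ * w * θ⁻¹ = y ∧ θ * y * θ⁻¹ = w * y

/-- The global picture when `Ω₁Z(S)` is a four-group. -/
structure ZW (S : Subgroup G) (w : G) : Prop where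
  syl : IsSylowIn 2 S ⊤
  four : Nat.card (Zc S) = 4
  wZ : w ∈ Zc S
  w1 : w ≠ 1
  nof : ∀ a ∈ Zc S, ∀ b ∈ Zc S, IsConj a b → a = b
  ex : ∀ v ∈ S, v ∉ Zc S → ∀ x ∈ Zc S, IsConj x v → ∃ f y, ZT S w f y ∧ (v = y ∨ v = f * y)
  both : ∀ f ∈ Zc S, f ≠ 1 → f ≠ w → ∃ y, ZT S w f y
  dih : ∀ f y f' y', ZT S w f y → ZT S w f' y' → y ≠ y' → w ∈ zpowers (y * y')

/-- The new case in the proof that `R = C_S(u)` is normal in `S`. -/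
structure CB (S R : Subgroup G) (z u n s y : G) : Prop where
  c : MX R z u
  syl : IsSylowIn 2 S ⊤
  Sz : S ≤ Cx z
  RS : R ≤ S
  uq : ∀ a ∈ S, a * a = 1 → a ≠ 1 → S ≤ Cx a → a = z
  h2 : R.relIndex (S ⊓ normalizer (R : Set G)) = 2
  hn : n ∈ normalizer (R : Set G)
  nz : n * z * n⁻¹ ≠ z
  sS : s ∈ S
  sP : s ∉ normalizer (R : Set G)
  sN : s ∈ normalizer ((S ⊓ normalizer (R : Set G) : Subgroup G) : Set G)
  ss : s * s ∈ normalizer (R : Set G)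
  yY : y ∈ Zc R
  yR : s * y * s⁻¹ ∉ R

/-- The end configuration of the new case. -/
structure CD (S : Subgroup G) (z u f : G) : Prop where
  syl : IsSylowIn 2 S ⊤
  zS : z ∈ S
  uS : u ∈ S
  fS : f ∈ S
  zz : z * z = 1
  uu : u * u = 1
  ff : f * f = 1
  z1 : z ≠ 1
  uz : u ≠ z
  cj : IsConj z u
  zc : ∀ s ∈ S, s * z = z * s
  uq : ∀ a ∈ S, a * a = 1 → a ≠ 1 → S ≤ Cx a → a = z
  fU : f ∉ V2 z u
  om : ∀ a ∈ S, a * a = 1 → a * u = u * a → a ∈ V3 z u f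
  cen : ∀ r ∈ S, r * u = u * r → r * f = f * r
  cen' : ∀ r ∈ S, r * u * r⁻¹ = z * u → r * f = f * r
  cl : ∀ a ∈ V3 z u f, IsConj z a → a ∈ V2 z u
  sq : ∀ r ∈ S, r * u = u * r → r * r * (r * r) = 1 → r * r = 1 ∨ r * r = f
  ext : ∃ t ∈ S, t * u * t⁻¹ = z * u
  exs : ∃ s ∈ S, s * u * s⁻¹ ∉ V2 z u ∧ s * u * s⁻¹ * f = f * (s * u * s⁻¹)

/-- `A = ⟨z, u, e⟩` is normal in `S`; the 3-element `g` fixes `e`, and `g ^ 3` centralises `T`. -/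
structure Q (S : Subgroup G) (z u g e : G) : Prop where
  c : Cfg S z u g
  n : NE S z u e
  ge : g * e * g⁻¹ = e
  g3 : ∀ t ∈ S ⊓ Cx u, g ^ 3 * t = t * g ^ 3
  odd : ∃ k : ℕ, g ^ 3 ^ k = 1

/-- The case that the conjugates of `z` in `T` lie in `U`. -/
structure BB (S : Subgroup G) (z u g e s : G) : Prop where
  q : Q S z u g e
  pure : ∀ t ∈ S ⊓ Cx u, IsConj z t → t ∈ V2 z u
  sS : s ∈ S
  ss : s * s = 1
  su : s * u * s⁻¹ = z * u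
  sz : IsConj z s
  sg : s * g * s⁻¹ = g⁻¹
  se : s * e = e * s

/-- `c ∈ C₁`, where `C₁ / A = Ω₁(Z(T / A) ∩ C / A)` -/
def In1 (S : Subgroup G) (z u e c : G) : Prop :=
  c ∈ S ⊓ Cx u ⊓ Cx e ∧ c * c ∈ V3 z u e ∧ ∀ t ∈ S ⊓ Cx u, t * c * t⁻¹ * c⁻¹ ∈ V3 z u e

/-- `t` is a conjugate of `z` in `T \ C` -/
def JJ (S : Subgroup G) (z u e t : G) : Prop := t ∈ S ⊓ Cx u ∧ t * e ≠ e * t ∧ IsConj z t

/-- `C > A` -/
def Bg (S : Subgroup G) (z u e : G) : Prop := ∃ c ∈ S ⊓ Cx u ⊓ Cx e, c ∉ V3 z u e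

/-- Hypotheses for the study of the conjugates of `z` in `T \ C`. -/
structure JH (S : Subgroup G) (z u g e : G) : Prop where
  q : Q S z u g e
  big : Bg S z u e
  pu : ∀ a ∈ V3 z u e, a ∉ V2 z u → IsConj z a → ∃ n : G, n * z * n⁻¹ = z ∧ n * a * n⁻¹ = u
  wc : ∀ t, JJ S z u e t → ∀ x : G, cj x (V3 z u t) ≠ V3 z u e

/-- Local facts on a conjugate `t` of `z` in `T \ C`. -/
structure LC (S : Subgroup G) (z u e t f : G) : Prop where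
  fU : f ∈ V2 z u
  f1 : f ≠ 1
  sq : ∀ r ∈ S ⊓ Cx u, r * t = t * r → r * r * (r * r) = 1 → r * r = 1 ∨ r * r = f
  cf : ∃ c, In1 S z u e c ∧ c * c = f ∧ c * t = t * c
  inj : ∀ c c', In1 S z u e c → In1 S z u e c' → c * c = c' * c' → c⁻¹ * c' ∈ V3 z u e
  ab : ∀ c c', In1 S z u e c → In1 S z u e c' → c * c' = c' * c
  oth : ∀ c, In1 S z u e c → c * c ≠ 1 → c * c ≠ f →
    cm c t ∈ V2 z u ∧ cm c t ≠ 1 ∧ cm c t ≠ cm t e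
  mv : ∃ x : G, x * t * x⁻¹ = z ∧ x * f * x⁻¹ ∈ V2 z u ∧
    (∀ r ∈ S ⊓ Cx u, r * t = t * r → x * r * x⁻¹ ∈ S ⊓ Cx u) ∧
    ∀ a ∈ V2 z u, a ≠ 1 → a ≠ f → JJ S z u e (x * a * x⁻¹)

/-- `ρ` normalises `E = ⟨z, u, t⟩` and `X = N_S(⟨z, t⟩)`, fixes `z` and maps `U` to `⟨z, t⟩`. -/
structure BX0 (S : Subgroup G) (z u g e t ρ : G) : Prop where
  j : JH S z u g e
  tJ : JJ S z u e t
  lc : LC S z u e t z
  ρz : ρ * z = z * ρ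
  ρX : ρ ∈ normalizer ((S ⊓ normalizer ((V2 z t : Subgroup G) : Set G) : Subgroup G) : Set G)
  ρE : ρ ∈ normalizer ((V3 z u t : Subgroup G) : Set G)
  ρu : ρ * u * ρ⁻¹ = t ∨ ρ * u * ρ⁻¹ = z * t

/-- `BX0` with an involution `s ∈ S \ T` of `ρ A ρ⁻¹` inverting `g`. -/
structure BX (S : Subgroup G) (z u g e t s ρ : G) : Prop extends BX0 S z u g e t ρ where
  te : cm t e = z
  sS : s ∈ S
  ss : s * s = 1
  su : s * u * s⁻¹ = z * u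
  st : s * t = t * s
  se : s * e = e * s
  sg : s * g * s⁻¹ = g⁻¹
  ρs : ρ⁻¹ * s * ρ * e ∈ V2 z u
  ys : ∀ y ∈ S ⊓ Cx u ⊓ Cx e, y * t = t * y → s * y * s⁻¹ = y ∨ s * y * s⁻¹ = z * y
  c0 : ∃ c, In1 S z u e c ∧ c * c = z ∧ c * t = t * c ∧ c * s = s * c

/-- `N(C)` induces `GL₃(2)` on `A`. -/
def GLP (S : Subgroup G) (z u e : G) : Prop :=
  ∀ a ∈ V3 z u e, ∀ b ∈ V3 z u e, ∀ c ∈ V3 z u e, a ≠ 1 → b ≠ 1 → b ≠ a → c ∉ V2 a b →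
    ∃ n ∈ normalizer ((S ⊓ Cx u ⊓ Cx e : Subgroup G) : Set G),
      n * z * n⁻¹ = a ∧ n * u * n⁻¹ = b ∧ n * e * n⁻¹ = c

/-- `4³` extended by two commuting involutions. -/
structure Wr (w : ZMod 4 → ZMod 4 → ZMod 4 → G) (t s : G) : Prop where
  mul : ∀ a b c a' b' c', w a b c * w a' b' c' = w (a + a') (b + b') (c + c')
  inj : ∀ {a b c a' b' c'}, w a b c = w a' b' c' → a = a' ∧ b = b' ∧ c = c'
  tw : ∀ a b c, t * w a b c * t⁻¹ = w (-a) (a + b) (-c)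
  sw : ∀ a b c, s * w a b c * s⁻¹ = w (-a - 2 * c) (c - b) c
  tt : t * t = 1
  ss : s * s = 1
  st : s * t = t * s

/-- `X₁ = ⟨A, i, t, s⟩` -/
abbrev X1 (w : ZMod 4 → ZMod 4 → ZMod 4 → G) (t s : G) : Subgroup G :=
  closure {w 2 0 0, w 0 0 2, w 0 1 2, t, s}

/-- `X₂ = ⟨A, i, t j₁, s h⟩` -/
abbrev X2 (w : ZMod 4 → ZMod 4 → ZMod 4 → G) (t s : G) : Subgroup G :=
  closure {w 2 0 0, w 0 0 2, w 0 1 2, t * w 0 0 1, s * w 1 0 0}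

/-- The Sylow 2-subgroup of type O'Nan, with `z = w 0 2 0`, `u = w 0 0 2`, `e = w 2 0 0`, `i = w 0 1 2`. -/
structure ONG (S : Subgroup G) (z u g e : G) (w : ZMod 4 → ZMod 4 → ZMod 4 → G) (t s r ρ : G) : Prop where
  q : Q S z u g e
  gl : GLP S z u e
  wr : Wr w t s
  ez : w 0 2 0 = z
  eu : w 0 0 2 = u
  ee : w 2 0 0 = e
  rw : ∀ a b c, r * w a b c * r⁻¹ = w (-a) (-b) (a + c)
  rr : r * r = 1
  rt : r * t * r = t * w 2 1 1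
  rs : r * s * r = t * s * w 3 1 1
  memC : ∀ x, x ∈ S ⊓ Cx u ⊓ Cx e ↔ ∃ a b c, w a b c = x
  mem : ∀ x, x ∈ S ↔ ∃ a b c, ∃ i j k : Fin 2, w a b c * t ^ i.val * s ^ j.val * r ^ k.val = x
  tz : IsConj z t
  ρi : ρ * w 0 1 2 = w 0 1 2 * ρ
  ρX : ρ ∈ normalizer ((X1 w t s : Subgroup G) : Set G)
  ρu : ρ * u * ρ⁻¹ = u * t ∨ ρ * u * ρ⁻¹ = z * u * t

/-- The centraliser of `i = w 0 1 2` as an abstract group. -/
structure ONK (M : Subgroup G) (w : ZMod 4 → ZMod 4 → ZMod 4 → G) (t s ρ σ : G) : Prop where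
  syl : IsSylowIn 2 M ⊤
  wr : Wr w t s
  mem : ∀ x, x ∈ M ↔ ∃ a b c, ∃ i j : Fin 2, w a b c * t ^ i.val * s ^ j.val = x
  cen : ∀ x, x * w 0 1 2 = w 0 1 2 * x
  ρX : ρ ∈ normalizer ((X1 w t s : Subgroup G) : Set G)
  ρu : ∀ a b c, ρ * w 0 0 2 * ρ⁻¹ ≠ w a b c
  σX : σ ∈ normalizer ((X2 w t s : Subgroup G) : Set G)
  σu : ∀ a b c, σ * w 0 0 2 * σ⁻¹ ≠ w a b c

/-- the conclusion in the cases of Sylow type `G₂(q)` -/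
def ConG2 (G : Type*) [Group G] : Prop :=
  (∃ (F : Type) (_ : Field F) (_ : Fintype F), Odd (Fintype.card F) ∧
    Nonempty (G ≃* ↥(Cfsg.Lie.chevG2.group F))) ∨
  (∃ (K : Type) (_ : Field K) (_ : Fintype K) (q : ℕ), Odd q ∧ Fintype.card K = q ^ 3 ∧
    Nonempty (G ≃* ↥(Cfsg.Lie.twistedD4 K q))) ∨ Cfsg.Spor.IsoM12 G

theorem Wr.one {w : ZMod 4 → ZMod 4 → ZMod 4 → G} {t s : G} (h : Wr w t s) : w 0 0 0 = 1 := by
  simpa using h.mul 0 0 0 0 0 0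

theorem Wr.inv {w : ZMod 4 → ZMod 4 → ZMod 4 → G} {t s : G} (h : Wr w t s) (a b c : ZMod 4) :
    (w a b c)⁻¹ = w (-a) (-b) (-c) :=
  inv_eq_of_mul_eq_one_right (by rw [h.mul, ← h.one]; simp)

omit [Group G] in
theorem Wr.congr {w : ZMod 4 → ZMod 4 → ZMod 4 → G} {a b c a' b' c' : ZMod 4} (h1 : a = a') (h2 : b = b')
    (h3 : c = c') : w a b c = w a' b' c' := by rw [h1, h2, h3]

/-- Thompson transfer with a cyclic quotient -/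
theorem thompson [Finite G] (idx : ∀ M : Subgroup G, M.index ≠ 2) {S M : Subgroup G} (hS : IsSylowIn 2 S ⊤)
    (h1 : M ≤ S) (h2 : S ≤ normalizer (M : Set G)) {p : G} (hp : p ∈ S) (hc : S ≤ M ⊔ zpowers p) {v : G}
    (vv : v * v = 1) (v1 : v ≠ 1) : ∃ g : G, g * v * g⁻¹ ∈ M :=
  PD.thompson_cyclic idx ((BG.Sylow_iff' Nat.prime_two).2 ⟨le_top, hS.pgroup, hS.not_dvd⟩) ⟨h1, h2⟩ hp hc (ord_two vv v1)

end CfsgLib.Rk3B
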