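import Cfsg.Agent.Lib.Rk3B.Onb
import Cfsg.Agent.Lib.Rk3B.Gl
import Cfsg.Agent.Lib.ZStar.Main
import Cfsg.Agent.Lib.Gold.Base
import Cfsg.Agent.Lib.Transfer.NormalComplement

/-!
`⟨i⟩` is weakly closed in `C(z)`  (plans/RK3B.md, package ISO)
-/

set_option autoImplicit false
set_option linter.unusedSectionVars false

namespace CfsgLib.Rk3B

open Subgroup Cfsg CfsgLib.Tech CfsgLib.W2 CfsgLib.Rk3

namespace Iso

theorem core_lift {H : Type*} [Group H] [Finite H] {z : H} (zc : z ∈ center H) (zz : z * z = 1)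
    [(zpowers z).Normal] {x : H}
    (hx : QuotientGroup.mk' (zpowers z) x ∈ pPrimeCore 2 (H ⧸ zpowers z)) :
    x ∈ pPrimeCore 2 H ∨ x * z ∈ pPrimeCore 2 H := by
  have : Fact (Nat.Prime 2) := ⟨Nat.prime_two⟩
  set f := QuotientGroup.mk' (zpowers z) with hf
  set K := (pPrimeCore 2 (H ⧸ zpowers z)).comap f with hK
  have hn : (pPrimeCore 2 (H ⧸ zpowers z)).Normal := by
    have := Core.pPrimeCore_characteristic 2 (H ⧸ zpowers z)
    infer_instance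
  have hKn : K.Normal := hn.comap f
  have h1 : HasNormalPComplement 2 K := by
    refine Transfer.hasNormalPComplement_of_ker_le_center (f.subgroupComap (pPrimeCore 2 _)) ?_
      (Transfer.hasNormalPComplement_of_coprime (Core.coprime_card_pPrimeCore 2 _))
    intro y hy
    have h2 : (y : H) ∈ f.ker := congrArg Subtype.val hy
    rw [hf, QuotientGroup.ker_mk'] at h2
    rw [mem_center_iff]
    intro y'
    exact Subtype.ext (mem_center_iff.1 (zpowers_le.2 zc h2) y')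
  have key : ∀ y ∈ K, ∀ m : ℕ, Odd m → y ^ m = 1 → y ∈ pPrimeCore 2 H := fun y hy m hm h => by
    refine Core.map_pPrimeCore_le_of_normal (p := 2) K ⟨⟨y, hy⟩, ?_, rfl⟩
    rw [← Transfer.pResidual_eq_pPrimeCore h1]
    refine Transfer.mem_pResidual_of_coprime (Nat.Coprime.coprime_dvd_left
      (orderOf_dvd_of_pow_eq_one (n := m) (Subtype.ext h)) ?_)
    exact (Nat.coprime_two_right).2 hm
  have fz : f z = 1 := (QuotientGroup.eq_one_iff _).2 (mem_zpowers z)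
  have hm : Odd (Nat.card (pPrimeCore 2 (H ⧸ zpowers z))) := Core.odd_card_oddCore _
  obtain ⟨m, hm'⟩ : ∃ m, Nat.card (pPrimeCore 2 (H ⧸ zpowers z)) = m := ⟨_, rfl⟩
  have h3 : x ^ m ∈ zpowers z := by
    refine (QuotientGroup.eq_one_iff _).1 ?_
    have := congrArg Subtype.val (pow_card_eq_one' (x := (⟨f x, hx⟩ : pPrimeCore 2 (H ⧸ zpowers z))))
    rw [hm'] at this
    change f (x ^ m) = 1
    rw [map_pow]; exact this
  rw [hm'] at hm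
  have h4 : x ^ m = 1 ∨ x ^ m = z := by
    obtain ⟨n, hn⟩ := h3
    have z2 : z ^ (2 : ℤ) = 1 := by rw [zpow_two, zz]
    rcases Int.even_or_odd' n with ⟨l, rfl | rfl⟩
    · exact .inl (by rw [← hn]; simp only; rw [zpow_mul, z2, one_zpow])
    · exact .inr (by rw [← hn]; simp only; rw [zpow_add_one, zpow_mul, z2, one_zpow, one_mul])
  rcases h4 with h | h
  · exact .inl (key x hx m hm h)
  · refine .inr (key _ (mul_mem hx (show f z ∈ pPrimeCore 2 _ from fz ▸ one_mem _)) m hm ?_)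
    obtain ⟨l, rfl⟩ := hm
    rw [Commute.mul_pow (mem_center_iff.1 zc x), h, pow_succ, pow_mul, sq, zz, one_pow, one_mul, zz]

theorem zs_abs {H : Type*} [Group H] [Finite H] {z i : H} (zc : z ∈ center H) (zz : z * z = 1) (z1 : z ≠ 1)
    (ii : i * i = z)
    (iso : ∀ k : H, k * i * k⁻¹ * i * (k * i * k⁻¹)⁻¹ * i⁻¹ ∈ zpowers z → k * i * k⁻¹ = i ∨ k * i * k⁻¹ = i⁻¹)
    (k : H) : ∃ d ∈ pPrimeCore 2 H, k * i * k⁻¹ = d * i ∨ k * i * k⁻¹ = d * i⁻¹ := by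
  have hZn : (zpowers z).Normal := ⟨fun a ha g => by
    rw [mem_center_iff.1 (zpowers_le.2 zc ha) g]; simpa using ha⟩
  set f := QuotientGroup.mk' (zpowers z) with hf
  have fz : f z = 1 := (QuotientGroup.eq_one_iff _).2 (mem_zpowers z)
  have f2 : f i * f i = 1 := by rw [← map_mul, ii, fz]
  have hI : IsIsolatedInvolution (f i) := by
    refine ⟨ord_two f2 fun h => z1 ?_, fun g hg => ?_⟩
    · obtain ⟨n, hn⟩ := (QuotientGroup.eq_one_iff (N := zpowers z) i).1 h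
      rw [← ii, ← hn]
      simp only
      rw [← Commute.mul_zpow (Commute.refl z), zz, one_zpow]
    · obtain ⟨g, rfl⟩ := QuotientGroup.mk'_surjective (zpowers z) g
      rw [← hf] at hg ⊢
      have := iso g ((QuotientGroup.eq_one_iff (N := zpowers z) _).1 (by
        change f _ = 1
        simp only [map_mul, map_inv]
        rw [← hg.eq]; group))
      rw [← map_inv, ← map_mul, ← map_mul]
      rcases this with h | h
      · rw [h]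
      · rw [h, map_inv]; exact inv_eq_of_mul_eq_one_right f2
  have h := ZStar.zstar hI (f k)
  rw [← map_inv, ← map_inv, ← map_mul, ← map_mul, ← map_mul] at h
  rcases core_lift zc zz h with h | h
  · exact ⟨_, inv_mem h, .inl (by group)⟩
  · refine ⟨_, inv_mem h, .inr ?_⟩
    have e1 : z⁻¹ = z := inv_eq_of_mul_eq_one_right zz
    rw [mul_inv_rev, e1, ← mem_center_iff.1 zc, ← ii]; group

set_option synthInstance.maxSize 2048 in
theorem d_fix : ∀ a b c : ZMod 4, -a = a → a + b = b → c - b = b → b + b = 2 →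
    (a = 0 ∧ b = 1 ∧ c = 2) ∨ (a = -0 ∧ b = -1 ∧ c = -2) := by decide

theorem d_half : ∀ a : ZMod 4, a + a = 0 → ∃ x, x + x = a := by decide

end Iso

open Iso

variable {G : Type*} [Group G] [Finite G] {S : Subgroup G} {z u g e : G}

namespace ONG

variable {w : ZMod 4 → ZMod 4 → ZMod 4 → G} {t s r ρ : G} (o : ONG S z u g e w t s r ρ)
include o

theorem iso_ii : w 0 1 2 * w 0 1 2 = z := by rw [o.wr.mul, ← o.ez]; rfl

theorem iso_wC (a b c : ZMod 4) : w a b c ∈ S ⊓ Cx u ⊓ Cx e := (o.memC _).2 ⟨a, b, c, rfl⟩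

theorem iso_tM : t ∈ S ⊓ Cx (w 0 1 2) := o.memM.2 ⟨0, 0, 0, 1, 0, by simp [o.wr.one]⟩

theorem iso_sM : s ∈ S ⊓ Cx (w 0 1 2) := o.memM.2 ⟨0, 0, 0, 0, 1, by simp [o.wr.one]⟩

theorem iso_ab {a b : G} (ha : a ∈ S ⊓ Cx u ⊓ Cx e) (hb : b ∈ S ⊓ Cx u ⊓ Cx e) : a * b = b * a := by
  obtain ⟨x, y, v, rfl⟩ := (o.memC _).1 ha
  obtain ⟨x', y', v', rfl⟩ := (o.memC _).1 hb
  rw [o.wr.mul, o.wr.mul, add_comm x, add_comm y, add_comm v]

theorem iso_cz {m : G} (hm : m ∈ Cx (w 0 1 2)) : m * z = z * m := by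
  rw [← o.iso_ii, ← mul_assoc, mem_Cx.1 hm, mul_assoc, mem_Cx.1 hm, mul_assoc]

/-- an element of `N(C)` acting trivially on `⟨z⟩` and `A / ⟨z⟩` centralises `i` -/
theorem iso_cen {n : G} (hn : n ∈ normalizer ((S ⊓ Cx u ⊓ Cx e : Subgroup G) : Set G)) (nz : n * z = z * n)
    (nu : n * u * n⁻¹ = u ∨ n * u * n⁻¹ = z * u) (ne : n * e * n⁻¹ = e ∨ n * e * n⁻¹ = z * e) :
    n ∈ Cx (w 0 1 2) := by
  have key : ∀ d ∈ S ⊓ Cx (w 0 1 2), d * u * d⁻¹ = n * u * n⁻¹ → d * e * d⁻¹ = n * e * n⁻¹ →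
      n ∈ Cx (w 0 1 2) := fun d hd h1 h2 => by
    have hdn : d ∈ normalizer ((S ⊓ Cx u ⊓ Cx e : Subgroup G) : Set G) :=
      mem_normalizer_of_forall fun _ => o.q.conj_C hd.1
    have := o.cenC (mul_mem (inv_mem hdn) hn)
      (mem_Cx.1 (mul_mem (inv_mem (o.q.Sz hd.1)) (mem_Cx.2 nz)))
      (mem_Cx.1 (mem_Cx'.2 (by
        rw [show d⁻¹ * n * u * (d⁻¹ * n)⁻¹ = d⁻¹ * (n * u * n⁻¹) * d by group, ← h1]; group)))
      (mem_Cx.1 (mem_Cx'.2 (by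
        rw [show d⁻¹ * n * e * (d⁻¹ * n)⁻¹ = d⁻¹ * (n * e * n⁻¹) * d by group, ← h2]; group)))
      _ (o.iso_wC 0 1 2)
    simpa using mul_mem hd.2 (mem_Cx.2 this)
  have tu : t * u * t⁻¹ = u := by rw [← o.eu, o.wr.tw]; rfl
  have te : t * e * t⁻¹ = z * e := by rw [← o.ee, ← o.ez, o.wr.tw, o.wr.mul]; rfl
  have su : s * u * s⁻¹ = z * u := by rw [← o.eu, ← o.ez, o.wr.sw, o.wr.mul]; rfl
  have se : s * e * s⁻¹ = e := by rw [← o.ee, o.wr.sw]; rfl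
  have tz : t * z * t⁻¹ = z := mem_Cx'.1 (o.q.Sz o.iso_tM.1)
  rcases nu with nu | nu <;> rcases ne with ne | ne
  · exact key 1 (one_mem _) (by rw [nu]; group) (by rw [ne]; group)
  · exact key t o.iso_tM (by rw [nu, tu]) (by rw [ne, te])
  · exact key s o.iso_sM (by rw [nu, su]) (by rw [ne, se])
  · refine key (t * s) (mul_mem o.iso_tM o.iso_sM) ?_ ?_
    · rw [nu, show t * s * u * (t * s)⁻¹ = t * (s * u * s⁻¹) * t⁻¹ by group, su, ← conj_mul, tz, tu]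
    · rw [ne, show t * s * e * (t * s)⁻¹ = t * (s * e * s⁻¹) * t⁻¹ by group, se, te]

theorem iso_C (rk : PRankLE 2 3 G) {k : G} (hk : k ∈ Cx z) (h : k * w 0 1 2 * k⁻¹ ∈ S ⊓ Cx u ⊓ Cx e) :
    k * w 0 1 2 * k⁻¹ = w 0 1 2 ∨ k * w 0 1 2 * k⁻¹ = (w 0 1 2)⁻¹ := by
  obtain ⟨m, hm, hle⟩ := o.sylM.exists_cj_le
    (isPGroup_cj k⁻¹ (o.q.c.syl.pgroup.to_le (inf_le_left.trans inf_le_left : S ⊓ Cx u ⊓ Cx e ≤ S)))
    (cj_le_iff.2 fun c hc => by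
      have := (conj_mem_Cx (g := k⁻¹)).2 (mem_Cx.2 (o.iso_ab hc h))
      rwa [show k⁻¹ * (k * w 0 1 2 * k⁻¹) * k⁻¹⁻¹ = w 0 1 2 by group] at this)
  rw [← Tech.cj_mul, cj_le_iff] at hle
  have ni : m * k⁻¹ * (k * w 0 1 2 * k⁻¹) * (m * k⁻¹)⁻¹ = w 0 1 2 := by
    rw [← mem_Cx'.1 hm]; nth_rewrite 1 [mem_Cx'.1 hm]; group
  have nz : m * k⁻¹ ∈ Cx z := mul_mem (mem_Cx.2 (o.iso_cz hm)) (inv_mem hk)
  have i2 : k * w 0 1 2 * k⁻¹ * (k * w 0 1 2 * k⁻¹) = z := by rw [conj_mul, o.iso_ii]; exact mem_Cx'.1 hk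
  generalize m * k⁻¹ = n at hle ni nz
  generalize k * w 0 1 2 * k⁻¹ = i' at h ni i2
  have hA : ∀ a ∈ V3 z u e, n * a * n⁻¹ ∈ V3 z u e := fun a ha => by
    obtain ⟨x, y, v, rfl⟩ := (o.memC _).1 (o.q.A_le ha)
    have p2 := o.q.n.elE o.q.c _ ha
    have p3 := p2
    rw [o.wr.mul, ← o.wr.one] at p3
    obtain ⟨b1, b2, b3⟩ := o.wr.inj p3
    obtain ⟨x, rfl⟩ := d_half x b1
    obtain ⟨y, rfl⟩ := d_half y b2
    obtain ⟨v, rfl⟩ := d_half v b3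
    rw [← o.wr.mul] at p2 ⊢
    have := o.q.sq rk (E := cj n (V3 z u e)) (cj_le_iff.2 fun a ha => (hle a (o.q.A_le ha)).1)
      ((o.q.n.elE o.q.c).cj n) (by rw [card_cj, o.q.n.cardE o.q.c]) (hle _ (o.iso_wC x y v)).1
      (by
        rintro _ ⟨a, ha, rfl⟩
        change n * w x y v * n⁻¹ * (n * a * n⁻¹) = n * a * n⁻¹ * (n * w x y v * n⁻¹)
        rw [conj_mul, conj_mul, o.q.cA (o.iso_wC x y v) ha])
      (by rw [conj_mul, conj_mul, p2]; simp)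
    rw [conj_mul] at this
    exact this.1
  have nA : n ∈ normalizer ((V3 z u e : Subgroup G) : Set G) := mem_normalizer_of_forall hA
  have nC : n ∈ normalizer ((S ⊓ Cx u ⊓ Cx e : Subgroup G) : Set G) :=
    mem_normalizer_of_forall fun c hc => by
      have h1 : c ∈ Cx z ⊓ Cx u ⊓ Cx e := ⟨⟨o.q.Sz hc.1.1, hc.1.2⟩, hc.2⟩
      have h2 := conj_mem_of_mem_normalizer (o.q.nA_le nA) h1
      exact ⟨⟨(hle c hc).1, h2.1.2⟩, h2.2⟩
  have key : ∀ d ∈ S ⊓ Cx (w 0 1 2), d * d = 1 → d * i' * d⁻¹ = i' := fun d hd dd => by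
    have vS : w 0 1 2 * d ∈ S := mul_mem (o.iso_wC 0 1 2).1.1 hd.1
    have vv : w 0 1 2 * d * (w 0 1 2 * d) = z := by
      rw [mul_assoc, ← mul_assoc d, mem_Cx.1 hd.2, mul_assoc, dd, mul_one, o.iso_ii]
    have di : d * i' = i' * d ↔ w 0 1 2 * d ∈ Cx i' := by
      rw [Subgroup.mul_mem_cancel_left _ (mem_Cx.2 (o.iso_ab (o.iso_wC 0 1 2) h)), mem_Cx]
    rw [mul_inv_eq_iff_eq_mul, di]
    generalize w 0 1 2 * d = v at vS vv
    have act : ∀ a ∈ V3 z u e, n * v * n⁻¹ * a * (n * v * n⁻¹)⁻¹ = a ∨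
        n * v * n⁻¹ * a * (n * v * n⁻¹)⁻¹ = z * a := fun a ha => by
      rw [show n * v * n⁻¹ * a * (n * v * n⁻¹)⁻¹ = n * (v * (n⁻¹ * a * n) * v⁻¹) * n⁻¹ by group]
      rcases o.sqz vS vv _ (conj_mem_of_mem_normalizer' nA ha) with h1 | h1
      · exact .inl (by rw [h1]; group)
      · exact .inr (by rw [h1, ← conj_mul, mem_Cx'.1 nz]; group)
    have := o.iso_cen (n := n * v * n⁻¹)
      (mul_mem (mul_mem nC (mem_normalizer_of_forall fun _ => o.q.conj_C vS)) (inv_mem nC))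
      (mem_Cx.1 (mul_mem (mul_mem nz (o.q.Sz vS)) (inv_mem nz)))
      (act u (V2_le_V3 _ _ _ (r_V2 _ _))) (act e (r_V3 _ _ _))
    rwa [← ni, conj_mem_Cx] at this
  have k1 := key t o.iso_tM o.wr.tt
  have k2 := key s o.iso_sM o.wr.ss
  obtain ⟨a, b, c, rfl⟩ := (o.memC _).1 h
  rw [o.wr.tw] at k1
  rw [o.wr.sw] at k2
  rw [o.wr.mul, ← o.ez] at i2
  rw [o.wr.inv]
  exact (d_fix a b c (o.wr.inj k1).1 (o.wr.inj k1).2.1 (o.wr.inj k2).2.1 (o.wr.inj i2).2.1).imp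
    (fun h => Wr.congr h.1 h.2.1 h.2.2) fun h => Wr.congr h.1 h.2.1 h.2.2

theorem iso (rk : PRankLE 2 3 G) {k : G} (hk : k ∈ Cx z) (h : k * w 0 1 2 * k⁻¹ ∈ S) :
    k * w 0 1 2 * k⁻¹ = w 0 1 2 ∨ k * w 0 1 2 * k⁻¹ = (w 0 1 2)⁻¹ := by
  by_cases hC : k * w 0 1 2 * k⁻¹ ∈ S ⊓ Cx u ⊓ Cx e
  · exact o.iso_C rk hk hC
  exfalso
  have i2 : k * w 0 1 2 * k⁻¹ * (k * w 0 1 2 * k⁻¹) = z := by rw [conj_mul, o.iso_ii]; exact mem_Cx'.1 hk
  have zC : z ∈ S ⊓ Cx u ⊓ Cx e := o.ez ▸ o.iso_wC 0 2 0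
  obtain ⟨n, -, n1, n2, n3⟩ := o.q.red rk o.gl h hC (i2 ▸ zC)
  have nz : n ∈ Cx z := mem_Cx.2 (n3 (o.sqz h i2))
  obtain ⟨d, hd, hd'⟩ := o.cls2 n1 n2 (by rw [conj_mul, i2]; exact mem_Cx'.1 nz)
  have ρz : ρ ∈ Cx z := mem_Cx.2 (o.iso_cz (mem_Cx.2 o.ρi))
  have j1 : w 0 0 1 * (w 0 1 2 * t) * (w 0 0 1)⁻¹ = w 0 1 2 * (u * t) := by
    have e1 : t * (w 0 0 1)⁻¹ = w 0 0 1 * t := by
      rw [o.wr.inv, mul_inv_eq_iff_eq_mul.1 (o.wr.tw _ _ _)]; rfl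
    rw [← mul_assoc, mul_assoc _ t, e1, ← mul_assoc, ← mul_assoc, ← o.eu, o.wr.mul, o.wr.mul, o.wr.mul]
    rfl
  have hK : ρ⁻¹ * w 0 0 1 * d * n * k ∈ Cx z :=
    mul_mem (mul_mem (mul_mem (mul_mem (inv_mem ρz) (o.q.Sz (o.iso_wC 0 0 1).1.1)) (o.q.Sz hd.1)) nz) hk
  have hK' : ρ⁻¹ * w 0 0 1 * d * n * k * w 0 1 2 * (ρ⁻¹ * w 0 0 1 * d * n * k)⁻¹ =
      w 0 1 2 * (ρ⁻¹ * (u * t) * ρ) := by
    calc _ = ρ⁻¹ * (w 0 0 1 * (d * (n * (k * w 0 1 2 * k⁻¹) * n⁻¹) * d⁻¹) * (w 0 0 1)⁻¹) * ρ := by group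
      _ = ρ⁻¹ * w 0 1 2 * (u * t) * ρ := by rw [hd', j1]; group
      _ = _ := by rw [(Commute.inv_left (o.ρi : Commute ρ _)).eq]; group
  have fin : ∀ a b c, ρ⁻¹ * (u * t) * ρ = w a b c → w 0 1 2 * w a b c = w 0 1 2 ∨
      w 0 1 2 * w a b c = (w 0 1 2)⁻¹ := fun a b c q => by
    rw [← q, ← hK']
    refine o.iso_C rk hK ?_
    rw [hK', q]
    exact mul_mem (o.iso_wC _ _ _) (o.iso_wC _ _ _)
  rcases o.ρu with q | q
  · have := fin 0 0 2 (by rw [← q, o.eu]; group)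
    rw [o.wr.inv, o.wr.mul] at this
    rcases this with h1 | h1 <;> exact absurd (o.wr.inj h1).2.2 (by decide)
  · have := fin 0 2 2 (by
      have e1 : u * t = ρ * (z * u) * ρ⁻¹ := by
        rw [← conj_mul, q, mem_Cx'.1 ρz, ← mul_assoc, ← mul_assoc, o.q.c.zz, one_mul]
      rw [e1, ← o.ez, ← o.eu, o.wr.mul]
      simp [mul_assoc])
    rw [o.wr.inv, o.wr.mul] at this
    rcases this with h1 | h1 <;> exact absurd (o.wr.inj h1).2.2 (by decide)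

theorem zs (rk : PRankLE 2 3 G) {k : G} (hk : k ∈ Cx z) : ∃ d ∈ PComp.opOf 2 (Cx z),
    k * w 0 1 2 * k⁻¹ = d * w 0 1 2 ∨ k * w 0 1 2 * k⁻¹ = d * (w 0 1 2)⁻¹ := by
  have iS : w 0 1 2 ∈ S := (o.iso_wC 0 1 2).1.1
  have zi : z ∈ zpowers (w 0 1 2) := o.iso_ii ▸ mul_mem (mem_zpowers _) (mem_zpowers _)
  have nI : ∀ {n : G}, n * w 0 1 2 * n⁻¹ ∈ zpowers (w 0 1 2) →
      n ∈ normalizer ((zpowers (w 0 1 2) : Subgroup G) : Set G) := fun {n} hn =>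
    mem_normalizer_of_forall (cj_le_iff.1 (by rw [cj_zpowers]; exact zpowers_le.2 hn))
  have syl : IsSylowIn 2 S (Cx z ⊓ normalizer ((zpowers (w 0 1 2) : Subgroup G) : Set G)) :=
    o.q.c.syl.of_le (fun a ha => ⟨o.q.Sz ha, nI (by
      rcases o.iso rk (o.q.Sz ha) (mul_mem (mul_mem ha iS) (inv_mem ha)) with h | h <;> rw [h]
      exacts [mem_zpowers _, inv_mem (mem_zpowers _)])⟩) le_top
  obtain ⟨d, hd, h⟩ := zs_abs (H := Cx z) (z := ⟨z, mem_Cx.2 rfl⟩) (i := ⟨w 0 1 2, o.q.Sz iS⟩)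
    (mem_center_iff.2 fun x => Subtype.ext (mem_Cx.1 x.2)) (Subtype.ext o.q.c.zz)
    (fun h => o.q.c.z1 (congrArg Subtype.val h)) (Subtype.ext o.iso_ii) (fun x hx => by
      have x1 : (x : G) * w 0 1 2 * (x : G)⁻¹ ∈ Cx z := mul_mem (mul_mem x.2 (o.q.Sz iS)) (inv_mem x.2)
      have x2 : (x : G) * w 0 1 2 * (x : G)⁻¹ ∈ normalizer ((zpowers (w 0 1 2) : Subgroup G) : Set G) := by
        refine nI ?_
        obtain ⟨l, hl⟩ := hx
        have h1 : z ^ l = (x : G) * w 0 1 2 * (x : G)⁻¹ * w 0 1 2 * ((x : G) * w 0 1 2 * (x : G)⁻¹)⁻¹ *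
          (w 0 1 2)⁻¹ := congrArg Subtype.val hl
        have := mul_mem (zpow_mem zi l) (mem_zpowers (w 0 1 2))
        rwa [h1, inv_mul_cancel_right] at this
      obtain ⟨m, hm, hle⟩ := syl.exists_cj_le (Q := zpowers ((x : G) * w 0 1 2 * (x : G)⁻¹))
        (by rw [← cj_zpowers]; exact isPGroup_cj _ (o.q.c.syl.pgroup.to_le (zpowers_le.2 iS)))
        (zpowers_le.2 ⟨x1, x2⟩)
      have h1 := cj_le_iff.1 hle _ (mem_zpowers _)
      have h2 : m * ((x : G) * w 0 1 2 * (x : G)⁻¹) * m⁻¹ ∈ zpowers (w 0 1 2) := by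
        rw [show m * ((x : G) * w 0 1 2 * (x : G)⁻¹) * m⁻¹ = m * x * w 0 1 2 * (m * x)⁻¹ by group] at h1 ⊢
        rcases o.iso rk (mul_mem hm.1 x.2) h1 with h | h <;> rw [h]
        exacts [mem_zpowers _, inv_mem (mem_zpowers _)]
      have h3 := conj_mem_of_mem_normalizer' hm.2 h2
      rw [show m⁻¹ * (m * ((x : G) * w 0 1 2 * (x : G)⁻¹) * m⁻¹) * m = (x : G) * w 0 1 2 * (x : G)⁻¹ by group]
        at h3
      exact (o.iso rk x.2 (zpowers_le.2 iS h3)).imp Subtype.ext Subtype.ext) ⟨k, hk⟩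
  exact ⟨d, PComp.mem_opOf_iff.2 hd, h.imp (congrArg Subtype.val) (congrArg Subtype.val)⟩

end ONG

end CfsgLib.Rk3B
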