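import Cfsg.Agent.Lib.Rk3B.C1

/-!
The element `a = t t₁ t₂`  (plans/RK3B.md, package KA)
-/

set_option autoImplicit false

namespace CfsgLib.Rk3B

open Subgroup Cfsg CfsgLib.Tech CfsgLib.W2 CfsgLib.Rk3

variable {G : Type*} [Group G] [Finite G] {S : Subgroup G} {z u g e : G}

namespace KA

omit [Finite G] in
theorem invol (k : ℕ) : ∀ w : G, w ^ 2 ^ k = 1 → w ≠ 1 →
    ∃ j : ℕ, w ^ 2 ^ j ≠ 1 ∧ w ^ 2 ^ j * w ^ 2 ^ j = 1 := by
  induction k with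
  | zero => exact fun w h w1 => absurd (by simpa using h) w1
  | succ k ih =>
    intro w h w1
    by_cases h2 : w * w = 1
    · exact ⟨0, by simpa using w1, by simpa using h2⟩
    · obtain ⟨j, h3⟩ := ih (w * w) (by rw [← sq, ← pow_mul, ← pow_succ', h]) h2
      exact ⟨j + 1, by rwa [← sq, ← pow_mul, ← pow_succ'] at h3⟩

omit [Finite G] in
theorem g2 (q : Q S z u g e) {x : G} (hx : x ∈ S ⊓ Cx u) :
    g⁻¹ * x * g = g * (g * x * g⁻¹) * g⁻¹ := by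
  calc _ = g⁻¹ * (x * g ^ 3) * g⁻¹ * g⁻¹ := by group
    _ = _ := by rw [← q.g3 x hx]; simp [pow_succ, mul_assoc]

omit [Finite G] in
theorem fixA (q : Q S z u g e) {t y : G} (ht : t ∈ S ⊓ Cx u) (te : cm t e = z) (hy : y ∈ V3 z u e)
    (h : t * g * y = y * (t * g)) : y = 1 ∨ y = e * u := by
  have c := q.c
  have a1 : ∀ v ∈ V2 z u, t * g * v * (t * g)⁻¹ = g * v * g⁻¹ := fun v hv => by
    have := c.cU ht (c.cj_g_U ▸ conj_mem_cj.2 hv : g * v * g⁻¹ ∈ V2 z u)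
    calc _ = t * (g * v * g⁻¹) * t⁻¹ := by group
      _ = _ := by rw [this, mul_inv_cancel_right]
  have a2 : t * g * e * (t * g)⁻¹ = z * e := by
    calc _ = t * (g * e * g⁻¹) * t⁻¹ * 1 := by group
      _ = _ := by rw [q.ge, ← q.n.ee, ← mul_assoc, ← te]
  replace h : t * g * y * (t * g)⁻¹ = y := by rw [h, mul_inv_cancel_right]
  rcases (q.n.mem_E c).1 hy with hy | hy
  · rw [a1 y hy] at h
    rcases c.mem_U.1 hy with rfl | rfl | rfl | rfl
    · exact Or.inl rfl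
    · exact absurd (c.gz.symm.trans h) c.uz
    · exact absurd (c.gu.symm.trans h) c.zu_ne_u
    · exact absurd (c.gzu.symm.trans h).symm c.zu_ne_z
  · have a3 : g * (y * e) * g⁻¹ = y * e * z := by
      rw [← a1 _ hy, ← conj_mul, h, a2, mul_assoc, q.n.ez c]
    have a4 : y = y * e * e := by rw [mul_assoc, q.n.ee, mul_one]
    rcases c.mem_U.1 hy with e1 | e1 | e1 | e1 <;> rw [e1] at a3 a4
    · exact absurd (by simpa using a3.symm) c.z1
    · rw [c.gz, c.zz] at a3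
      exact absurd a3 c.u1
    · exact Or.inr (a4.trans q.n.eu.symm)
    · rw [c.gzu, c.zu, mul_assoc, c.zz, mul_one] at a3
      exact absurd a3.symm c.uz

omit [Finite G] in
theorem cmU (q : Q S z u g e) {x : G} (hx : x ∈ V2 z u) : cm x e = 1 :=
  (cm_eq_one q.n.ee).2 (q.c.cU q.n.eT hx).symm

end KA

theorem BX.ka (rk : PRankLE 2 3 G) {t s ρ a : G} (b : BX S z u g e t s ρ)
    (ha : a = t * (g * t * g⁻¹) * (g⁻¹ * t * g)) :
    a ∈ S ⊓ Cx u ⊓ Cx e ∧ t * g * a = a * (t * g) ∧ s * t * a * (s * t)⁻¹ = a⁻¹ ∧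
      ∃ h ∈ zpowers a, h * h = e * u := by
  have q := b.j.q
  have c := q.c
  have j0 := b.tJ
  have j1 := q.jj_g j0
  have j2 := q.jj_g j1
  rw [← KA.g2 q j0.1] at j2
  have m1 : cm (g * t * g⁻¹) e = u := by rw [q.cm_g, b.te, c.gz]
  have m2 : cm (g⁻¹ * t * g) e = z * u := by rw [KA.g2 q j0.1, q.cm_g, m1, c.gu]
  have s1 : s * (g * t * g⁻¹) * s⁻¹ = g⁻¹ * t * g := by
    calc _ = s * g * s⁻¹ * (s * t * s⁻¹) * (s * g * s⁻¹)⁻¹ := by group
      _ = _ := by rw [b.sg, b.st, mul_inv_cancel_right, inv_inv]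
  have s2 : s * (g⁻¹ * t * g) * s⁻¹ = g * t * g⁻¹ := by
    calc _ = (s * g * s⁻¹)⁻¹ * (s * t * s⁻¹) * (s * g * s⁻¹) := by group
      _ = _ := by rw [b.sg, b.st, mul_inv_cancel_right, inv_inv]
  have e12 : g⁻¹ * (g⁻¹ * t * g) * g = g * t * g⁻¹ := by rw [KA.g2 q j0.1]; group
  have gz' : g⁻¹ * z * g = z * u := by
    calc _ = g⁻¹ * (g * (z * u) * g⁻¹) * g := by rw [c.gzu]
      _ = _ := by group
  have aT : a ∈ S ⊓ Cx u := ha ▸ mul_mem (mul_mem j0.1 j1.1) j2.1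
  have ag : t * g * a = a * (t * g) := by
    have a1 : (t * g) ^ 3 = a * g ^ 3 := by
      rw [ha, KA.g2 q j0.1]; simp [pow_succ, mul_assoc]
    have a2 : Commute (t * g) (g ^ 3) :=
      Commute.mul_left (q.g3 t j0.1).symm ((Commute.refl g).pow_right 3)
    rw [eq_mul_inv_of_mul_eq a1.symm]
    exact (((Commute.refl _).pow_right 3).mul_right a2.inv_right).eq
  obtain ⟨t1, h1⟩ : ∃ t1, t1 = g * t * g⁻¹ := ⟨_, rfl⟩
  obtain ⟨t2, h2⟩ : ∃ t2, t2 = g⁻¹ * t * g := ⟨_, rfl⟩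
  rw [← h1] at ha j1 m1 s1 s2 e12
  rw [← h2] at ha j2 m2 s1 s2 e12
  obtain ⟨tt0, -, -⟩ := q.jj_sq j0
  obtain ⟨tt1, n1, -⟩ := q.jj_sq j1
  obtain ⟨tt2, n2, -⟩ := q.jj_sq j2
  have i0 := inv_eq_of_mul_eq_one_right tt0
  have i1 := inv_eq_of_mul_eq_one_right tt1
  have i2 := inv_eq_of_mul_eq_one_right tt2
  have aC : a ∈ S ⊓ Cx u ⊓ Cx e := ⟨aT, mem_Cx.2 ((cm_eq_one q.n.ee).1 (by
    rw [ha, q.n.cm_mul c (mul_mem j0.1 j1.1) j2.1, q.n.cm_mul c j0.1 j1.1, b.te, m1, m2]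
    exact c.elU _ (mul_mem (l_V2 _ _) (r_V2 _ _))))⟩
  have nA : a ∉ V3 z u e := fun hA => by
    have a1 : t * t1 = a * t2 := by rw [ha, mul_assoc _ t2, tt2, mul_one]
    rcases KA.fixA q j0.1 b.te hA ag with e1 | e1
    · rw [e1, one_mul] at a1
      have a2 : t1 * t = t2 := by rw [← i2, ← a1, mul_inv_rev, i0, i1]
      rcases e16 rk c.zz c.uu tt0 tt1 c.zu (c.zc _ j0.1.1) (mem_Cx.1 j0.1.2) (c.zc _ j1.1.1)
        (mem_Cx.1 j1.1.2) (a2.trans a1.symm) c.z1 c.u1 c.uz (q.jj_sq j0).2.1 with h | h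
      · exact n1 h
      · exact n2 (a2 ▸ h)
    have zU : z * u ∈ V2 z u := mul_mem (l_V2 _ _) (r_V2 _ _)
    have a2 : t1 * t * t1 = t * (z * u) := by
      have b1 : t2 * e * t2 = z * u * e := by
        rw [← m2, cm, i2, mul_assoc _ e e, q.n.ee, mul_one]
      have b2 : t * t1 * (t * t1) = z * u := by
        calc _ = e * (u * t2) * e * u * t2 := by rw [a1, e1]; simp only [mul_assoc]
          _ = e * t2 * (u * e * u) * t2 := by rw [← mem_Cx.1 j2.1.2]; simp only [mul_assoc]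
          _ = e * (t2 * e * t2) := by
            rw [← q.n.eu, mul_assoc e u u, c.uu, mul_one]; simp only [mul_assoc]
          _ = _ := by rw [b1, ← c.cU q.n.eT zU, ← mul_assoc, q.n.ee, one_mul]
      rw [← b2, mul_assoc t t1, ← mul_assoc t t, tt0, one_mul, mul_assoc]
    obtain ⟨c0, k0, k1, k2, -⟩ := b.c0
    have cT : c0 ∈ S ⊓ Cx u := k0.1.1
    have l1 := q.in1_g k0
    have l2 := q.in1_g l1
    rw [← KA.g2 q cT] at l2
    have p1 : g * c0 * g⁻¹ * (g * c0 * g⁻¹) = u := by rw [conj_mul, k1, c.gz]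
    have p2 : g⁻¹ * c0 * g * (g⁻¹ * c0 * g) = z * u := by
      rw [← gz', ← k1]; simp only [mul_assoc, mul_inv_cancel_left]
    obtain ⟨x1, x2, x3⟩ := b.lc.oth _ l1 (p1 ▸ c.u1) (p1 ▸ c.uz)
    obtain ⟨y1, y2, y3⟩ := b.lc.oth _ l2 (p2 ▸ c.zu_ne_one) (p2 ▸ c.zu_ne_z)
    rw [b.te] at x3 y3
    have r1 : cm c0 t1 = g * cm (g⁻¹ * c0 * g) t * g⁻¹ := by rw [h1]; simp only [cm]; group
    have r2 : g * cm c0 t2 * g⁻¹ = cm (g * c0 * g⁻¹) t := by rw [h2]; simp only [cm]; group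
    have r3 : cm (g⁻¹ * c0 * g) t1 = g⁻¹ * cm c0 t2 * g := by rw [← e12]; simp only [cm]; group
    have u1 : cm c0 t1 ∈ V2 z u := r1 ▸ (c.cj_g_U ▸ conj_mem_cj.2 y1 :)
    have u2 : cm c0 t2 ∈ V2 z u := conj_mem_cj.1 (c.cj_g_U.symm ▸ r2.symm ▸ x1 :
      g * cm c0 t2 * g⁻¹ ∈ cj g (V2 z u))
    have r4 : cm c0 t1 * cm c0 t2 = 1 := by
      have d1 : c0 * t1 * c0⁻¹ = cm c0 t1 * t1 := by rw [cm, mul_assoc _ t1 t1, tt1, mul_one]
      have d2 : c0 * t2 * c0⁻¹ = cm c0 t2 * t2 := by rw [cm, mul_assoc _ t2 t2, tt2, mul_one]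
      have d3 : c0 * a * c0⁻¹ = a := by rw [q.cA k0.1 hA, mul_inv_cancel_right]
      rw [ha, ← conj_mul, ← conj_mul, k2, mul_inv_cancel_right, d1, d2] at d3
      generalize cm c0 t1 = x at u1 d3
      generalize cm c0 t2 = y at u2 d3
      have d4 : x * (t1 * y) = t1 := by simpa [← mul_assoc] using (by simpa [mul_assoc] using d3 :)
      rwa [c.cU j1.1 u2, ← mul_assoc, mul_eq_right] at d4
    have r5 : cm c0 t2 = z ∧ cm (g⁻¹ * c0 * g) t = z * u := by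
      have d1 : cm c0 t1 = cm c0 t2 := by
        rw [eq_inv_of_mul_eq_one_left r4, inv_eq_of_mul_eq_one_right (c.elU _ u2)]
      rw [← d1, r1] at r2 ⊢
      rcases c.mem_U.1 y1 with e2 | e2 | e2 | e2
      · exact absurd e2 y2
      · exact absurd e2 y3
      · rw [e2, c.gu, c.gzu] at r2
        exact absurd r2.symm x3
      · exact ⟨by rw [e2, c.gzu], e2⟩
    rw [r5.1, gz'] at r3
    obtain ⟨-, r6⟩ := r5
    generalize g⁻¹ * c0 * g = c2 at l2 p2 r3 r6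
    have c2T : c2 ∈ S ⊓ Cx u := l2.1.1
    have vv : ∀ x : G, x⁻¹ = x → cm c2 x = z * u → x * c2 * x = c2⁻¹ := fun x hx h => by
      have : x * c2⁻¹ * x = c2 :=
        mul_left_cancel (a := c2) (by rw [p2, ← h]; simp only [cm, mul_assoc])
      have := congrArg Inv.inv this
      rwa [mul_inv_rev, mul_inv_rev, hx, inv_inv, ← mul_assoc] at this
    have v0 := vv t i0 r6
    have v1 := vv t1 i1 r3
    have m3 : cm (t * c2) e = z := by
      rw [q.n.cm_mul c j0.1 c2T, b.te, (cm_eq_one q.n.ee).2 (mem_Cx.1 l2.1.2), mul_one]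
    have w1 := mul_mem j0.1 c2T
    rcases e16 rk c.zz c.uu tt1 (t := t * c2) (by rw [← mul_assoc, v0, inv_mul_cancel]) c.zu
      (c.zc _ j1.1.1) (mem_Cx.1 j1.1.2) (c.zc _ w1.1) (mem_Cx.1 w1.2) (by
        calc t * c2 * t1 = t * (z * u) * c2⁻¹ * t1 := by rw [← p2]; group
          _ = t1 * t * (t1 * t1) * c2 * (t1 * t1) := by rw [← a2, ← v1]; simp only [mul_assoc]
          _ = _ := by rw [tt1]; group) c.z1 c.u1 c.uz n1 with h | h
    · exact c.z1 (m3.symm.trans (KA.cmU q h))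
    · have := KA.cmU q h
      rw [q.n.cm_mul c w1 j1.1, m3, m1] at this
      exact c.zu_ne_one this
  refine ⟨aC, ag, ?_, ?_⟩
  · calc _ = s * (t * t) * s⁻¹ * (s * t1 * s⁻¹) * (s * t2 * s⁻¹) * (s * t * s⁻¹)⁻¹ := by
          rw [ha]; group
      _ = _ := by
          rw [tt0, s1, s2, b.st, mul_inv_cancel_right, ha, mul_inv_rev, mul_inv_rev, i1, i2]
          simp [mul_assoc]
  · obtain ⟨k, hk⟩ := c.syl.pgroup ⟨_, mul_mem aT.1 aT.1⟩
    obtain ⟨j, h3, h4⟩ := KA.invol k (a * a) (congrArg Subtype.val hk) fun e => nA (q.omC rk aC e)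
    refine ⟨a ^ 2 ^ j, pow_mem (mem_zpowers a) _, ?_⟩
    rw [← (Commute.refl a).mul_pow]
    exact (KA.fixA q j0.1 b.te (q.omC rk (pow_mem (mul_mem aC aC) _) h4)
      ((Commute.mul_right ag ag).pow_right _).eq).resolve_left h3

end CfsgLib.Rk3B
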