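import Cfsg.Agent.Lib.Rk3B.Defs
import Cfsg.Agent.Lib.Class2.Four
import Cfsg.Agent.Lib.Gold.All

/-!
Groups with Sylow 2-subgroups of type `L₃(4)`  (plans/RK3B.md, package L34)
-/

set_option autoImplicit false

namespace CfsgLib.Rk3B

open Subgroup Cfsg CfsgLib.Tech CfsgLib.W2 CfsgLib.Rk3

variable {G : Type*} [Group G] [Finite G] {S : Subgroup G} {z u g e : G}

omit [Finite G] in
theorem l34_one {d v : G} (hd : Odd (orderOf d)) (w : G) (e1 : d * w * d⁻¹ * w⁻¹ = v) (e2 : d * v = v * d)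
    (vv : v * v = 1) : d * w = w * d := by
  have h := Class2.pow_conj_eq (d := d) (u := v) (w := w) (by rw [← e1]; group) e2 (orderOf d)
  obtain ⟨k, hk⟩ := hd
  rw [pow_orderOf_eq_one, hk, pow_succ, pow_mul, pow_two, vv, one_pow, one_mul, one_mul, inv_one, mul_one] at h
  have h2 : v = 1 := by simpa using h
  rw [h2, mul_inv_eq_one, mul_inv_eq_iff_eq_mul] at e1
  exact e1

theorem l34_two {H K : Subgroup G} (h : H ≤ K) {x : G} (hx : x ∈ K) (hx' : x ∉ H) :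
    2 * Nat.card H ≤ Nat.card K := by
  have h1 := card_mul_relIndex' h
  have h2 : H.relIndex K ≠ 1 := fun h' => hx' (relIndex_eq_one.1 h' hx)
  have h3 : H.relIndex K ≠ 0 := index_ne_zero_of_finite
  rw [← h1, mul_comm]
  exact Nat.mul_le_mul_left _ (by omega)

omit [Finite G] in
theorem l34_star {X A : Subgroup G} [hn : X.Normal] (eA : ∀ a ∈ A, a * a = 1)
    (cA : ∀ x ∈ X, (∀ a ∈ A, x * a = a * x) → x ∈ A) {d : G} (hd : Odd (orderOf d))
    (hA : ∀ a ∈ A, d * a = a * d) {n : G} (hX : n ∈ X) (hN : n ∈ normalizer (A : Set G)) : d * n = n * d := by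
  have h1 : d * n * d⁻¹ * n⁻¹ ∈ A := by
    refine cA _ (mul_mem (hn.conj_mem _ hX d) (inv_mem hX)) fun a ha => ?_
    have h2 := hA _ ((mem_normalizer_iff''.1 hN a).1 ha)
    have h3 := hA a ha
    calc d * n * d⁻¹ * n⁻¹ * a = d * n * d⁻¹ * (n⁻¹ * a * n * d) * d⁻¹ * n⁻¹ := by group
      _ = d * a * (n * d⁻¹ * n⁻¹) := by rw [← h2]; group
      _ = _ := by rw [h3]; group
  exact l34_one hd n rfl (hA _ h1) (eA _ h1)

theorem l34_odd {X A B : Subgroup G} [hn : X.Normal] (h : Class2.Cfg S A B) (hSX : S ≤ X)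
    (h4 : Nat.card ↥(A ⊓ B) = 4) (h16 : Nat.card A = 16)
    (cA : ∀ x ∈ X, (∀ a ∈ A, x * a = a * x) → x ∈ A) (cB : ∀ x ∈ X, (∀ a ∈ B, x * a = a * x) → x ∈ B)
    (cZ : ∀ y ∈ A ⊓ B, y ≠ 1 → ∀ x ∈ X, x * y = y * x → x ∈ normalizer (S : Set G))
    (top : ∀ H : Subgroup G, X ⊓ normalizer (A : Set G) ≤ H → X ⊓ normalizer (B : Set G) ≤ H → X ≤ H)
    (cX : centralizer (X : Set G) = ⊥) (D : Subgroup G) (hD : Odd (Nat.card D))
    (hc : A ≤ normalizer (D : Set G) ∨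
      (A ⊓ B ≤ normalizer (D : Set G) ∧ ∃ c ∈ S, c * c ≠ 1 ∧ c ∈ normalizer (D : Set G))) : D = ⊥ := by
  have od : ∀ d ∈ D, Odd (orderOf d) := fun d hd => hD.of_dvd_nat (D.orderOf_dvd_natCard hd)
  have hZ : A ⊓ B ≤ normalizer (D : Set G) := hc.elim inf_le_left.trans And.left
  have dis : ∀ d ∈ D, d ∈ normalizer (S : Set G) → ∀ s ∈ S, s ∈ normalizer (D : Set G) → d * s = s * d := by
    intro d hd hS s hs hN
    have h1 : d * s * d⁻¹ * s⁻¹ ∈ S := mul_mem ((mem_normalizer_iff.1 hS s).1 hs) (inv_mem hs)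
    have h2 : d * s * d⁻¹ * s⁻¹ ∈ D := by
      have := mul_mem hd ((mem_normalizer_iff.1 hN _).1 (inv_mem hd))
      rwa [← mul_assoc, ← mul_assoc] at this
    obtain ⟨k, hk⟩ := (IsPGroup.iff_orderOf.1 h.two) ⟨_, h1⟩
    rw [Subgroup.orderOf_mk] at hk
    have h3 := od _ h2
    rw [hk] at h3
    have h4 : k = 0 := by
      by_contra h4
      exact Nat.not_odd_iff_even.2 (Nat.even_pow.2 ⟨even_two, h4⟩) h3
    rw [h4, pow_zero, orderOf_eq_one_iff, mul_inv_eq_one, mul_inv_eq_iff_eq_mul] at hk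
    exact hk
  have nS : ∀ y ∈ A ⊓ B, y ≠ 1 → ∀ d : G, d * y = y * d → d ∈ normalizer (S : Set G) := by
    intro y hy y1 d hd
    have key : ∀ s ∈ S, s * s = 1 → d * s * d⁻¹ ∈ S := fun s hs ss => by
      have h1 : d * s * d⁻¹ ∈ normalizer (S : Set G) := cZ y hy y1 _ (hn.conj_mem _ (hSX hs) d) (by
        have h2 := h.comm_of_mem_inf hy hs
        have h3 : d⁻¹ * y = y * d⁻¹ := (show Commute d y from hd).inv_left
        rw [mul_assoc, h3, ← mul_assoc, mul_assoc d, h2, ← mul_assoc, hd]; group)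
      obtain ⟨m, hm, h2⟩ := h.exists_odd_pow_mem h1
      exact Class2.mem_of_sq_of_odd_pow hm h2 (by rw [Class2.conj_sq ss]; exact one_mem _)
    refine mem_normalizer_fintype fun s hs => ?_
    obtain ⟨a, ha, b, hb, rfl⟩ := h.exists_mul hs
    rw [← conj_mul]
    exact mul_mem (key a (h.leA ha) (h.eA a ha)) (key b (h.leB hb) (h.eB b hb))
  have cz : D ≤ centralizer ((A ⊓ B : Subgroup G) : Set G) :=
    Gold.le_of_cent1 (E := A ⊓ B) (fun y hy => h.eA y hy.1) h4.ge hD hZ fun y hy y1 d hd x hx =>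
      (dis d hd.1 (nS y hy y1 d (mem_centralizer_singleton_iff.1 hd.2)) x (h.leA hx.1) (hZ hx)).symm
  have dS : ∀ d ∈ D, d ∈ normalizer (S : Set G) := fun d hd => by
    obtain ⟨y, hy, y1⟩ := (bot_or_exists_ne_one (A ⊓ B)).resolve_left fun e => by
      rw [e, card_bot] at h4; omega
    exact nS y hy y1 d (cz hd y hy).symm
  have ca : ∀ d ∈ D, ∀ a ∈ A, d * a = a * d := by
    intro d hd
    rcases hc with hc | ⟨-, c, cS, cc, cN⟩
    · exact fun a ha => dis d hd (dS d hd) a (h.leA ha) (hc ha)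
    have h1 := dis d hd (dS d hd) c cS cN
    obtain ⟨a, ha, b, hb, rfl⟩ := h.exists_mul cS
    have nA := fun x => (mem_normalizer_iff.1 (h.NS_le_NA (dS d hd)) x).1
    have nB := fun x => (mem_normalizer_iff.1 (h.NS_le_NB (dS d hd)) x).1
    have aB : a ∉ A ⊓ B := fun h2 => cc (h.eB _ (mul_mem h2.2 hb))
    have h2 : d * a * d⁻¹ * a⁻¹ ∈ A ⊓ B := by
      refine mem_inf.2 ⟨mul_mem (nA a ha) (inv_mem ha), ?_⟩
      have h3 : d * a * d⁻¹ * a⁻¹ = a * (b * (d * b⁻¹ * d⁻¹)) * a⁻¹ := by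
        rw [show d * a * d⁻¹ = d * (a * b) * b⁻¹ * d⁻¹ by group, h1]; group
      rw [h3]
      exact (mem_normalizer_iff.1 (h.le_NB (h.leA ha)) _).1 (mul_mem hb (nB _ (inv_mem hb)))
    have h3 := l34_one (od d hd) a rfl (cz hd _ h2).symm (h.eA _ h2.1)
    let Y := A ⊓ centralizer ({d} : Set G)
    have mY : ∀ x ∈ A, d * x = x * d → x ∈ Y := fun x hx e =>
      mem_inf.2 ⟨hx, mem_centralizer_singleton_iff.2 e.symm⟩
    have h5 := l34_two (show A ⊓ B ≤ Y from fun x hx => mY x hx.1 (cz hd x hx).symm) (mY a ha h3) aB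
    intro x hx
    by_contra hx'
    have xY : x ∉ Y := fun h6 => hx' (mem_centralizer_singleton_iff.1 h6.2).symm
    have h6 := l34_two (show Y ≤ A from inf_le_left) hx xY
    have h7 := card_mul_relIndex' (show Y ≤ A from inf_le_left)
    have h8 : Y.relIndex A = 2 := by
      rw [h16, show Nat.card Y = 8 by omega] at h7; omega
    have h9 : d * x * d⁻¹ ∉ Y := fun h9 => hx' (by
      have := mem_centralizer_singleton_iff.1 h9.2
      rw [inv_mul_cancel_right, ← mul_assoc, ← mul_assoc, eq_mul_inv_iff_mul_eq, mul_assoc, mul_assoc d d,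
        mul_left_cancel_iff] at this
      exact this.symm)
    have h10 : d * x * d⁻¹ * x⁻¹ ∈ Y :=
      ((mul_mem_iff_of_index_two (H := Y.subgroupOf A) h8 (a := ⟨_, nA x hx⟩) (b := ⟨_, inv_mem hx⟩)).2
        (iff_of_false h9 fun h11 => xY (inv_mem_iff.1 h11)))
    exact hx' (l34_one (od d hd) x rfl (mem_centralizer_singleton_iff.1 h10.2).symm (h.eA _ h10.1))
  refine eq_bot_iff.2 fun d hd => cX.le fun x hx => ?_
  have h1 := fun n => l34_star h.eA cA (od d hd) (ca d hd) (n := n)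
  have h2 := fun n => l34_star h.eB cB (od d hd)
    (fun b hb => h1 b (hSX (h.leB hb)) (h.le_NA (h.leB hb))) (n := n)
  exact mem_centralizer_singleton_iff.1 (top (centralizer {d})
    (fun n hn => mem_centralizer_singleton_iff.2 (h1 n hn.1 hn.2).symm)
    (fun n hn => mem_centralizer_singleton_iff.2 (h2 n hn.1 hn.2).symm) hx)

open CfsgLib.Gold CfsgLib.Push CfsgLib.PComp CfsgLib.Gold.Cor in
theorem l34 {A B : Subgroup G} (hf : Class2.Full S A B) (h4 : Nat.card ↥(A ⊓ B) = 4) (hi : A.relIndex S = 4)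
    (h64 : Nat.card S = 64) (hO : pPrimeCore 2 G = ⊥) :
    (∃ (F : Type) (_ : Field F) (_ : Fintype F), Fintype.card F = 4 ∧
      Nonempty (pElementClosure 2 (⊤ : Subgroup G) ≃* Matrix.ProjectiveSpecialLinearGroup (Fin 3) F)) ∧
    IsSimpleGroup (pElementClosure 2 (⊤ : Subgroup G)) ∧
    centralizer ((pElementClosure 2 (⊤ : Subgroup G) : Subgroup G) : Set G) = ⊥ ∧
    ∀ D : Subgroup G, Odd (Nat.card D) → (A ≤ normalizer (D : Set G) ∨
      (A ⊓ B ≤ normalizer (D : Set G) ∧ ∃ c ∈ S, c * c ≠ 1 ∧ c ∈ normalizer (D : Set G))) → D = ⊥ := by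
  have h := hf.cfg
  have hI := CfsgLib.Gold.all
  set X := pElementClosure 2 (⊤ : Subgroup G) with hX
  have hSX : S ≤ X := le_pec_of_isPGroup h.syl.pgroup le_top
  have hn : X.Normal := normalizer_eq_top_iff.mp (top_le_iff.mp (le_normalizer_pec ⊤))
  have h1 := hf.subgroupOf le_rfl
  obtain ⟨-, ⟨K, _, _, ⟨σ⟩⟩, K', _, _, ⟨τ⟩⟩ := h1.cfg.exists_sides h1.nA h1.nB
  have hK : Fintype.card K = 4 := by rw [σ.card_eq'' h1.cfg, relIndex_subgroupOf hSX, hi]
  have hσ : σ.Z₁ = ⊥ := by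
    have h2 := card_mul_relIndex' σ.Z₁_le
    rw [← σ.card_eq', hK, show A.subgroupOf X ⊓ B.subgroupOf X = (A ⊓ B).subgroupOf X from rfl,
      Nat.card_congr (subgroupOfEquivOfLe (inf_le_left.trans (h.leA.trans hSX))).toEquiv, h4] at h2
    exact (card_le_one_iff_eq_bot _).mp (by omega)
  have hτ : τ.Z₁ = ⊥ := card_eq_one.1 (by rw [← σ.card_Z₁ τ h1.cfg, hσ, card_bot])
  have h0 : σ.Z₁ ⊓ τ.Z₁ = ⊥ := by rw [hσ, bot_inf_eq]
  have hs := σ.isSimpleGroup τ h1.cfg hK.ge h0 (by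
    rw [← map_eq_bot_iff_of_injective _ X.subtype_injective]
    exact le_bot_iff.mp (hO ▸ opOf_le_pPrimeCore hn.isSubnormal)) Class2.pec_pec_top
  have c := σ.ch τ h1.cfg hI hK.ge h0
  have cX : centralizer (X : Set G) = ⊥ := by
    refine le_bot_iff.mp (hO ▸ Core.le_pPrimeCore ?_)
    refine Nat.coprime_two_right.mpr (Nat.not_even_iff_odd.mp fun he => ?_)
    obtain ⟨y, hy, y2⟩ := StrEmb.exists_involution_of_even he
    have hyX : y ∈ X := mem_pec_of_pow (mem_top y) (k := 1) (by rw [pow_one, ← y2, pow_orderOf_eq_one])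
    exact StrEmb.ne_one_of_orderOf y2 (congrArg Subtype.val ((Abel2.center_eq_bot_of_simple h1.cfg.not_comm).le
      (mem_center_iff.mpr fun x => Subtype.ext (hy x x.2) : (⟨y, hyX⟩ : X) ∈ center X)))
  refine ⟨?_, hs, cX, l34_odd h hSX h4 ?_ (fun x hx e => ?_) (fun x hx e => ?_) (fun y hy y1 x hx e => ?_)
    (fun H hA hB x hx => ?_) cX⟩
  · obtain ⟨k, _, _, hk, ⟨⟨e⟩⟩ | e⟩ := c.exists_iso hI
    · exact ⟨k, _, _, hk.trans hK, ⟨e⟩⟩
    have h2 := Symp.card_PSp (F := k) (m := 2) one_le_two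
    have h3 := (h.syl.of_le hSX le_top).card_eq_pow
    rw [hk, hK, ← Nat.card_congr e.some.toEquiv] at h2
    norm_num [Finset.prod_range_succ] at h2
    rw [h64, h2] at h3
    exact absurd (Nat.pow_right_injective le_rfl (show 2 ^ 6 = _ from h3)) (by
      rw [show 979200 = 2 ^ 8 * 3825 by norm_num, Nat.factorization_mul (by norm_num) (by norm_num),
        Nat.prime_two.factorization_pow]
      simp only [Finsupp.add_apply, Finsupp.single_eq_same]; omega)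
  · have h2 := card_mul_relIndex' h.leA
    rw [hi, h64] at h2; omega
  · exact c.cent_A (x := ⟨x, hx⟩) fun a ha => Subtype.ext (e a ha).symm
  · exact c.symm.cent_A (x := ⟨x, hx⟩) fun a ha => Subtype.ext (e a ha).symm
  · have yX := hSX (h.leA hy.1)
    have y1' : (⟨y, yX⟩ : X) ≠ 1 := fun e => y1 (congrArg Subtype.val e)
    have h2 : (⟨x, hx⟩ : X) ∈ centralizer ({⟨y, yX⟩} : Set X) := mem_centralizer_singleton_iff.2 (Subtype.ext e)
    have h3 := h1.cfg.inf_le_NS (mem_inf.2 ⟨c.cA ⟨y, yX⟩ (mem_inf.2 ⟨hy.1, hy.2⟩) (by rw [hτ]; exact y1') h2,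
      c.cB ⟨y, yX⟩ (mem_inf.2 ⟨hy.2, hy.1⟩) (by rw [hσ]; exact y1') h2⟩)
    rw [← subgroupOf_normalizer_eq hSX] at h3
    exact h3
  · have h2 : (⊤ : Subgroup X) ≤ H.subgroupOf X := by
      rw [← c.top, ← subgroupOf_normalizer_eq (h.leA.trans hSX), ← subgroupOf_normalizer_eq (h.leB.trans hSX)]
      exact sup_le (fun n hn => hA (mem_inf.2 ⟨n.2, hn⟩)) fun n hn => hB (mem_inf.2 ⟨n.2, hn⟩)
    exact h2 (mem_top (⟨x, hx⟩ : X))

end CfsgLib.Rk3B
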