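import Cfsg.Agent.Lib.Rk3B.Cfg
import Cfsg.Agent.Lib.Rk3B.L34

/-!
The structure of `C(i)`  (plans/RK3B.md, package KL)
-/

set_option autoImplicit false

namespace CfsgLib.Rk3B

open Subgroup Cfsg CfsgLib.Tech CfsgLib.W2 CfsgLib.Rk3
open scoped commutatorElement

universe v

theorem kl_quot {G : Type v} [Group G] [Finite G] {i : G} (hi : ∀ x, x * i = i * x) :
    ∃ (Y : Type v) (_ : Group Y) (_ : Finite Y) (f : G →* Y), Function.Surjective f ∧ pPrimeCore 2 Y = ⊥ ∧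
      ∀ x, f x = 1 ↔ ∃ j ∈ zpowers i, j⁻¹ * x ∈ pPrimeCore 2 G := by
  let p := QuotientGroup.mk' (pPrimeCore 2 G)
  have hc : zpowers (p i) ≤ center _ := zpowers_le.2 (mem_center_iff.2 fun y => by
    obtain ⟨x, rfl⟩ := QuotientGroup.mk'_surjective _ y
    rw [← map_mul, ← map_mul, hi])
  have hn : (zpowers (p i)).Normal := ⟨fun n hn y => by rw [mem_center_iff.1 (hc hn) y, mul_inv_cancel_right]; exact hn⟩
  refine ⟨_, inferInstance, inferInstance, (QuotientGroup.mk' (zpowers (p i))).comp p,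
    (QuotientGroup.mk'_surjective _).comp (QuotientGroup.mk'_surjective _),
    Class2.pPrimeCore_quot (Core.pPrimeCore_quotient_pPrimeCore 2 G)
      (top_le_iff.1 (le_sup_of_le_right fun x _ y hy => (mem_center_iff.1 (hc hy) x).symm)), fun x => ?_⟩
  refine (QuotientGroup.eq_one_iff (N := zpowers (p i)) (p x)).trans ?_
  rw [← MonoidHom.map_zpowers]
  exact ⟨fun ⟨j, hj, e⟩ => ⟨j, hj, QuotientGroup.eq.1 e⟩, fun ⟨j, hj, e⟩ => ⟨j, hj, QuotientGroup.eq.2 e⟩⟩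

variable {G : Type*} [Group G] [Finite G] {S : Subgroup G} {z u g e : G}

namespace ONK

variable {w : ZMod 4 → ZMod 4 → ZMod 4 → G} {t s ρ σ : G} (o : ONK S w t s ρ σ)
include o

omit [Finite G] in
theorem kl_w (a b c : ZMod 4) : w a b c ∈ S := (o.mem _).2 ⟨a, b, c, 0, 0, by simp⟩

omit [Finite G] in
theorem kl_t : t ∈ S := (o.mem _).2 ⟨0, 0, 0, 1, 0, by simp [o.wr.one]⟩

omit [Finite G] in
theorem kl_s : s ∈ S := (o.mem _).2 ⟨0, 0, 0, 0, 1, by simp [o.wr.one]⟩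

theorem kl_ker {Y : Type*} [Group Y] {f : G →* Y}
    (hk : ∀ x, f x = 1 ↔ ∃ j ∈ zpowers (w 0 1 2), j⁻¹ * x ∈ pPrimeCore 2 G) :
    ∀ x ∈ S, f x = 1 ↔ x ∈ zpowers (w 0 1 2) := fun x hx => by
  refine (hk x).trans ⟨fun ⟨j, hj, h⟩ => ?_, fun h => ⟨x, h, by simp⟩⟩
  have h1 : j⁻¹ * x ∈ S := mul_mem (inv_mem (zpowers_le.2 (o.kl_w 0 1 2) hj)) hx
  obtain ⟨k, hk⟩ := (IsPGroup.iff_orderOf.1 o.syl.pgroup) ⟨_, h1⟩
  rw [Subgroup.orderOf_mk] at hk
  have h3 := (Core.odd_card_oddCore G).of_dvd_nat ((pPrimeCore 2 G).orderOf_dvd_natCard h)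
  rw [hk] at h3
  have h4 : k = 0 := by
    by_contra h4
    exact Nat.not_odd_iff_even.2 (Nat.even_pow.2 ⟨even_two, h4⟩) h3
  rw [h4, pow_zero, orderOf_eq_one_iff, inv_mul_eq_one] at hk
  exact hk ▸ hj

theorem od {D : Subgroup G} (hD : Odd (Nat.card D)) (h : X1 w t s ≤ normalizer (D : Set G) ∨
    (w 0 0 2 ∈ normalizer (D : Set G) ∧ w 2 0 0 ∈ normalizer (D : Set G) ∧
      ∃ a b c, w a b c ∈ normalizer (D : Set G) ∧ ¬ (2 * a = 0 ∧ 2 * c = 0))) : D ≤ pPrimeCore 2 G := by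
  obtain ⟨Y, _, _, f, hf, hY, hk⟩ := kl_quot o.cen
  have hk' := o.kl_ker hk
  obtain ⟨h1, h2, h3, h4, h5⟩ := o.full f hf hk'
  have nm : ∀ x ∈ normalizer (D : Set G), f x ∈ normalizer ((D.map f : Subgroup Y) : Set Y) :=
    fun x hx => le_normalizer_map f (mem_map_of_mem f hx)
  have h6 := (l34 h1 h3 h4 h5 hY).2.2.2 (D.map f) (hD.of_dvd_nat (card_map_dvd D f)) (by
    rcases h with h | ⟨ha, hb, a, b, c, hc, hn⟩
    · exact Or.inl (map_le_iff_le_comap.2 fun x hx => nm x (h hx))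
    refine Or.inr ⟨h2 ▸ V2_le.2 ⟨nm _ ha, nm _ hb⟩, _, mem_map_of_mem f (o.kl_w a b c), fun h7 => hn ?_, nm _ hc⟩
    rw [← map_mul, o.wr.mul, hk' _ (o.kl_w ..)] at h7
    obtain ⟨k, h8⟩ := o.wr.mem_i h7
    obtain ⟨e1, e2, e3⟩ := o.wr.inj h8
    subst e2
    refine ⟨by rw [two_mul, e1], ?_⟩
    rw [two_mul, e3]
    clear * -
    revert b; decide)
  intro d hd
  obtain ⟨j, hj, h7⟩ := (hk d).1 (h6.le (mem_map_of_mem f hd))
  obtain ⟨k, rfl⟩ := o.wr.mem_i hj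
  have hc : Commute (w 0 k (2 * k))⁻¹ d :=
    (show Commute (w 0 k (2 * k)) d from
      (show zpowers (w 0 1 2) ≤ Cx d from zpowers_le.2 (mem_Cx.2 (o.cen d).symm)) hj |> mem_Cx.1).inv_left
  have h8 := pow_mem h7 4
  have h9 : (w 0 k (2 * k))⁻¹ ^ 4 = 1 := by
    rw [o.wr.inv, pow_succ, pow_three, o.wr.mul, o.wr.mul, o.wr.mul, ← o.wr.one]
    refine Wr.congr (by simp) ?_ ?_ <;> (clear * -; revert k; decide)
  rw [hc.mul_pow, h9, one_mul] at h8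
  have hm := hD.of_dvd_nat (D.orderOf_dvd_natCard hd)
  refine Class2.mem_of_sq_of_odd_pow hm (by rw [pow_orderOf_eq_one]; exact one_mem _)
    (Class2.mem_of_sq_of_odd_pow hm (by rw [← pow_two, ← pow_mul, mul_comm, pow_mul, pow_orderOf_eq_one, one_pow]; exact one_mem _) ?_)
  rwa [← pow_two d, ← pow_add]

open CfsgLib.PComp in
theorem fn (hO : pPrimeCore 2 G = ⊥) {L : Subgroup G} (hL : L = pElementClosure 2 (⊤ : Subgroup G)) :
    IsQuasisimple L ∧ centralizer (L : Set G) = zpowers (w 0 1 2) ∧ w 0 1 2 ∈ L ∧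
      ∃ (F : Type) (_ : Field F) (_ : Fintype F), Fintype.card F = 4 ∧
        Nonempty (L ⧸ center L ≃* Matrix.ProjectiveSpecialLinearGroup (Fin 3) F) := by
  obtain ⟨Y, _, _, f, hf, hY, hk⟩ := kl_quot o.cen
  obtain ⟨h1, h2, h3, h4, h5⟩ := o.full f hf (o.kl_ker hk)
  obtain ⟨⟨F, _, _, hF, ⟨ε⟩⟩, hs, hc, -⟩ := l34 h1 h3 h4 h5 hY
  have hk' : ∀ x, f x = 1 ↔ x ∈ zpowers (w 0 1 2) := fun x => (hk x).trans
    ⟨fun ⟨j, hj, h⟩ => by rw [hO, mem_bot, inv_mul_eq_one] at h; exact h ▸ hj, fun h => ⟨x, h, by simp⟩⟩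
  set X := pElementClosure 2 (⊤ : Subgroup Y)
  have hm : L.map f = X := by rw [hL, map_pec, map_top_of_surjective f hf]
  have hSL : S ≤ L := hL ▸ le_pec_of_isPGroup o.syl.pgroup le_top
  have ci : ∀ x ∈ zpowers (w 0 1 2), ∀ y, y * x = x * y := fun x hx y =>
    (mem_Cx.1 ((show zpowers (w 0 1 2) ≤ Cx y from zpowers_le.2 (mem_Cx.2 (o.cen y).symm)) hx)).symm
  have cL : centralizer (L : Set G) = zpowers (w 0 1 2) := by
    refine le_antisymm (fun x hx => (hk' x).1 (hc.le fun y hy => ?_)) fun x hx y _ => ci x hx y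
    obtain ⟨y, hy', rfl⟩ := hm.ge hy
    rw [← map_mul, ← map_mul, hx y hy']
  let φ : L →* X := (f.comp L.subtype).codRestrict X fun x => hm.le (mem_map_of_mem f x.2)
  have hφ : Function.Surjective φ := fun y => by
    obtain ⟨x, hx, e⟩ := hm.ge y.2
    exact ⟨⟨x, hx⟩, Subtype.ext e⟩
  have kφ : center L = φ.ker := by
    ext x
    rw [MonoidHom.mem_ker, Subtype.ext_iff, mem_center_iff]
    refine Iff.trans ?_ (hk' x).symm
    rw [← cL]
    exact ⟨fun h y hy => congrArg Subtype.val (h ⟨y, hy⟩), fun h y => Subtype.ext (h y y.2)⟩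
  have E : L ⧸ center L ≃* X :=
    (QuotientGroup.quotientMulEquivOfEq kφ).trans (QuotientGroup.quotientKerEquivOfSurjective φ hφ)
  refine ⟨⟨Subgroup.isPerfect_iff.2 (le_antisymm (commutator_le_self _) fun x hx => ?_), E.isSimpleGroup⟩, cL,
    hSL (o.kl_w ..), F, _, _, hF, ⟨E.trans ε⟩⟩
  have hX : ⁅X, X⁆ = X := Subgroup.isPerfect_iff.1 ⟨Gold.BaseAux.commutator_eq_top hs fun h => by
    have : X = ⊥ := le_bot_iff.1 (hc ▸ le_centralizer X)
    exact h1.cfg.nA ((h1.cfg.leA.trans ((map_mono hSL).trans (hm.trans this).le)).trans bot_le)⟩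
  obtain ⟨y, hy, e⟩ : f x ∈ ⁅L, L⁆.map f := by
    rw [map_commutator, hm, hX]; exact hm.le (mem_map_of_mem f hx)
  have h6 : y⁻¹ * x ∈ zpowers (w 0 1 2) := (hk' _).1 (by rw [map_mul, map_inv, e, inv_mul_cancel])
  have cm : ∀ a ∈ S, ∀ b ∈ S, a * b * a⁻¹ * b⁻¹ ∈ ⁅L, L⁆ := fun a ha b hb =>
    commutator_mem_commutator (hSL ha) (hSL hb)
  have h7 := mul_mem (mul_mem (cm t o.kl_t _ (o.kl_w 1 0 0)) (cm s o.kl_s _ (o.kl_w 1 0 0))) (cm t o.kl_t _ (o.kl_w 0 0 1))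
  simp only [o.wr.tw, o.wr.sw, o.wr.inv, o.wr.mul] at h7
  rw [Wr.congr (w := w) (a' := 0) (b' := 1) (c' := 2) (by decide) (by decide) (by decide)] at h7
  simpa using mul_mem hy (zpowers_le.2 h7 h6)

end ONK

end CfsgLib.Rk3B
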