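import Cfsg.Agent.Lib.Rk3B.Defs
import Cfsg.Agent.Lib.TwoGrp.TriMain
import Mathlib.GroupTheory.Perm.Cycle.Type

/-!
Elements of order nine  (plans/RK3B.md, package L9)
-/

set_option autoImplicit false

namespace CfsgLib.Rk3B

open Subgroup Cfsg CfsgLib.Tech CfsgLib.W2 CfsgLib.Rk3

namespace L9

theorem nine_dvd {α : Type*} [Fintype α] (σ : Equiv.Perm α) {k : ℕ} (h : σ ^ 3 ^ k = 1)
    (h3 : ∀ x, (σ ^ 3) x ≠ x) : 9 ∣ Fintype.card α := by
  classical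
  have hs : σ.support = Finset.univ := Finset.eq_univ_of_forall fun x =>
    Equiv.Perm.mem_support.2 fun e => h3 x (Equiv.Perm.pow_apply_eq_self_of_apply_eq_self e 3)
  rw [← Finset.card_univ, ← hs, ← Equiv.Perm.sum_cycleType]
  refine Multiset.dvd_sum fun n hn => ?_
  obtain ⟨j, -, rfl⟩ := (Nat.dvd_prime_pow Nat.prime_three).1
    ((Equiv.Perm.dvd_of_mem_cycleType hn).trans (orderOf_dvd_of_pow_eq_one h))
  by_contra hj
  have hj1 : j ≤ 1 := by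
    by_contra hj1
    exact hj (pow_dvd_pow 3 (show 2 ≤ j by omega))
  obtain ⟨c, τ, rfl, hd, hc, hn⟩ := Equiv.Perm.mem_cycleType_iff.1 hn
  obtain ⟨x, hx⟩ := hc.nonempty_support
  have c3 : c ^ 3 = 1 := orderOf_dvd_iff_pow_eq_one.1 (by
    rw [hc.orderOf, hn]; exact pow_dvd_pow 3 hj1)
  have τx : τ x = x := (hd x).resolve_left (Equiv.Perm.mem_support.1 hx)
  refine h3 x ?_
  rw [hd.commute.mul_pow, c3, one_mul]
  exact Equiv.Perm.pow_apply_eq_self_of_apply_eq_self τx 3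

variable {T : Type*} [Group T]

theorem ab_fix (hT : IsPGroup 2 T) (hc : ∀ a b : T, a * b = b * a) (θ : MulAut T) {k : ℕ}
    (h : θ ^ 3 ^ k = 1) (hi : ∀ a : T, a * a = 1 → θ a = a) (a : T) : θ a = a := by
  obtain ⟨n, hn⟩ := hT a
  induction n generalizing a with
  | zero => rw [pow_zero, pow_one] at hn; rw [hn, map_one]
  | succ n ih =>
    have h2 : θ (a * a) = a * a := ih _ (by rw [← pow_two, ← pow_mul, ← pow_succ', hn])
    obtain ⟨b, hb⟩ : ∃ b, θ a = b * a := ⟨θ a * a⁻¹, by group⟩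
    have bb : b * b = 1 := by
      rw [map_mul, hb, mul_assoc, ← mul_assoc a, hc a b, mul_assoc, ← mul_assoc b b] at h2
      exact mul_eq_right.1 h2
    have hm : ∀ m : ℕ, (θ ^ m) a = b ^ m * a := fun m => by
      induction m with
      | zero => simp
      | succ m ih => rw [pow_succ', MulAut.mul_apply, ih, map_mul, map_pow, hi b bb, hb, pow_succ, mul_assoc]
    have h3 := hm (3 ^ k)
    rw [h, MulAut.one_apply, eq_comm, mul_eq_right] at h3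
    obtain ⟨m, hm⟩ : Odd (3 ^ k) := Odd.pow (by decide)
    rw [hm, pow_succ, pow_mul, pow_two, bb, one_pow, one_mul] at h3
    rw [hb, h3, one_mul]

theorem fix64 [Finite T] (hT : Nat.card T = 64) (φ : MulAut T) {k : ℕ} (h : φ ^ 3 ^ k = 1) {v : T}
    (v1 : v ≠ 1) (hv : (φ ^ 3) v = v) (a : T) : (φ ^ 3) a = a := by
  classical
  let _ := Fintype.ofFinite T
  let F : Subgroup T := (φ ^ 3).toMonoidHom.eqLocus (MonoidHom.id T)
  have mF : ∀ x, x ∈ F ↔ (φ ^ 3) x = x := fun x => Iff.rfl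
  have hφ : ∀ x, φ x ∉ F ↔ x ∉ F := fun x => by
    rw [mF, mF, ← MulAut.mul_apply, ← pow_succ, pow_succ', MulAut.mul_apply, φ.injective.eq_iff]
  let σ : Equiv.Perm T := MulAut.toPerm T φ
  have hp : ∀ (m : ℕ) (x : T), (σ ^ m) x = (φ ^ m) x := fun m x => by rw [← map_pow]; rfl
  have hσ : ∀ x, σ x ∉ F ↔ x ∉ F := hφ
  have h9 := nine_dvd (σ.subtypePerm (p := fun x => x ∉ F) hσ) (k := k)
    (Equiv.ext fun x => Subtype.ext (by
      rw [Equiv.Perm.subtypePerm_pow]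
      exact (hp _ _).trans (by rw [h]; rfl)))
    (fun x e => x.2 (by
      rw [Equiv.Perm.subtypePerm_pow] at e
      exact (hp _ _).symm.trans (congrArg Subtype.val e)))
  rw [Fintype.card_subtype_compl, ← Nat.card_eq_fintype_card, ← Nat.card_eq_fintype_card, hT] at h9
  have hd : Nat.card F ∣ 2 ^ 6 := (show (64 : ℕ) = 2 ^ 6 by norm_num) ▸ hT ▸ card_subgroup_dvd_card F
  obtain ⟨j, hj, e⟩ := (Nat.dvd_prime_pow Nat.prime_two).1 hd
  have h1 : Nat.card F ≠ 1 := fun e1 => v1 (mem_bot.1 (card_eq_one.1 e1 ▸ (mF v).2 hv))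
  have h6 : Nat.card F = 64 := by
    change 9 ∣ 64 - Nat.card F at h9
    rw [e] at h9 h1 ⊢
    interval_cases j <;> simp_all
  have := eq_top_of_card_eq F (h6.trans hT.symm)
  exact (mF a).1 (this ▸ mem_top a)

end L9

variable {G : Type*} [Group G] [Finite G] {S : Subgroup G} {z u g e : G}

theorem l9 {P : Subgroup G} (hP : IsPGroup 2 P) (zP : z ∈ P) (uP : u ∈ P) (zz : z * z = 1) (uu : u * u = 1)
    (z1 : z ≠ 1) (u1 : u ≠ 1) (uz : u ≠ z) (zc : P ≤ Cx z) (uc : P ≤ Cx u)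
    (om : ∀ a ∈ P, a * a = 1 → a ∈ V2 z u) (hg : g ∈ normalizer (P : Set G)) (gz : g * z * g⁻¹ = u)
    (gu : g * u * g⁻¹ = z * u) {k : ℕ} (g3 : g ^ 3 ^ k = 1) : ∀ a ∈ P, g ^ 3 * a = a * g ^ 3 := by
  have zu : z * u = u * z := mem_Cx.1 (uc zP)
  let γ : normalizer (P : Set G) := ⟨g, hg⟩
  let φ : MulAut P := P.normalizerMonoidHom γ
  have hp : ∀ (m : ℕ) (x : P), (((φ ^ m) x : P) : G) = g ^ m * x * (g ^ m)⁻¹ := fun m x => by
    rw [← map_pow]; rfl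
  have h1 : ∀ x : P, ((φ x : P) : G) = g * x * g⁻¹ := fun x => rfl
  have hz : φ ⟨z, zP⟩ = ⟨u, uP⟩ := Subtype.ext gz
  have hu : φ ⟨u, uP⟩ = ⟨z, zP⟩ * ⟨u, uP⟩ := Subtype.ext gu
  have zz' : (⟨z, zP⟩ : P) * ⟨z, zP⟩ = 1 := Subtype.ext zz
  have uu' : (⟨u, uP⟩ : P) * ⟨u, uP⟩ = 1 := Subtype.ext uu
  have zu' : (⟨z, zP⟩ : P) * ⟨u, uP⟩ = ⟨u, uP⟩ * ⟨z, zP⟩ := Subtype.ext zu
  have hzu : φ (⟨z, zP⟩ * ⟨u, uP⟩) = ⟨z, zP⟩ := by
    rw [map_mul, hz, hu, zu', ← mul_assoc, uu', one_mul]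
  have e3 : ∀ x : P, (φ ^ 3) x = φ (φ (φ x)) := fun x => by
    rw [pow_succ, pow_two]; rfl
  have all : ∀ x : P, x * x = 1 → x = 1 ∨ x = ⟨z, zP⟩ ∨ x = ⟨u, uP⟩ ∨ x = ⟨z, zP⟩ * ⟨u, uP⟩ := fun x hx => by
    simpa only [Subtype.ext_iff, coe_one, coe_mul] using (mem_V2 zz uu zu).1 (om x x.2 (congrArg Subtype.val hx))
  have hi : ∀ x : P, x * x = 1 → (φ ^ 3) x = x := fun x hx => by
    rcases all x hx with rfl | rfl | rfl | rfl
    · exact map_one _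
    · rw [e3, hz, hu, hzu]
    · rw [e3, hu, hzu, hz]
    · rw [e3, hzu, hz, hu]
  have hk : φ ^ 3 ^ k = 1 := by
    rw [← map_pow, show γ ^ 3 ^ k = 1 from Subtype.ext g3, map_one]
  have tri : TwoGrp.Tri φ ⟨z, zP⟩ :=
    ⟨hP, fun e => z1 (congrArg Subtype.val e), zz',
      mem_center_iff.2 fun x => Subtype.ext (mem_Cx.1 (zc x.2)),
      fun e => uz (congrArg Subtype.val (hz.symm.trans e)), by rw [hz, hu], by rw [hz]; exact all⟩
  have key : ∀ x : P, (φ ^ 3) x = x := by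
    rcases tri.homocyclic_or_isU34 with ⟨m, -, ⟨e⟩⟩ | h
    · exact L9.ab_fix hP (fun x y => e.injective (by rw [map_mul, map_mul, mul_comm])) _ (k := k)
        (by rw [← pow_mul, mul_comm, pow_mul, hk, one_pow]) hi
    · exact L9.fix64 h.1 φ hk tri.ne_one (hi _ zz')
  intro a ha
  have := (hp 3 ⟨a, ha⟩).symm.trans (congrArg Subtype.val (key ⟨a, ha⟩))
  exact mul_inv_eq_iff_eq_mul.1 this

end CfsgLib.Rk3B
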