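import Cfsg.Agent.Lib.Rk3B.C1

/-!
Conjugates of `z` in `T \ C`  (plans/RK3B.md, package LOC)
-/

set_option autoImplicit false
set_option linter.unusedSectionVars false

namespace CfsgLib.Rk3B

open Subgroup Cfsg CfsgLib.Tech CfsgLib.W2 CfsgLib.Rk3

variable {G : Type*} [Group G] [Finite G] {S : Subgroup G} {z u g e : G}

namespace Loc

theorem U4 (c : Cfg S z u g) {a b : G} (ha : a ∈ V2 z u) (hb : b ∈ V2 z u) (a1 : a ≠ 1) (b1 : b ≠ 1)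
    (ab : b ≠ a) : V2 a b = V2 z u :=
  eq_of_le_of_card_ge (V2_le.2 ⟨ha, hb⟩) (by
    rw [c.cardU, card_V2 (c.elU a ha) (c.elU b hb) (c.elU.comm ha hb) a1 b1 ab])

theorem U4' (c : Cfg S z u g) {a b d : G} (ha : a ∈ V2 z u) (hb : b ∈ V2 z u) (a1 : a ≠ 1) (b1 : b ≠ 1)
    (ab : b ≠ a) (hd : d ∈ V2 z u) : d = 1 ∨ d = a ∨ d = b ∨ d = a * b :=
  (mem_V2 (c.elU a ha) (c.elU b hb) (c.elU.comm ha hb)).1 ((U4 c ha hb a1 b1 ab).symm ▸ hd)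

theorem conjU (c : Cfg S z u g) {a : G} (ha : a ∈ V2 z u) (a1 : a ≠ 1) : IsConj z a := by
  rcases c.mem_U.1 ha with h | h | h | h
  · exact absurd h a1
  · rw [h]
  · rw [h]; exact isConj_iff.2 ⟨g, c.gz⟩
  · rw [h]; exact (isConj_iff.2 ⟨g, c.gzu⟩).symm

theorem gne (c : Cfg S z u g) {a : G} (ha : a ∈ V2 z u) (a1 : a ≠ 1) :
    g * a * g⁻¹ ≠ a ∧ g * (g * a * g⁻¹) * g⁻¹ ≠ a := by
  rcases c.mem_U.1 ha with h | h | h | h
  · exact absurd h a1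
  · rw [h, c.gz, c.gu]; exact ⟨c.uz, c.zu_ne_z⟩
  · rw [h, c.gu, c.gzu]; exact ⟨c.zu_ne_u, c.uz.symm⟩
  · rw [h, c.gzu, c.gz]; exact ⟨c.zu_ne_z.symm, c.zu_ne_u.symm⟩

/-- non-trivial squares of elements of order four of `C_T(t)` -/
def Sq (S : Subgroup G) (u t y : G) : Prop :=
  y ≠ 1 ∧ y * y = 1 ∧ ∃ r ∈ S ⊓ Cx u, r * t = t * r ∧ r * r = y

variable (rk : PRankLE 2 3 G) (j : JH S z u g e) {t : G} (ht : JJ S z u e t)
include j ht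

theorem elE : El (V3 z u t) :=
  el_V3 j.q.c.zz j.q.c.uu (j.q.jj_sq ht).1 j.q.c.zu (j.q.c.zc t ht.1.1) (mem_Cx.1 ht.1.2)

theorem cardE : Nat.card (V3 z u t) = 8 :=
  card_V3 j.q.c.cardU (j.q.jj_sq ht).1 (j.q.c.zc t ht.1.1) (mem_Cx.1 ht.1.2) (j.q.jj_sq ht).2.1

theorem E_le : V3 z u t ≤ S ⊓ Cx u ⊓ Cx t :=
  V3_le.2 ⟨⟨j.q.c.U_le (l_V2 _ _), mem_Cx.2 (j.q.c.zc t ht.1.1).symm⟩,
    ⟨j.q.c.U_le (r_V2 _ _), Cx_comm.1 ht.1.2⟩, ht.1, mem_Cx.2 rfl⟩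

theorem cE {r a : G} (hr : r ∈ S ⊓ Cx u) (rt : r * t = t * r) (ha : a ∈ V3 z u t) : r * a = a * r :=
  (mem_Cx.1 ((V3_le (M := Cx r)).2 ⟨mem_Cx.2 (j.q.c.zc r hr.1).symm, Cx_comm.1 hr.2, mem_Cx.2 rt.symm⟩ ha)).symm

theorem noA {x a b : G} (ha : a ∈ V2 z u) (hb : b ∈ V2 z u) (a1 : a ≠ 1) (b1 : b ≠ 1) (ab : b ≠ a)
    (h1 : x * a * x⁻¹ ∈ V3 z u e) (h2 : x * b * x⁻¹ ∈ V3 z u e) (h3 : x * t * x⁻¹ ∈ V3 z u e) : False := by
  refine j.wc t ht x (eq_of_le_of_card_ge ?_ (by rw [card_cj, cardE j ht, j.q.n.cardE j.q.c]))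
  have hU : cj x (V2 z u) ≤ V3 z u e := by
    rw [← U4 j.q.c ha hb a1 b1 ab, cj_V2]; exact V2_le.2 ⟨h1, h2⟩
  rw [cj_V3]
  exact V3_le.2 ⟨hU (conj_mem_cj.2 (l_V2 _ _)), hU (conj_mem_cj.2 (r_V2 _ _)), h3⟩

theorem exists_x0 : ∃ x : G, x * t * x⁻¹ = z ∧ ∀ r ∈ S, r * t = t * r → x * r * x⁻¹ ∈ S := by
  obtain ⟨y, hy⟩ := isConj_iff.1 ht.2.2.symm
  obtain ⟨k, hk, h⟩ := (j.q.c.syl.of_le j.q.Sz le_top).exists_cj_le
    (isPGroup_cj y (j.q.c.syl.pgroup.to_le (inf_le_left : S ⊓ Cx t ≤ S)))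
    (by rw [← hy, ← cj_Cx]; exact cj_mono _ inf_le_right)
  refine ⟨k * y, ?_, fun r hr rt => ?_⟩
  · rw [show k * y * t * (k * y)⁻¹ = k * (y * t * y⁻¹) * k⁻¹ by group, hy]; exact mem_Cx'.1 hk
  · rw [← Tech.cj_mul] at h
    exact cj_le_iff.1 h r ⟨hr, mem_Cx.2 rt⟩

include rk

theorem sqU {y : G} (h : Sq S u t y) : y ∈ V2 z u := by
  obtain ⟨-, yy, r, hr, rt, rfl⟩ := h
  obtain ⟨h1, h2⟩ := j.q.sq rk ((E_le j ht).trans (inf_le_left.trans inf_le_left)) (elE j ht) (cardE j ht) hr.1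
    (fun a ha => cE j ht hr rt ha) yy
  refine ((mem_V3 (j.q.jj_sq ht).1 (j.q.c.zc t ht.1.1) (mem_Cx.1 ht.1.2)).1 h2).resolve_right fun h => ?_
  exact (j.q.jj_sq ht).2.2 ((Subgroup.mul_mem_cancel_left (V3 z u e) h1).1 (V2_le_V3 _ _ _ h))

theorem sqA {x y : G} (hx : ∀ r ∈ S, r * t = t * r → x * r * x⁻¹ ∈ S) (h : Sq S u t y) :
    x * y * x⁻¹ ∈ V3 z u e := by
  obtain ⟨-, yy, r, hr, rt, rfl⟩ := h
  have := j.q.sq rk (E := cj x (V3 z u t))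
    (cj_le_iff.2 fun a ha => hx a (E_le j ht ha).1.1 (mem_Cx.1 (E_le j ht ha).2)) ((elE j ht).cj x)
    (by rw [card_cj, cardE j ht]) (hx r hr.1 rt)
    (by
      rintro _ ⟨a, ha, rfl⟩
      change x * r * x⁻¹ * (x * a * x⁻¹) = x * a * x⁻¹ * (x * r * x⁻¹)
      rw [conj_mul, conj_mul, cE j ht hr rt ha])
    (by rw [conj_mul, conj_mul, yy]; simp)
  rw [conj_mul] at this
  exact this.1

theorem sq_uq {y y' : G} (h : Sq S u t y) (h' : Sq S u t y') : y = y' := by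
  by_contra ne
  obtain ⟨x, xt, hx⟩ := exists_x0 j ht
  exact noA j ht (sqU rk j ht h') (sqU rk j ht h) h'.1 h.1 ne (sqA rk j ht hx h') (sqA rk j ht hx h)
    (xt ▸ V2_le_V3 _ _ _ (l_V2 _ _))

omit rk in
theorem cmA {c : G} (hc : In1 S z u e c) : cm c t ∈ V3 z u e := by
  have := inv_mem (hc.2.2 t ht.1)
  have tt := inv_eq_of_mul_eq_one_right (j.q.jj_sq ht).1
  rwa [show (t * c * t⁻¹ * c⁻¹)⁻¹ = c * t * c⁻¹ * t⁻¹ by group, tt] at this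

omit rk in
theorem cmU {c : G} (hc : In1 S z u e c) : cm c t ∈ V2 z u := by
  have h := cmA j ht hc
  refine ((j.q.n.mem_E j.q.c).1 h).resolve_right fun h1 => ht.2.1 ?_
  have tt := inv_eq_of_mul_eq_one_right (j.q.jj_sq ht).1
  have h2 : t * cm c t = cm c t * t := by
    have h3 : (cm c t)⁻¹ = cm c t := inv_eq_of_mul_eq_one_right (j.q.n.elE j.q.c _ h)
    calc t * cm c t = (cm c t)⁻¹ * t := by
          rw [show (cm c t)⁻¹ = t⁻¹ * c * t⁻¹ * c⁻¹ by simp only [cm]; group, tt]; simp only [cm]; group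
      _ = cm c t * t := by rw [h3]
  have h4 := j.q.c.cU ht.1 h1
  generalize cm c t = b at h2 h4
  rw [← mul_assoc, h2, mul_assoc, mul_assoc] at h4
  exact mul_left_cancel h4

omit rk in
theorem cm_mul' {a b : G} (ha : In1 S z u e a) (hb : In1 S z u e b) : cm (a * b) t = cm b t * cm a t :=
  cm_mul (j.q.jj_sq ht).1 (j.q.cA ha.1 (cmA j ht hb))

omit rk in
theorem tauU : cm t e ∈ V2 z u := j.q.n.nm t ht.1.1

omit rk in
theorem tau1 : cm t e ≠ 1 := fun h => ht.2.1 ((cm_eq_one j.q.n.ee).1 h)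

omit rk in
theorem cm_e : cm e t = cm t e := by
  rw [← cm_inv j.q.n.ee (j.q.jj_sq ht).1]
  exact inv_eq_of_mul_eq_one_right (j.q.c.elU _ (tauU j ht))

omit rk in
/-- elements of `K` can be adjusted to centralise `t` -/
theorem adj {c : G} (hc : In1 S z u e c) (h : cm c t = 1 ∨ cm c t = cm t e) :
    ∃ c', In1 S z u e c' ∧ c' * c' = c * c ∧ c' * t = t * c' := by
  have tt := (j.q.jj_sq ht).1
  rcases h with h | h
  · exact ⟨c, hc, rfl, (cm_eq_one tt).1 h⟩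
  · have he := j.q.in1_A (r_V3 z u e)
    refine ⟨c * e, j.q.in1_mul hc he, ?_, (cm_eq_one tt).1 ?_⟩
    · rw [mul_assoc, ← mul_assoc e, ← mem_Cx.1 hc.1.2, mul_assoc, j.q.n.ee, mul_one]
    · rw [cm_mul' j ht hc he, h, cm_e j ht]; exact j.q.c.elU _ (tauU j ht)

omit rk in
theorem sq_of {c : G} (hc : In1 S z u e c) (h : cm c t = 1 ∨ cm c t = cm t e) (c1 : c * c ≠ 1) :
    Sq S u t (c * c) := by
  obtain ⟨c', h1, h2, h3⟩ := adj j ht hc h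
  exact ⟨c1, j.q.n.elE j.q.c _ hc.2.1, c', h1.1.1, h3, h2⟩

omit rk in
theorem K_mul {a b : G} (ha : In1 S z u e a) (hb : In1 S z u e b) (h1 : ¬ (cm a t = 1 ∨ cm a t = cm t e))
    (h2 : ¬ (cm b t = 1 ∨ cm b t = cm t e)) : cm (a * b) t = 1 ∨ cm (a * b) t = cm t e := by
  rw [cm_mul' j ht ha hb]
  rw [not_or] at h1 h2
  have aa := j.q.c.elU _ (cmU j ht ha)
  rcases U4' j.q.c (tauU j ht) (cmU j ht ha) (tau1 j ht) h1.1 h1.2 (cmU j ht hb) with h | h | h | h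
  · exact absurd h h2.1
  · exact absurd h h2.2
  · exact .inl (by rw [h, aa])
  · exact .inr (by rw [h, mul_assoc, aa, mul_one])

theorem star {c c' : G} (hc : In1 S z u e c) (hc' : In1 S z u e c') (h : c * c = c' * c') (c1 : c * c ≠ 1)
    (nA : c⁻¹ * c' ∉ V3 z u e) : Sq S u t (c * c) ∨ Sq S u t (c⁻¹ * c' * (c⁻¹ * c')) := by
  by_contra hn
  rw [not_or] at hn
  have hi := j.q.in1_inv hc
  have hd := j.q.in1_mul hi hc'
  refine hn.2 (sq_of j ht hd (K_mul j ht hi hc' (fun k => hn.1 ?_) fun k => hn.1 ?_)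
    fun k => nA (j.q.omC rk hd.1 k))
  · have e1 : c⁻¹ * c⁻¹ = c * c := by
      rw [← mul_inv_rev]; exact inv_eq_of_mul_eq_one_right (j.q.n.elE j.q.c _ hc.2.1)
    have := sq_of j ht hi k (by rwa [e1])
    rwa [e1] at this
  · rw [h]; exact sq_of j ht hc' k (h ▸ c1)

theorem inj {c c' : G} (hc : In1 S z u e c) (hc' : In1 S z u e c') (h : c * c = c' * c') :
    c⁻¹ * c' ∈ V3 z u e := by
  by_contra nA
  have c1 : c * c ≠ 1 := fun k =>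
    nA (mul_mem (inv_mem (j.q.omC rk hc.1 k)) (j.q.omC rk hc'.1 (h ▸ k)))
  have hd := j.q.in1_mul (j.q.in1_inv hc) hc'
  have d1 : c⁻¹ * c' * (c⁻¹ * c') ≠ 1 := fun k => nA (j.q.omC rk hd.1 k)
  have step : ∀ {a a' : G}, In1 S z u e a → In1 S z u e a' → a * a = a' * a' → a * a ≠ 1 →
      a⁻¹ * a' ∉ V3 z u e → In1 S z u e (g * a * g⁻¹) ∧ In1 S z u e (g * a' * g⁻¹) ∧
      g * a * g⁻¹ * (g * a * g⁻¹) = g * a' * g⁻¹ * (g * a' * g⁻¹) ∧ g * a * g⁻¹ * (g * a * g⁻¹) ≠ 1 ∧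
      (g * a * g⁻¹)⁻¹ * (g * a' * g⁻¹) ∉ V3 z u e := fun {a a'} ha ha' k k1 kA => by
    refine ⟨j.q.in1_g ha, j.q.in1_g ha', by rw [conj_mul, conj_mul, k], fun k2 => k1 ?_, fun k2 => kA ?_⟩
    · rw [conj_mul] at k2; simpa [mul_inv_eq_one, mul_eq_left] using k2
    · have := conj_mem_of_mem_normalizer' j.q.gA k2
      rwa [show g⁻¹ * ((g * a * g⁻¹)⁻¹ * (g * a' * g⁻¹)) * g = a⁻¹ * a' by group] at this
  obtain ⟨a1, a2, a3, a4, a5⟩ := step hc hc' h c1 nA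
  obtain ⟨b1, b2, b3, b4, b5⟩ := step a1 a2 a3 a4 a5
  have s0 := star rk j ht hc hc' h c1 nA
  have s1 := star rk j ht a1 a2 a3 a4 a5
  have s2 := star rk j ht b1 b2 b3 b4 b5
  obtain ⟨y, hy⟩ : ∃ y, c * c = y := ⟨_, rfl⟩
  obtain ⟨w, hw⟩ : ∃ w, c⁻¹ * c' * (c⁻¹ * c') = w := ⟨_, rfl⟩
  rw [show g * c * g⁻¹ * (g * c * g⁻¹) = g * (c * c) * g⁻¹ by group,
    show (g * c * g⁻¹)⁻¹ * (g * c' * g⁻¹) * ((g * c * g⁻¹)⁻¹ * (g * c' * g⁻¹)) =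
      g * (c⁻¹ * c' * (c⁻¹ * c')) * g⁻¹ by group, hy, hw] at s1
  rw [show g * (g * c * g⁻¹) * g⁻¹ * (g * (g * c * g⁻¹) * g⁻¹) = g * (g * (c * c) * g⁻¹) * g⁻¹ by group,
    show (g * (g * c * g⁻¹) * g⁻¹)⁻¹ * (g * (g * c' * g⁻¹) * g⁻¹) *
      ((g * (g * c * g⁻¹) * g⁻¹)⁻¹ * (g * (g * c' * g⁻¹) * g⁻¹)) =
      g * (g * (c⁻¹ * c' * (c⁻¹ * c')) * g⁻¹) * g⁻¹ by simp [mul_assoc], hy, hw] at s2
  have hyU := gne j.q.c (j.q.in1_sq rk hc) c1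
  have hwU := gne j.q.c (j.q.in1_sq rk hd) d1
  rw [hy] at hyU s0
  rw [hw] at hwU s0
  have can : ∀ {a b : G}, g * a * g⁻¹ = g * b * g⁻¹ → a = b := fun k => mul_left_cancel (mul_right_cancel k)
  rcases s0 with s0 | s0 <;> rcases s1 with s1 | s1 <;> rcases s2 with s2 | s2 <;>
    first
    | exact hyU.1 (sq_uq rk j ht s1 s0)
    | exact hyU.2 (sq_uq rk j ht s2 s0)
    | exact hyU.1 (can (sq_uq rk j ht s2 s1))
    | exact hwU.1 (sq_uq rk j ht s1 s0)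
    | exact hwU.2 (sq_uq rk j ht s2 s0)
    | exact hwU.1 (can (sq_uq rk j ht s2 s1))

theorem ab {c c' : G} (hc : In1 S z u e c) (hc' : In1 S z u e c') : c * c' = c' * c := by
  by_cases c1 : c * c = 1
  · exact (j.q.cA hc'.1 (j.q.omC rk hc.1 c1)).symm
  by_cases c1' : c' * c' = 1
  · exact j.q.cA hc.1 (j.q.omC rk hc'.1 c1')
  by_cases h : c' * c' = c * c
  · have := j.q.cA hc.1 (inj rk j ht hc hc' h.symm)
    calc c * c' = c * (c * (c⁻¹ * c')) := by group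
      _ = c' * c := by rw [this]; group
  have hd := j.q.in1_mul hc hc'
  rcases U4' j.q.c (j.q.in1_sq rk hc) (j.q.in1_sq rk hc') c1 c1' h (j.q.in1_sq rk hd) with k | k | k | k
  · have := j.q.cA hc.1 (j.q.omC rk hd.1 k)
    rw [mul_assoc c c' c] at this
    exact mul_left_cancel this
  · have := inj rk j ht hc hd k.symm
    rw [inv_mul_cancel_left] at this
    exact absurd (j.q.n.elE j.q.c _ this) c1'
  · have := j.q.n.elE j.q.c _ (inj rk j ht hc' hd k.symm)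
    refine absurd ?_ c1
    calc c * c = c' * (c'⁻¹ * (c * c') * (c'⁻¹ * (c * c'))) * c'⁻¹ := by group
      _ = 1 := by rw [this]; group
  · have k' : c * (c' * c) * c' = c * (c * c') * c' := by
      calc _ = c * c' * (c * c') := by group
        _ = _ := by rw [k]; group
    exact (mul_left_cancel (mul_right_cancel k')).symm

theorem cf : ∃ c, In1 S z u e c ∧ c * c ≠ 1 ∧ c * t = t * c := by
  suffices h : ∃ c, In1 S z u e c ∧ c * c ≠ 1 ∧ (cm c t = 1 ∨ cm c t = cm t e) by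
    obtain ⟨c, h1, h2, h3⟩ := h
    obtain ⟨c', k1, k2, k3⟩ := adj j ht h1 h3
    exact ⟨c', k1, k2 ▸ h2, k3⟩
  obtain ⟨a, ha, aa⟩ := j.q.exists_in1 rk j.big (l_V2 z u)
  obtain ⟨b, hb, bb⟩ := j.q.exists_in1 rk j.big (r_V2 z u)
  by_cases h1 : cm a t = 1 ∨ cm a t = cm t e
  · exact ⟨a, ha, aa ▸ j.q.c.z1, h1⟩
  by_cases h2 : cm b t = 1 ∨ cm b t = cm t e
  · exact ⟨b, hb, bb ▸ j.q.c.u1, h2⟩
  refine ⟨a * b, j.q.in1_mul ha hb, fun k => j.q.c.zu_ne_one ?_, K_mul j ht ha hb h1 h2⟩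
  rw [← aa, ← bb, ← k, mul_assoc, mul_assoc, ← mul_assoc a b b, ← mul_assoc b a b, ab rk j ht ha hb]

theorem mv {f : G} (hf : Sq S u t f) : ∃ x : G, x * t * x⁻¹ = z ∧ x * f * x⁻¹ ∈ V2 z u ∧
    ∀ r ∈ S ⊓ Cx u, r * t = t * r → x * r * x⁻¹ ∈ S ⊓ Cx u := by
  obtain ⟨x, xt, hx⟩ := exists_x0 j ht
  have fU := sqU rk j ht hf
  have fA := sqA rk j ht hx hf
  have rf : ∀ r ∈ S ⊓ Cx u, x * r * x⁻¹ ∈ Cx (x * f * x⁻¹) := fun r hr =>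
    conj_mem_Cx.2 (mem_Cx.2 (j.q.c.cU hr fU))
  by_cases h : x * f * x⁻¹ ∈ V2 z u
  · refine ⟨x, xt, h, fun r hr rt => ⟨hx r hr.1 rt, ?_⟩⟩
    have h1 : x * f * x⁻¹ ≠ 1 := fun k => hf.1 (by simpa [mul_inv_eq_one, mul_eq_left] using k)
    have h2 : x * f * x⁻¹ ≠ z := fun k => (j.q.jj_sq ht).2.1 (by
      rw [← xt] at k; rw [← mul_left_cancel (mul_right_cancel k)]; exact fU)
    have := U4 j.q.c (l_V2 z u) h j.q.c.z1 h1 h2
    exact Cx_comm.1 ((V2_le (M := Cx (x * r * x⁻¹))).2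
      ⟨Cx_comm.1 (j.q.Sz (hx r hr.1 rt)), Cx_comm.1 (rf r hr)⟩ (this.symm ▸ r_V2 z u))
  · obtain ⟨n, nz, nf⟩ := j.pu _ fA h ((conjU j.q.c fU hf.1).trans (isConj_iff.2 ⟨x, rfl⟩))
    obtain ⟨k, hk, hle⟩ := j.q.sylT.exists_cj_le
      (isPGroup_cj (n * x) (j.q.c.syl.pgroup.to_le
        (inf_le_left.trans inf_le_left : S ⊓ Cx u ⊓ Cx t ≤ S)))
      (cj_le_iff.2 fun r hr => by
        rw [show n * x * r * (n * x)⁻¹ = n * (x * r * x⁻¹) * n⁻¹ by group]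
        constructor
        · have := (conj_mem_Cx (g := n)).2 (j.q.Sz (hx r hr.1.1 (mem_Cx.1 hr.2)))
          rwa [nz] at this
        · have := (conj_mem_Cx (g := n)).2 (rf r hr.1)
          rwa [nf] at this)
    refine ⟨k * (n * x), ?_, ?_, fun r hr rt => ?_⟩
    · rw [show k * (n * x) * t * (k * (n * x))⁻¹ = k * (n * (x * t * x⁻¹) * n⁻¹) * k⁻¹ by group, xt, nz]
      exact mem_Cx'.1 hk.1
    · rw [show k * (n * x) * f * (k * (n * x))⁻¹ = k * (n * (x * f * x⁻¹) * n⁻¹) * k⁻¹ by group, nf,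
        mem_Cx'.1 hk.2]
      exact r_V2 _ _
    · rw [← Tech.cj_mul] at hle
      exact cj_le_iff.1 hle r ⟨hr, mem_Cx.2 rt⟩

end Loc

theorem JH.loc (rk : PRankLE 2 3 G) (j : JH S z u g e) {t : G} (ht : JJ S z u e t) : ∃ f, LC S z u e t f := by
  obtain ⟨c, hc, c1, ct⟩ := Loc.cf rk j ht
  have hf : Loc.Sq S u t (c * c) := ⟨c1, j.q.n.elE j.q.c _ hc.2.1, c, hc.1.1, ct, rfl⟩
  have fU := Loc.sqU rk j ht hf
  refine ⟨c * c, fU, c1, fun r hr rt r4 => ?_, ⟨c, hc, rfl, ct⟩, fun a a' ha ha' => Loc.inj rk j ht ha ha',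
    fun a a' ha ha' => Loc.ab rk j ht ha ha', fun a ha a1 af => ⟨Loc.cmU j ht ha, ?_⟩, ?_⟩
  · by_cases h : r * r = 1
    · exact .inl h
    · exact .inr (Loc.sq_uq rk j ht ⟨h, r4, r, hr, rt, rfl⟩ hf)
  · exact not_or.1 fun h => af (Loc.sq_uq rk j ht (Loc.sq_of j ht ha h a1) hf)
  · obtain ⟨x, xt, xf, hx⟩ := Loc.mv rk j ht hf
    refine ⟨x, xt, xf, hx, fun a ha a1 af => ?_⟩
    have aT := hx a (j.q.c.U_le ha) (j.q.c.cU ht.1 ha).symm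
    refine ⟨aT, fun h => ?_, (Loc.conjU j.q.c ha a1).trans (isConj_iff.2 ⟨x, rfl⟩)⟩
    exact Loc.noA j ht fU ha c1 a1 af (V2_le_V3 _ _ _ xf)
      (j.q.omC rk ⟨aT, mem_Cx.2 h⟩ (by rw [conj_mul, j.q.c.elU a ha]; simp))
      (xt ▸ V2_le_V3 _ _ _ (l_V2 _ _))

end CfsgLib.Rk3B
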