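import Cfsg.Agent.Lib.Rk3B.Iso
import Cfsg.Agent.Lib.Rk3B.Kl

/-!
Invariant subgroups of odd order of `C(z)`  (plans/RK3B.md, package OD)
-/

set_option autoImplicit false

namespace CfsgLib.Rk3B

open Subgroup Cfsg CfsgLib.Tech CfsgLib.W2 CfsgLib.Rk3

variable {G : Type*} [Group G] [Finite G] {S : Subgroup G} {z u g e : G}

omit [Finite G] in
theorem od_odd {D O : Subgroup G} (hD : Odd (Nat.card D)) (hO : Odd (Nat.card O)) (h : D ≤ normalizer (O : Set G)) :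
    Odd (Nat.card (D ⊔ O : Subgroup G)) :=
  (hD.mul hO).of_dvd_nat (Core.card_sup_dvd_of_le_normalizer h)

theorem od_fr {O : Subgroup G} (hO : Odd (Nat.card O)) {i x : G} (hi : IsPGroup 2 (zpowers i))
    (iN : i ∈ normalizer (O : Set G)) (hx : IsPGroup 2 (zpowers x)) (xm : x ∈ zpowers i ⊔ O) :
    ∃ d ∈ O, d * x * d⁻¹ ∈ zpowers i := by
  have hN : zpowers i ≤ normalizer (O : Set G) := zpowers_le.2 iN
  have hS : IsSylowIn 2 (zpowers i) (zpowers i ⊔ O) := ⟨le_sup_left, hi, fun q => by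
    have h1 := Core.card_sup_dvd_of_le_normalizer hN
    rw [← card_mul_relIndex' (le_sup_left : zpowers i ≤ zpowers i ⊔ O)] at h1
    exact hO.not_two_dvd_nat (q.trans (Nat.dvd_of_mul_dvd_mul_left Nat.card_pos h1))⟩
  obtain ⟨k, hk, h⟩ := hS.exists_conj_mem xm hx
  obtain ⟨p, hp, d, hd, rfl⟩ := (Core.mem_sup_of_le_normalizer_right hN).1 hk
  refine ⟨d, hd, ?_⟩
  have := mul_mem (mul_mem (inv_mem hp) h) hp
  convert this using 1
  group

omit [Finite G] in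
theorem od_sq {H : Subgroup G} {n : G} (ho : Odd (orderOf n)) (h : n * n ∈ H) : n ∈ H := by
  obtain ⟨k, hk⟩ := ho
  have h1 : n = ((n * n) ^ k)⁻¹ := by
    rw [eq_inv_iff_mul_eq_one, ← pow_two, ← pow_mul, ← pow_succ', ← hk, pow_orderOf_eq_one]
  rw [h1]
  exact inv_mem (pow_mem h k)

namespace ONG

variable {w : ZMod 4 → ZMod 4 → ZMod 4 → G} {t s r ρ : G} (o : ONG S z u g e w t s r ρ)
include o

omit [Finite G] in
theorem od_ii : w 0 1 2 * w 0 1 2 = z := by rw [o.wr.mul, ← o.ez]; rfl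

omit [Finite G] in
theorem od_le : Cx (w 0 1 2) ≤ Cx z := fun x hx =>
  o.od_ii ▸ mem_Cx.2 (Commute.mul_right (mem_Cx.1 hx : Commute x _) (mem_Cx.1 hx : Commute x _))

theorem od_key (rk : PRankLE 2 3 G) {k : G} (hk : k ∈ Cx z) :
    ∃ d ∈ PComp.opOf 2 (Cx z), d * k * w 0 1 2 * (d * k)⁻¹ ∈ zpowers (w 0 1 2) := by
  have hi : IsPGroup 2 (zpowers (w 0 1 2)) := isPGroup_zpowers_of_pow (k := 2) (by
    rw [show 2 ^ 2 = 2 * 2 from rfl, pow_mul, pow_two, pow_two, o.wr.mul, o.wr.mul, ← o.wr.one]; rfl)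
  have iN := PComp.le_normalizer_opOf (p := 2) (Cx z) (o.od_le (mem_Cx.2 rfl))
  have xm : k * w 0 1 2 * k⁻¹ ∈ zpowers (w 0 1 2) ⊔ PComp.opOf 2 (Cx z) := by
    obtain ⟨d, hd, h | h⟩ := o.zs rk hk <;> rw [h]
    · exact mul_mem (mem_sup_right hd) (mem_sup_left (mem_zpowers _))
    · exact mul_mem (mem_sup_right hd) (mem_sup_left (inv_mem (mem_zpowers _)))
  obtain ⟨d, hd, h⟩ := od_fr (odd_card_opOf _) hi iN (cj_zpowers k _ ▸ isPGroup_cj k hi) xm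
  refine ⟨d, hd, ?_⟩
  convert h using 1
  group

theorem oK (rk : PRankLE 2 3 G) : PComp.opOf 2 (Cx (w 0 1 2)) ≤ PComp.opOf 2 (Cx z) := by
  have h1 : PComp.opOf 2 (Cx (w 0 1 2)) ≤ Cx z := (PComp.opOf_le _).trans o.od_le
  refine le_sup_left.trans (PComp.le_opOf (N := PComp.opOf 2 (Cx (w 0 1 2)) ⊔ PComp.opOf 2 (Cx z))
    (sup_le h1 (PComp.opOf_le _)) (fun k hk => ?_) (Nat.coprime_two_right.2
      (od_odd (odd_card_opOf _) (odd_card_opOf _) (h1.trans (PComp.le_normalizer_opOf _)))))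
  obtain ⟨d, hd, h⟩ := o.od_key rk hk
  have h2 : (d * k)⁻¹ ∈ normalizer ((Cx (w 0 1 2) : Subgroup G) : Set G) :=
    mem_normalizer_of_forall fun x hx => by
      obtain ⟨m, hm⟩ := mem_zpowers_iff.1 h
      have h3 : x ∈ Cx (d * k * w 0 1 2 * (d * k)⁻¹) :=
        hm ▸ mem_Cx.2 (Commute.zpow_right (mem_Cx.1 hx : Commute x _) m)
      have := (conj_mem_Cx (g := (d * k)⁻¹)).2 h3
      convert this using 2
      group
  have h4 : d * k ∈ normalizer ((PComp.opOf 2 (Cx (w 0 1 2)) ⊔ PComp.opOf 2 (Cx z) : Subgroup G) : Set G) :=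
    normalizer_inf_normalizer_le_normalizer_sup _ _ ⟨PComp.normalizer_le_normalizer_opOf _ (inv_mem_iff.1 h2),
      PComp.le_normalizer_opOf _ (mul_mem (PComp.opOf_le _ hd) hk)⟩
  simpa using mul_mem (inv_mem (le_normalizer (mem_sup_right hd))) h4

theorem od (rk : PRankLE 2 3 G) {D : Subgroup G} (hD : Odd (Nat.card D)) (Dz : D ≤ Cx z)
    (h : X1 w t s ≤ normalizer (D : Set G) ∨ (u ∈ normalizer (D : Set G) ∧ e ∈ normalizer (D : Set G) ∧
      ∃ c ∈ S ⊓ Cx u ⊓ Cx e, c ∈ normalizer (D : Set G) ∧ c * c ≠ 1 ∧ c * c ≠ z)) : D ≤ PComp.opOf 2 (Cx z) := by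
  have hB := od_odd hD (odd_card_opOf (Cx z)) (Dz.trans (PComp.le_normalizer_opOf _))
  obtain ⟨w', t', s', ρ', σ', hw, ht, hs, k⟩ := o.onk
  have hD' : Odd (Nat.card ((D ⊔ PComp.opOf 2 (Cx z)).subgroupOf (Cx (w 0 1 2)))) :=
    hB.of_dvd_nat (card_comap_dvd_of_injective _ _ (subtype_injective _))
  have nn : ∀ x : Cx (w 0 1 2), (x : G) ∈ normalizer (D : Set G) →
      x ∈ normalizer (((D ⊔ PComp.opOf 2 (Cx z)).subgroupOf (Cx (w 0 1 2)) : Subgroup _) : Set (Cx (w 0 1 2))) :=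
    fun x hx => mem_normalizer_of_forall fun y hy => mem_subgroupOf.2 (conj_mem_of_mem_normalizer
      (normalizer_inf_normalizer_le_normalizer_sup _ _ ⟨hx, PComp.le_normalizer_opOf _ (o.od_le x.2)⟩)
      (mem_subgroupOf.1 hy))
  have key := k.od hD' (by
    rcases h with h | ⟨hu, he, c, hc, cN, c1, c2⟩
    · refine .inl ((closure_le _).2 fun x hx => nn x (h (subset_closure ?_)))
      rcases hx with rfl | rfl | rfl | rfl | rfl <;> simp [hw, ht, hs]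
    · obtain ⟨a, b, c', rfl⟩ := (o.memC c).1 hc
      refine .inr ⟨nn _ (by rwa [hw, o.eu]), nn _ (by rwa [hw, o.ee]), a, b, c', nn _ (by rwa [hw]), fun q => ?_⟩
      rw [o.wr.mul, ← two_mul, ← two_mul, ← two_mul, q.1, q.2] at c1 c2
      have : ∀ b : ZMod 4, 2 * b = 0 ∨ 2 * b = 2 := by decide
      rcases this b with q | q
      · exact c1 (q ▸ o.wr.one)
      · exact c2 (by rw [q, o.ez]))
  intro d hd
  obtain ⟨a, ha, h1⟩ := o.od_key rk (Dz hd)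
  have h2 : a * d ∈ D ⊔ PComp.opOf 2 (Cx z) := mul_mem (mem_sup_right ha) (mem_sup_left hd)
  have h3 : a * d ∈ Cx z := mul_mem (PComp.opOf_le _ ha) (Dz hd)
  have h4 : a * d ∈ Cx (w 0 1 2) := by
    generalize a * d = n at h1 h2 h3
    obtain ⟨m, hm⟩ := o.wr.mem_i h1
    have : ∀ m : ZMod 4, m = 1 ∨ m = 3 ∨ (m + m = 0 ∧ 2 * m + 2 * m = 0) := by decide
    rcases this m with rfl | rfl | q
    · exact mem_Cx'.2 hm
    · have e1 : n * w 0 1 2 * n⁻¹ = (w 0 1 2)⁻¹ := by rw [hm, o.wr.inv]; rfl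
      refine od_sq (hB.of_dvd_nat (orderOf_dvd_natCard _ h2)) (mem_Cx'.2 ?_)
      calc n * n * w 0 1 2 * (n * n)⁻¹ = n * (n * w 0 1 2 * n⁻¹) * n⁻¹ := by group
        _ = n * (w 0 1 2)⁻¹ * n⁻¹ := by rw [e1]
        _ = (n * w 0 1 2 * n⁻¹)⁻¹ := by group
        _ = w 0 1 2 := by rw [e1, inv_inv]
    · have e1 : z = w 0 m (2 * m) * w 0 m (2 * m) := by
        rw [← hm, ← mem_Cx'.1 h3, ← o.od_ii]; group
      rw [o.wr.mul, q.1, q.2, ← o.ez] at e1
      exact absurd (o.wr.inj e1).2.1 (by decide)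
  have h5 : a * d ∈ PComp.opOf 2 (Cx z) :=
    o.oK rk (PComp.mem_opOf_iff (x := ⟨a * d, h4⟩).2 (key (mem_subgroupOf.2 h2)))
  simpa using mul_mem (inv_mem ha) h5

end ONG

end CfsgLib.Rk3B
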