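import Cfsg.Agent.Lib.Rk3B.C1

/-!
Computations in the Sylow 2-subgroup of type O'Nan  (plans/RK3B.md, package ONB)
-/

set_option autoImplicit false
set_option linter.unusedSectionVars false
set_option linter.unusedSimpArgs false

namespace CfsgLib.Rk3B

open Subgroup Cfsg CfsgLib.Tech CfsgLib.W2 CfsgLib.Rk3

namespace Onb

/-- normal forms -/
structure OM where
  a : ZMod 4
  b : ZMod 4
  c : ZMod 4
  i : Fin 2
  j : Fin 2
  k : Fin 2
  deriving DecidableEq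

def lw (a b c : ZMod 4) (x : OM) : OM := ⟨a + x.a, b + x.b, c + x.c, x.i, x.j, x.k⟩
def lt (x : OM) : OM := ⟨-x.a, x.a + x.b, -x.c, x.i + 1, x.j, x.k⟩
def ls (x : OM) : OM := ⟨-x.a - 2 * x.c, x.c - x.b, x.c, x.i, x.j + 1, x.k⟩
def lr (x : OM) : OM :=
  if x.i = 0 then
    if x.j = 0 then ⟨-x.a, -x.b, x.a + x.c, 0, 0, x.k + 1⟩
    else ⟨-x.a + 1, -x.b + 3, x.a + x.c + 3, 1, 1, x.k + 1⟩
  else
    if x.j = 0 then ⟨-x.a + 2, -x.b + 3, x.a + x.c + 3, 1, 0, x.k + 1⟩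
    else ⟨-x.a + 1, -x.b + 3, x.a + x.c + 0, 0, 1, x.k + 1⟩
def it (f : OM → OM) (i : Fin 2) (y : OM) : OM := if i = 0 then y else f y
/-- the multiplication of normal forms -/
def mm (x y : OM) : OM := lw x.a x.b x.c (it lt x.i (it ls x.j (it lr x.k y)))
def cw (a b c : ZMod 4) : OM := ⟨a, b, c, 0, 0, 0⟩
def ct : OM := ⟨0, 0, 0, 1, 0, 0⟩
def cr : OM := ⟨0, 0, 0, 0, 0, 1⟩
def bv (n : Fin 3) : OM := if n = 0 then cw 1 0 0 else if n = 1 then cw 0 1 0 else cw 0 0 1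
def ac (i j k : Fin 2) (n : Fin 3) : OM := mm ⟨0, 0, 0, i, j, k⟩ (bv n)

theorem d_ac : ∀ a b c i j k n, mm ⟨a, b, c, i, j, k⟩ (bv n) =
    lw (ac i j k n).a (ac i j k n).b (ac i j k n).c ⟨a, b, c, i, j, k⟩ := by decide +kernel

theorem d_ac' : ∀ i j k i' j' k', (∀ n, (ac i j k n).a = (ac i' j' k' n).a ∧
    (ac i j k n).b = (ac i' j' k' n).b ∧ (ac i j k n).c = (ac i' j' k' n).c) →
    i = i' ∧ j = j' ∧ k = k' := by decide +kernel

theorem d_M : ∀ a b c i j k, mm ⟨a, b, c, i, j, k⟩ (cw 0 1 2) = mm (cw 0 1 2) ⟨a, b, c, i, j, k⟩ ↔ k = 0 := by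
  decide +kernel

theorem d_r : ∀ a b c i j k, (mm ⟨a, b, c, i, j, k⟩ cr).k = 0 ↔ k ≠ 0 := by decide +kernel

theorem d_Z : ∀ a b c i j k, mm ⟨a, b, c, i, j, k⟩ ct = mm ct ⟨a, b, c, i, j, k⟩ →
    mm ⟨a, b, c, i, j, k⟩ cr = mm cr ⟨a, b, c, i, j, k⟩ →
    mm ⟨a, b, c, i, j, k⟩ (cw 1 0 0) = mm (cw 1 0 0) ⟨a, b, c, i, j, k⟩ →
    mm ⟨a, b, c, i, j, k⟩ ⟨a, b, c, i, j, k⟩ = cw 0 0 0 := by decide +kernel

theorem d_cls : ∀ a b c i j k, mm ⟨a, b, c, i, j, k⟩ (cw 0 0 2) = mm (cw 0 0 2) ⟨a, b, c, i, j, k⟩ →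
    mm ⟨a, b, c, i, j, k⟩ (cw 2 0 0) = mm (cw 2 2 0) ⟨a, b, c, i, j, k⟩ →
    (mm ⟨a, b, c, i, j, k⟩ ⟨a, b, c, i, j, k⟩ = cw 0 0 0 → ∃ x y z l,
      mm ⟨x, y, z, 0, 0, l⟩ ⟨a, b, c, i, j, k⟩ = mm ct ⟨x, y, z, 0, 0, l⟩) ∧
    (mm ⟨a, b, c, i, j, k⟩ ⟨a, b, c, i, j, k⟩ = cw 0 2 0 → ∃ x y z l,
      mm ⟨x, y, z, 0, 0, l⟩ ⟨a, b, c, i, j, k⟩ = mm (mm (cw 0 1 2) ct) ⟨x, y, z, 0, 0, l⟩) := by
  decide +kernel

theorem d_u : ∀ x y z l, mm ⟨x, y, z, 0, 0, l⟩ (cw 0 0 2) = mm (cw 0 0 2) ⟨x, y, z, 0, 0, l⟩ := by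
  decide +kernel

theorem d_sq : ∀ a b c i j k, mm ⟨a, b, c, i, j, k⟩ ⟨a, b, c, i, j, k⟩ = cw 0 2 0 → ∀ x y z,
    x + x = 0 → y + y = 0 → z + z = 0 → mm ⟨a, b, c, i, j, k⟩ (cw x y z) = mm (cw x y z) ⟨a, b, c, i, j, k⟩ ∨
      mm ⟨a, b, c, i, j, k⟩ (cw x y z) = mm (mm (cw 0 2 0) (cw x y z)) ⟨a, b, c, i, j, k⟩ := by
  decide +kernel

theorem d_ut : ∀ a b c, mm (cw 0 0 2) ct ≠ cw a b c ∧ mm (mm (cw 0 2 0) (cw 0 0 2)) ct ≠ cw a b c := by
  decide +kernel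

theorem d_two : ∀ x : ZMod 4, x + x = 0 → x = 0 ∨ x = 2 := by decide

end Onb

open Onb

variable {G : Type*} [Group G] [Finite G] {S : Subgroup G} {z u g e : G}

/-- the element with a given normal form -/
def Onb.ev (w : ZMod 4 → ZMod 4 → ZMod 4 → G) (t s r : G) (x : OM) : G :=
  w x.a x.b x.c * t ^ x.i.val * s ^ x.j.val * r ^ x.k.val

omit [Finite G] in
theorem Onb.flip {t : G} (h : t * t = 1) (i : Fin 2) : t * t ^ i.val = t ^ (i + 1).val := by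
  fin_cases i <;> simp [h]

namespace ONG

variable {w : ZMod 4 → ZMod 4 → ZMod 4 → G} {t s r ρ : G} (o : ONG S z u g e w t s r ρ)
include o

omit [Finite G] in
theorem onb_lw (a b c : ZMod 4) (x : OM) : w a b c * ev w t s r x = ev w t s r (lw a b c x) := by
  simp only [ev, lw, ← mul_assoc, o.wr.mul]

omit [Finite G] in
theorem onb_lt (x : OM) : t * ev w t s r x = ev w t s r (lt x) := by
  simp only [ev, lt]
  rw [← o.wr.tw, ← Onb.flip o.wr.tt]; group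

omit [Finite G] in
theorem onb_ls (x : OM) : s * ev w t s r x = ev w t s r (ls x) := by
  simp only [ev, ls]
  rw [← o.wr.sw, ← Onb.flip o.wr.ss, ← mul_assoc _ s, mul_assoc _ _ s,
    ← (Commute.pow_right (o.wr.st : Commute s t) x.i.val).eq]
  group

omit [Finite G] in
theorem onb_lr (x : OM) : r * ev w t s r x = ev w t s r (lr x) := by
  have a1 : ∀ a b c, t * w a b c = w (-a) (a + b) (-c) * t := fun a b c => by rw [← o.wr.tw]; group
  have a2 : ∀ a b c, s * w a b c = w (-a - 2 * c) (c - b) c * s := fun a b c => by rw [← o.wr.sw]; group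
  have b1 : r * t * r = w 2 3 3 * t := by rw [o.rt, a1]; rfl
  have b2 : r * s * r = w 1 3 3 * (t * s) := by rw [o.rs, mul_assoc, a2, ← mul_assoc, a1, mul_assoc]; rfl
  have b3 : r * (t * s) * r = w 1 3 0 * s := by
    calc r * (t * s) * r = r * t * (r * r) * s * r := by rw [o.rr]; group
      _ = r * t * r * (r * s * r) := by group
      _ = w 2 3 3 * (t * w 1 3 3) * t * s := by rw [b1, b2]; group
      _ = _ := by rw [a1, ← mul_assoc, o.wr.mul, mul_assoc _ t t, o.wr.tt, mul_one]; rfl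
  have c : ∀ p : G, r * (w x.a x.b x.c * p * r ^ x.k.val) =
      w (-x.a) (-x.b) (x.a + x.c) * (r * p * r) * r ^ (x.k + 1).val := fun p => by
    rw [← o.rw, ← Onb.flip o.rr, mul_assoc _ _ (r * _), mul_assoc (r * p), ← mul_assoc r r, o.rr]; group
  obtain ⟨a, b, c', i, j, k⟩ := x
  rw [ev, mul_assoc (w _ _ _), c]
  fin_cases i <;> fin_cases j
  · simp [ev, lr, o.rr]
  · simp [ev, lr, b2, ← mul_assoc, o.wr.mul]
  · simp [ev, lr, b1, ← mul_assoc, o.wr.mul]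
  · simp only [Fin.mk_one, Fin.isValue, Fin.val_one, pow_one, b3]
    simp [ev, lr, ← mul_assoc, o.wr.mul]

omit [Finite G] in
theorem onb_mm (x y : OM) : ev w t s r x * ev w t s r y = ev w t s r (mm x y) := by
  have a : ∀ (p : G) (f : OM → OM), (∀ y, p * ev w t s r y = ev w t s r (f y)) → ∀ (i : Fin 2) y,
      p ^ i.val * ev w t s r y = ev w t s r (it f i y) := fun p f h i y => by
    fin_cases i <;> simp [it, h]
  rw [mm, ← o.onb_lw, ← a t lt o.onb_lt, ← a s ls o.onb_ls, ← a r lr o.onb_lr]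
  simp only [ev.eq_1 w t s r x, mul_assoc]

omit [Finite G] in
theorem onb_inj {x y : OM} (h : ev w t s r x = ev w t s r y) : x = y := by
  obtain ⟨a, b, c, i, j, k⟩ := x
  obtain ⟨a', b', c', i', j', k'⟩ := y
  obtain ⟨rfl, rfl, rfl⟩ := d_ac' i j k i' j' k' fun n => by
    have h1 := o.onb_mm ⟨a, b, c, i, j, k⟩ (bv n)
    have h2 := o.onb_mm ⟨a', b', c', i', j', k'⟩ (bv n)
    rw [d_ac, ← o.onb_lw] at h1 h2
    rw [h, h2] at h1
    exact o.wr.inj (mul_right_cancel h1).symm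
  obtain ⟨rfl, rfl, rfl⟩ := o.wr.inj (mul_right_cancel (mul_right_cancel (mul_right_cancel h)))
  rfl

omit [Finite G] o in
theorem onb_w (a b c : ZMod 4) : w a b c = ev w t s r (cw a b c) := by simp [ev, cw]

omit [Finite G] in
theorem onb_t : t = ev w t s r ct := by simp [ev, ct, o.wr.one]

omit [Finite G] in
theorem onb_r : r = ev w t s r cr := by simp [ev, cr, o.wr.one]

omit [Finite G] in
theorem onb_S (x : OM) : ev w t s r x ∈ S := (o.mem _).2 ⟨_, _, _, _, _, _, rfl⟩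

omit [Finite G] in
theorem onb_ex {v : G} (h : v ∈ S) : ∃ a b c i j k, v = ev w t s r ⟨a, b, c, i, j, k⟩ := by
  obtain ⟨a, b, c, i, j, k, rfl⟩ := (o.mem v).1 h
  exact ⟨a, b, c, i, j, k, rfl⟩

omit [Finite G] in
theorem onb_M {x : OM} : ev w t s r x ∈ S ⊓ Cx (w 0 1 2) ↔ x.k = 0 := by
  obtain ⟨a, b, c, i, j, k⟩ := x
  rw [mem_inf, mem_Cx, onb_w (w := w) (t := t) (s := s) (r := r) 0 1 2, o.onb_mm, o.onb_mm, ← d_M a b c i j k]
  exact ⟨fun h => o.onb_inj h.2, fun h => ⟨o.onb_S _, congrArg _ h⟩⟩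

theorem memM {x : G} : x ∈ S ⊓ Cx (w 0 1 2) ↔
    ∃ a b c, ∃ i j : Fin 2, w a b c * t ^ i.val * s ^ j.val = x := by
  constructor
  · intro h
    obtain ⟨a, b, c, i, j, k, rfl⟩ := o.onb_ex h.1
    obtain rfl : k = 0 := o.onb_M.1 h
    exact ⟨a, b, c, i, j, by simp [ev]⟩
  · rintro ⟨a, b, c, i, j, rfl⟩
    simpa [ev] using (o.onb_M (x := ⟨a, b, c, i, j, 0⟩)).2 rfl

theorem sylM : IsSylowIn 2 (S ⊓ Cx (w 0 1 2)) (Cx (w 0 1 2)) := by
  have rS : r ∈ S := o.onb_r ▸ o.onb_S _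
  have wS : ∀ a b c, w a b c ∈ S := fun a b c => ((o.memC _).2 ⟨a, b, c, rfl⟩).1.1
  have h2 : (S ⊓ Cx (w 0 1 2)).relIndex S = 2 := relIndex_eq_two_iff.2 ⟨r, rS, fun v hv => by
    obtain ⟨a, b, c, i, j, k, rfl⟩ := o.onb_ex hv
    have e1 := o.onb_mm ⟨a, b, c, i, j, k⟩ cr
    rw [← o.onb_r] at e1
    rw [e1, o.onb_M, o.onb_M, d_r]
    exact (xor_not_left.trans Iff.rfl).2 Iff.rfl⟩
  have := isSylowIn_cent_of_index o.q.c.syl (wS 0 1 2) (by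
    rw [← card_mul_relIndex' (inf_le_left : S ⊓ Cx (w 0 1 2) ≤ S), h2, mul_comm]) fun k _ h1 h3 => by
      obtain ⟨a, b, c, i, j, l, q⟩ := o.onb_ex h1
      rw [q] at h3
      have c0 : ∀ y, mm ⟨a, b, c, i, j, l⟩ y = mm y ⟨a, b, c, i, j, l⟩ := fun y => o.onb_inj (by
        rw [← o.onb_mm, ← o.onb_mm]; exact (mem_Cx.1 (h3 (o.onb_S y))).symm)
      have c1 := congrArg (ev w t s r) (d_Z a b c i j l (c0 _) (c0 _) (c0 _))
      rw [← o.onb_mm, ← q, ← onb_w, conj_mul, o.wr.mul, o.wr.one, mul_inv_eq_one, mul_eq_left,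
        ← o.wr.one] at c1
      exact absurd (o.wr.inj c1).2.1 (by decide)
  rwa [top_inf_eq] at this

omit [Finite G] in
theorem onb_cls {v : G} (hv : v ∈ S ⊓ Cx u) (ve : cm v e = z) :
    (v * v = 1 → ∃ d ∈ S ⊓ Cx u, d * v * d⁻¹ = t) ∧
      (v * v = z → ∃ d ∈ S ⊓ Cx u, d * v * d⁻¹ = w 0 1 2 * t) := by
  obtain ⟨a, b, c, i, j, k, rfl⟩ := o.onb_ex hv.1
  have h1 := mem_Cx.1 hv.2
  have h2 : ev w t s r ⟨a, b, c, i, j, k⟩ * e = z * e * ev w t s r ⟨a, b, c, i, j, k⟩ := by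
    rw [← ve, cm, mul_assoc _ e e, o.q.n.ee]; group
  rw [← o.eu, onb_w (w := w) (t := t) (s := s) (r := r) 0 0 2, o.onb_mm, o.onb_mm] at h1
  rw [← o.ez, ← o.ee, o.wr.mul, onb_w (w := w) (t := t) (s := s) (r := r) 2 0 0,
    onb_w (w := w) (t := t) (s := s) (r := r) (0 + 2), o.onb_mm, o.onb_mm] at h2
  have k0 := d_cls a b c i j k (o.onb_inj h1) (o.onb_inj h2)
  have dT : ∀ x y z l, ev w t s r ⟨x, y, z, 0, 0, l⟩ ∈ S ⊓ Cx u := fun x y z l =>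
    ⟨o.onb_S _, mem_Cx.2 (by
      rw [← o.eu, onb_w (w := w) (t := t) (s := s) (r := r) 0 0 2, o.onb_mm, o.onb_mm, d_u])⟩
  refine ⟨fun vv => ?_, fun vv => ?_⟩
  · obtain ⟨x, y, z', l, q⟩ := k0.1 (o.onb_inj (by rw [← o.onb_mm, vv, ← onb_w, o.wr.one]))
    refine ⟨_, dT x y z' l, ?_⟩
    rw [o.onb_mm, q, ← o.onb_mm, ← o.onb_t, mul_inv_cancel_right]
  · obtain ⟨x, y, z', l, q⟩ := k0.2 (o.onb_inj (by rw [← o.onb_mm, vv, ← onb_w, o.ez]))
    refine ⟨_, dT x y z' l, ?_⟩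
    rw [o.onb_mm, q, ← o.onb_mm, ← o.onb_mm, ← o.onb_t, ← onb_w, mul_inv_cancel_right]

theorem cls1 {v : G} (hv : v ∈ S ⊓ Cx u) (ve : cm v e = z) (vv : v * v = 1) :
    ∃ d ∈ S ⊓ Cx u, d * v * d⁻¹ = t := (o.onb_cls hv ve).1 vv

theorem cls2 {v : G} (hv : v ∈ S ⊓ Cx u) (ve : cm v e = z) (vv : v * v = z) :
    ∃ d ∈ S ⊓ Cx u, d * v * d⁻¹ = w 0 1 2 * t := (o.onb_cls hv ve).2 vv

theorem sqz {v : G} (hv : v ∈ S) (vv : v * v = z) :
    ∀ a ∈ V3 z u e, v * a * v⁻¹ = a ∨ v * a * v⁻¹ = z * a := by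
  intro p hp
  obtain ⟨x, y, z', rfl⟩ := (o.memC p).1 (o.q.A_le hp)
  have p2 := o.q.n.elE o.q.c _ hp
  rw [o.wr.mul, ← o.wr.one] at p2
  obtain ⟨b1, b2, b3⟩ := o.wr.inj p2
  obtain ⟨a, b, c, i, j, k, rfl⟩ := o.onb_ex hv
  have := d_sq a b c i j k (o.onb_inj (by rw [← o.onb_mm, vv, ← onb_w, o.ez])) x y z' b1 b2 b3
  refine this.imp (fun q => ?_) fun q => ?_
  · rw [onb_w (w := w) (t := t) (s := s) (r := r) x y z', o.onb_mm, q, ← o.onb_mm, mul_inv_cancel_right]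
  · rw [onb_w (w := w) (t := t) (s := s) (r := r) x y z', o.onb_mm, q, ← o.onb_mm, ← o.onb_mm, ← onb_w 0 2 0,
      o.ez, mul_inv_cancel_right]

/-- an element normalising `C` and centralising `A` centralises `C` -/
theorem cenC {n : G} (hn : n ∈ normalizer ((S ⊓ Cx u ⊓ Cx e : Subgroup G) : Set G)) (nz : n * z = z * n)
    (nu : n * u = u * n) (ne : n * e = e * n) : ∀ c ∈ S ⊓ Cx u ⊓ Cx e, n * c = c * n := by
  have a1 : ∀ a b c : ZMod 4, a + a = 0 → b + b = 0 → c + c = 0 → Commute n (w a b c) := by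
    intro a b c h1 h2 h3
    have e1 : w a b c = w a 0 0 * w 0 b 0 * w 0 0 c := by simp [o.wr.mul]
    rw [e1]
    refine Commute.mul_right (Commute.mul_right ?_ ?_) ?_
    · rcases d_two a h1 with rfl | rfl
      exacts [o.wr.one ▸ Commute.one_right n, o.ee ▸ ne]
    · rcases d_two b h2 with rfl | rfl
      exacts [o.wr.one ▸ Commute.one_right n, o.ez ▸ nz]
    · rcases d_two c h3 with rfl | rfl
      exacts [o.wr.one ▸ Commute.one_right n, o.eu ▸ nu]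
  have a2 : ∀ c ∈ S ⊓ Cx u ⊓ Cx e, Commute (n ^ 2) c := fun c hc => by
    obtain ⟨a', b', c', q⟩ := (o.memC _).1 (conj_mem_of_mem_normalizer hn hc)
    obtain ⟨a, b, c, rfl⟩ := (o.memC _).1 hc
    have d4 : ∀ x : ZMod 4, x + x + (x + x) = 0 := by decide
    have e1 : w (a' + a') (b' + b') (c' + c') = w (a + a) (b + b) (c + c) := by
      rw [← o.wr.mul, q, conj_mul, o.wr.mul, (a1 _ _ _ (d4 a) (d4 b) (d4 c)).eq, mul_inv_cancel_right]
    obtain ⟨b1, b2, b3⟩ := o.wr.inj e1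
    have c1 := a1 (a' - a) (b' - b) (c' - c) (by linear_combination b1) (by linear_combination b2)
      (by linear_combination b3)
    have e2 : w a' b' c' = w (a' - a) (b' - b) (c' - c) * w a b c := by simp [o.wr.mul]
    have e3 : n * w a' b' c' * n⁻¹ = w a b c := by
      calc n * w a' b' c' * n⁻¹ = n * w (a' - a) (b' - b) (c' - c) * n⁻¹ * (n * w a b c * n⁻¹) := by
            rw [e2]; group
        _ = _ := by
          rw [c1.eq, mul_inv_cancel_right, ← q, o.wr.mul]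
          exact Wr.congr (by linear_combination b1) (by linear_combination b2) (by linear_combination b3)
    rw [q] at e3
    show n ^ 2 * _ = _ * n ^ 2
    conv_rhs => rw [← e3]
    rw [sq]; group
  obtain ⟨k, m, hm, hk⟩ := Nat.exists_eq_two_pow_mul_odd (orderOf_pos n).ne'
  have a3 : n ^ m ∈ S ⊓ Cx u ⊓ Cx e := o.q.sylC.le_of_normalizes (Q := zpowers (n ^ m))
    (isPGroup_iff_mem.2 (by
      rintro _ ⟨j, rfl⟩
      refine ⟨k, ?_⟩
      show ((n ^ m) ^ j) ^ 2 ^ k = 1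
      rw [← zpow_natCast, ← zpow_mul, mul_comm, zpow_mul, zpow_natCast, ← pow_mul, mul_comm, ← hk,
        pow_orderOf_eq_one, one_zpow]))
    (zpowers_le.2 (pow_mem (show n ∈ Cx z ⊓ Cx u ⊓ Cx e from
      ⟨⟨mem_Cx.2 nz, mem_Cx.2 nu⟩, mem_Cx.2 ne⟩) m)) (zpowers_le.2 (pow_mem hn m)) (mem_zpowers _)
  intro c hc
  have a4 : Commute (n ^ m) c := by
    obtain ⟨a', b', c', q⟩ := (o.memC _).1 a3
    obtain ⟨a, b, c, rfl⟩ := (o.memC _).1 hc
    rw [← q]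
    show _ * _ = _ * _
    rw [o.wr.mul, o.wr.mul, add_comm a, add_comm b, add_comm c]
  obtain ⟨j, rfl⟩ := hm
  have := ((a2 c hc).pow_left j).inv_left.mul_left a4
  rwa [pow_succ n (2 * j), pow_mul, inv_mul_cancel_left] at this

theorem onb_X : (∀ x ∈ X1 w t s, r * x * r⁻¹ ∈ X2 w t s) ∧ ∀ x ∈ X2 w t s, r * x * r⁻¹ ∈ X1 w t s := by
  have ri : r⁻¹ = r := inv_eq_of_mul_eq_one_right o.rr
  have k : ∀ X : Subgroup G, w 2 0 0 ∈ X → w 0 0 2 ∈ X → w 0 1 2 ∈ X →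
      (r * w 2 0 0 * r⁻¹ ∈ X ∧ r * w 0 0 2 * r⁻¹ ∈ X ∧ r * w 0 1 2 * r⁻¹ ∈ X) ∧ w 2 1 0 ∈ X ∧ w 2 1 2 ∈ X :=
    fun X h1 h2 h3 => by
      have a1 := mul_mem h1 h2
      have a2 := inv_mem h3
      have a3 := mul_mem h1 h3
      have a4 := mul_mem a3 h2
      rw [o.wr.mul] at a1 a3 a4
      rw [o.wr.mul] at a4
      rw [o.wr.inv] at a2
      simp only [o.rw]
      exact ⟨⟨a1, h2, a2⟩, a4, a3⟩
  have cl : ∀ (A : Set G) (X : Subgroup G), (∀ x ∈ A, r * x * r⁻¹ ∈ X) → ∀ x ∈ closure A, r * x * r⁻¹ ∈ X :=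
    fun A X h => cj_le_iff.1 ((map_le_iff_le_comap.trans (closure_le _)).2 h)
  constructor
  · have m : ∀ x ∈ ({w 2 0 0, w 0 0 2, w 0 1 2, t * w 0 0 1, s * w 1 0 0} : Set G), x ∈ X2 w t s :=
      fun x hx => subset_closure hx
    obtain ⟨⟨b1, b2, b3⟩, b4, -⟩ := k (X2 w t s) (m _ (by simp)) (m _ (by simp)) (m _ (by simp))
    have b5 : r * t * r⁻¹ ∈ X2 w t s := by
      have := mul_mem (m (t * w 0 0 1) (by simp)) b4
      rw [mul_assoc, o.wr.mul] at this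
      rw [ri, o.rt]
      exact this
    have b6 : r * s * r⁻¹ ∈ X2 w t s := by
      have := mul_mem (m (t * w 0 0 1) (by simp)) (m (s * w 1 0 0) (by simp))
      have e1 : w 0 0 1 * s = s * w 2 1 1 := by
        rw [mul_inv_eq_iff_eq_mul.1 (o.wr.sw 2 1 1)]; rfl
      rw [mul_assoc t, ← mul_assoc _ s, e1, mul_assoc s, o.wr.mul, ← mul_assoc] at this
      rw [ri, o.rs]
      exact this
    refine cl _ _ fun x hx => ?_
    simp only [Set.mem_insert_iff, Set.mem_singleton_iff] at hx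
    rcases hx with h | h | h | h | h <;> rw [h] <;> assumption
  · have m : ∀ x ∈ ({w 2 0 0, w 0 0 2, w 0 1 2, t, s} : Set G), x ∈ X1 w t s :=
      fun x hx => subset_closure hx
    obtain ⟨⟨b1, b2, b3⟩, -, b4⟩ := k (X1 w t s) (m _ (by simp)) (m _ (by simp)) (m _ (by simp))
    have b5 : r * (t * w 0 0 1) * r⁻¹ ∈ X1 w t s := by
      rw [← conj_mul, o.rw, ri, o.rt, mul_assoc, o.wr.mul]
      exact mul_mem (m t (by simp)) b4
    have b6 : r * (s * w 1 0 0) * r⁻¹ ∈ X1 w t s := by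
      rw [← conj_mul, o.rw, ri, o.rs, mul_assoc, o.wr.mul]
      exact mul_mem (mul_mem (m t (by simp)) (m s (by simp))) b4
    refine cl _ _ fun x hx => ?_
    simp only [Set.mem_insert_iff, Set.mem_singleton_iff] at hx
    rcases hx with h | h | h | h | h <;> rw [h] <;> assumption

/-- `C(i)` as an abstract group -/
theorem onk : ∃ (w' : ZMod 4 → ZMod 4 → ZMod 4 → Cx (w 0 1 2)) (t' s' ρ' σ' : Cx (w 0 1 2)),
    (∀ a b c, (w' a b c : G) = w a b c) ∧ (t' : G) = t ∧ (s' : G) = s ∧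
      ONK ((S ⊓ Cx (w 0 1 2)).subgroupOf (Cx (w 0 1 2))) w' t' s' ρ' σ' := by
  have m1 : ∀ a b c, w a b c ∈ Cx (w 0 1 2) := fun a b c => (o.memM.2 ⟨a, b, c, 0, 0, by simp⟩).2
  have m2 : t ∈ Cx (w 0 1 2) := (o.memM.2 ⟨0, 0, 0, 1, 0, by simp [o.wr.one]⟩).2
  have m3 : s ∈ Cx (w 0 1 2) := (o.memM.2 ⟨0, 0, 0, 0, 1, by simp [o.wr.one]⟩).2
  have ri : r⁻¹ = r := inv_eq_of_mul_eq_one_right o.rr
  have m4 : r * ρ * r⁻¹ ∈ Cx (w 0 1 2) := by
    have e1 : r * (w 0 1 2)⁻¹ * r⁻¹ = w 0 1 2 := by rw [o.wr.inv, o.rw]; rfl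
    have := conj_mem_Cx (g := r).2 (mem_Cx.2 (Commute.inv_right (o.ρi : Commute ρ _)))
    rwa [e1] at this
  have ρu : ∀ a b c, ρ * w 0 0 2 * ρ⁻¹ ≠ w a b c := fun a b c q => by
    rw [o.eu] at q
    rcases o.ρu with h | h
    · refine (d_ut a b c).1 (o.onb_inj ?_)
      rw [← o.onb_mm, ← onb_w, ← onb_w, ← o.onb_t, o.eu, ← h, q]
    · refine (d_ut a b c).2 (o.onb_inj ?_)
      rw [← o.onb_mm, ← o.onb_mm, ← onb_w, ← onb_w, ← onb_w, ← o.onb_t, o.eu, o.ez, ← h, q]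
  have tr : ∀ (A : Set (Cx (w 0 1 2))) (n : Cx (w 0 1 2)),
      (∀ x ∈ closure (Subtype.val '' A), n * x * (n : G)⁻¹ ∈ closure (Subtype.val '' A)) →
      n ∈ normalizer ((closure A : Subgroup (Cx (w 0 1 2))) : Set (Cx (w 0 1 2))) := fun A n h => by
    have e1 : ∀ x : Cx (w 0 1 2), x ∈ closure A ↔ (x : G) ∈ closure (Subtype.val '' A) := fun x => by
      rw [← coe_subtype, ← MonoidHom.map_closure]
      exact (mem_map_iff_mem (subtype_injective _)).symm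
    exact mem_normalizer_of_forall fun x hx => (e1 _).2 (h _ ((e1 _).1 hx))
  refine ⟨fun a b c => ⟨w a b c, m1 a b c⟩, ⟨t, m2⟩, ⟨s, m3⟩, ⟨ρ, mem_Cx.2 o.ρi⟩, ⟨_, m4⟩,
    fun _ _ _ => rfl, rfl, rfl, ⟨le_top, o.sylM.pgroup.comap_subtype, ?_⟩,
    ⟨fun a b c a' b' c' => Subtype.ext (o.wr.mul a b c a' b' c'),
      fun h => o.wr.inj (congrArg Subtype.val h), fun a b c => Subtype.ext (o.wr.tw a b c),
      fun a b c => Subtype.ext (o.wr.sw a b c), Subtype.ext o.wr.tt, Subtype.ext o.wr.ss,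
      Subtype.ext o.wr.st⟩, fun x => ?_, fun x => Subtype.ext (mem_Cx.1 x.2), tr _ _ ?_,
    fun a b c h => ρu a b c (congrArg Subtype.val h), tr _ _ ?_, fun a b c h => ?_⟩
  · rw [relIndex_top_right]
    exact o.sylM.not_dvd
  · rw [mem_subgroupOf, o.memM]
    simp only [Subtype.ext_iff, coe_mul, coe_pow]
  · simp only [Set.image_insert_eq, Set.image_singleton]
    exact fun x hx => conj_mem_of_mem_normalizer o.ρX hx
  · simp only [Set.image_insert_eq, Set.image_singleton, coe_mul]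
    intro x hx
    have := o.onb_X.1 _ (conj_mem_of_mem_normalizer o.ρX (o.onb_X.2 x hx))
    convert this using 1
    rw [mul_inv_rev, mul_inv_rev, inv_inv, ri]; group
  · have h' : r * ρ * r⁻¹ * w 0 0 2 * (r * ρ * r⁻¹)⁻¹ = w a b c := congrArg Subtype.val h
    refine ρu (-a) (-b) (a + c) ?_
    rw [← o.rw, ← h', show w 0 0 2 = r * w 0 0 2 * r⁻¹ by rw [o.rw]; rfl]
    conv_lhs => rw [o.rw]
    calc ρ * w (-0) (-0) (0 + 2) * ρ⁻¹ = r * r * ρ * w 0 0 2 * ρ⁻¹ * (r * r)⁻¹ := by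
          rw [o.rr]; simp
      _ = _ := by group

end ONG

end CfsgLib.Rk3B
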